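import Cfsg.Agent.Lib.SEMain.Basic
import Cfsg.Agent.S0283
import Cfsg.Agent.S1162
import Mathlib.LinearAlgebra.Matrix.SpecialLinearGroup

/-!
The groups on Bender's list are simple.
-/

set_option autoImplicit false
set_option linter.style.haveILetI false
set_option linter.unusedSectionVars false

namespace Cfsg.Agent.SEMain

universe u v

theorem isBender_congr {L : Type u} [Group L] {M : Type v} [Group M] (e : M ≃* L)
    (h : SEBender.IsBender L) : SEBender.IsBender M := by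
  rcases h with ⟨F, i1, i2, hn, ⟨f⟩⟩ | ⟨F, i1, i2, m, hm, hF, ⟨f⟩⟩ | ⟨F, i1, i2, n, hn, hF, ⟨f⟩⟩
  · exact Or.inl ⟨F, i1, i2, hn, ⟨e.trans f⟩⟩
  · exact Or.inr (Or.inl ⟨F, i1, i2, m, hm, hF, ⟨e.trans f⟩⟩)
  · exact Or.inr (Or.inr ⟨F, i1, i2, n, hn, hF, ⟨e.trans f⟩⟩)

theorem isSimple_of_bender {L : Type u} [Group L] (h : SEBender.IsBender L) : IsSimpleGroup L := by
  rcases h with ⟨F, i1, i2, ⟨n, hn, hF⟩, ⟨f⟩⟩ | ⟨F, i1, i2, m, hm, hF, ⟨f⟩⟩ | ⟨F, i1, i2, n, hn, hF, ⟨f⟩⟩
  · haveI := Matrix.ProjectiveSpecialLinearGroup.rank_two_simple (F := F) (by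
      rw [Nat.card_eq_fintype_card, hF]
      exact le_trans (by norm_num) (Nat.pow_le_pow_right two_pos hn))
    exact f.isSimpleGroup
  · haveI := Cfsg.Agent.S1162.result hm hF
    exact f.isSimpleGroup
  · haveI := Cfsg.Agent.S0283.result hF 3 le_rfl (fun hh => by
      have := Nat.pow_le_pow_right (two_pos : 0 < 2) hn
      omega)
    exact f.isSimpleGroup

/-- In characteristic two `PSL(2, F)` is `SL(2, F)`. -/
theorem psl_equiv_sl {F : Type} [Field F] [Fintype F] [CharP F 2] :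
    Nonempty (Matrix.ProjectiveSpecialLinearGroup (Fin 2) F ≃* Matrix.SpecialLinearGroup (Fin 2) F) := by
  have hc : Subgroup.center (Matrix.SpecialLinearGroup (Fin 2) F) = ⊥ := by
    rw [eq_bot_iff]
    intro z hz
    obtain ⟨l, hl, hz'⟩ := Matrix.SpecialLinearGroup.mem_center_iff.1 hz
    simp only [Fintype.card_fin] at hl
    have : l = 1 := by
      rcases sq_eq_one_iff.1 hl with rfl | rfl
      · rfl
      · exact CharTwo.neg_eq 1
    subst this
    exact Subgroup.mem_bot.2 (Subtype.ext (by rw [← hz']; simp))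
  exact ⟨(QuotientGroup.quotientMulEquivOfEq hc).trans QuotientGroup.quotientBot⟩

end Cfsg.Agent.SEMain
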