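import Cfsg.Agent.Lib.SEMain.Consumers
import Cfsg.Agent.Lib.SEMain.Simple
import Cfsg.Agent.Lib.LocalEven.StrongEmb2
import Cfsg.Agent.Lib.RankOne.FromSE
import Cfsg.Prelude.Def_ClassificationStages
import Cfsg.Prelude.Def_Amalgam

/-!
Bender's classification and its consequences, from the main statement.
-/

set_option autoImplicit false
set_option linter.style.haveILetI false
set_option linter.unusedSectionVars false

namespace Cfsg.Agent.SEMain

open Subgroup

universe u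

variable {G : Type u} [Group G] [Finite G] {H : Subgroup G}

theorem se_of_strongly (h : Cfsg.IsStronglyPEmbedded 2 H) : Cfsg.IsStronglyEmbedded H := by
  haveI : Fact (Nat.Prime 2) := ⟨Nat.prime_two⟩
  obtain ⟨h1, h2, h3⟩ := (LEStrongEmb.iff_inter H).1 h
  refine ⟨h1, even_iff_two_dvd.2 h2, fun g hg => ?_⟩
  rw [← Nat.not_even_iff_odd, even_iff_two_dvd]
  exact h3 g hg

section Simple

variable [IsSimpleGroup G]

theorem core_eq_bot_of_simple (hH : H ≠ ⊤) : H.normalCore = ⊥ :=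
  H.normalCore_normal.eq_bot_or_eq_top.resolve_right fun h => hH (top_le_iff.1 (h ▸ H.normalCore_le))

theorem not_rankOne_of_simple (hH : Cfsg.IsStronglyEmbedded H) : ¬ BrauerSuzuki.RankOne G := fun hR => by
  obtain ⟨x, y, hx, hy, hne, hx2, hy2, hc⟩ := RankOne.exists_commuting_of_simple hH
  exact hne (hR x y (Invol.order_two_of_sq hx2 hx) (Invol.order_two_of_sq hy2 hy) hc)

theorem bender_of_simple (h : Stmt.{u}) (hH : Cfsg.IsStronglyEmbedded H) :
    SEBender.IsBender G := by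
  obtain ⟨L, hL, hodd, hB⟩ := exists_bender h hH (core_eq_bot_of_simple hH.1)
    (exists_pair hH (not_rankOne_of_simple hH))
  have hLt : L = ⊤ := hL.eq_bot_or_eq_top.resolve_left fun hb => by
    rw [hb, index_bot] at hodd
    exact Nat.not_even_iff_odd.2 hodd (hH.2.1.trans_dvd (card_subgroup_dvd_card H))
  subst hLt
  exact isBender_congr topEquiv.symm hB

theorem exists_reg_simple (h : Stmt.{u}) (hH : Cfsg.IsStronglyEmbedded H) : ∃ Q, Reg H Q :=
  exists_reg h hH (core_eq_bot_of_simple hH.1) (exists_pair hH (not_rankOne_of_simple hH))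

theorem S0222_of (h : Stmt.{u}) (hH : Cfsg.IsStronglyEmbedded H) :
    (∃ (F : Type) (_ : Field F) (_ : Fintype F), CharP F 2 ∧ 4 ≤ Fintype.card F ∧
        Nonempty (G ≃* Matrix.ProjectiveSpecialLinearGroup (Fin 2) F)) ∨ Cfsg.IsSuzuki G ∨
      (∃ (F : Type) (_ : Field F) (_ : Fintype F) (q : ℕ), Fintype.card F = q ^ 2 ∧ Even q ∧ 4 ≤ q ∧
        Nonempty (G ≃* Cfsg.PSU 3 F q)) :=
  RankOne.simple_outcome hH (exists_bender h hH (core_eq_bot_of_simple hH.1)
    (exists_pair hH (not_rankOne_of_simple hH)))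

end Simple

theorem index_odd (hH : Cfsg.IsStronglyEmbedded H) : Odd H.index := by
  haveI : Fact (Nat.Prime 2) := ⟨Nat.prime_two⟩
  obtain ⟨z, hzH, hz⟩ := Invol.exists_invol hH.2.1
  have hP : IsPGroup 2 (zpowers z) :=
    IsPGroup.of_card (n := 1) (by rw [Nat.card_zpowers, hz, pow_one])
  have h1 := hP.card_modEq_card_fixedPoints (G ⧸ H)
  have hfix : Nat.card (MulAction.fixedPoints (zpowers z) (G ⧸ H)) = 1 := by
    rw [Nat.card_eq_one_iff_unique]
    refine ⟨⟨fun a b => Subtype.ext (Invol.se_fix_unique hH hz (a.2 ⟨z, mem_zpowers z⟩)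
      (b.2 ⟨z, mem_zpowers z⟩))⟩, ⟨⟨((1 : G) : G ⧸ H), fun w => ?_⟩⟩⟩
    show (w : G) • ((1 : G) : G ⧸ H) = ((1 : G) : G ⧸ H)
    exact SEBrick.fix_base_iff.2 ((zpowers_le.2 hzH) w.2)
  rw [hfix, ← index_eq_card] at h1
  exact Nat.odd_iff.2 h1

theorem Reg.exists_sylow {Q : Subgroup G} (hQ : Reg H Q) (hH : Cfsg.IsStronglyEmbedded H) :
    ∃ S : Sylow 2 G, (S : Subgroup G) = Q := by
  haveI : Fact (Nat.Prime 2) := ⟨Nat.prime_two⟩
  have hodd : Odd Q.index := by
    rw [← relIndex_mul_index hQ.le]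
    exact (hQ.odd_index hH).mul (index_odd hH)
  refine ⟨hQ.two.toSylow ?_, rfl⟩
  exact fun hd => Nat.not_even_iff_odd.2 hodd (even_iff_two_dvd.2 hd)

theorem S1792_of [IsSimpleGroup G] (h : Stmt.{u}) (M : Subgroup G) (hmax : IsCoatom M)
    (hM : Cfsg.IsStronglyPEmbedded 2 M) :
    ((∃ (F : Type) (_ : Field F) (_ : Fintype F) (n : ℕ), 2 ≤ n ∧ Fintype.card F = 2 ^ n ∧
        Nonempty (G ≃* Matrix.ProjectiveSpecialLinearGroup (Fin 2) F)) ∨
      Cfsg.Lie.IsoSuzuki G ∨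
      (∃ (F : Type) (_ : Field F) (_ : Fintype F) (n : ℕ), 2 ≤ n ∧ Fintype.card F = (2 ^ n) ^ 2 ∧
        Nonempty (G ≃* Cfsg.PSU 3 F (2 ^ n)))) ∧
    ∃ S : Sylow 2 G, M = Subgroup.normalizer ((S : Subgroup G) : Set G) := by
  have hH := se_of_strongly hM
  refine ⟨?_, ?_⟩
  · rcases bender_of_simple h hH with ⟨F, i1, i2, ⟨n, hn, hF⟩, e⟩ | h' | h'
    · exact Or.inl ⟨F, i1, i2, n, hn, hF, e⟩
    · exact Or.inr (Or.inl h')
    · exact Or.inr (Or.inr h')
  · obtain ⟨Q, hQ⟩ := exists_reg_simple h hH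
    obtain ⟨S, hS⟩ := hQ.exists_sylow hH
    refine ⟨S, ?_⟩
    rw [hS]
    have hle : M ≤ normalizer (Q : Set G) :=
      SEBrick.le_normalizer_of fun m hm x hx => hQ.conj_mem hm hx
    by_contra hne
    have htop := hmax.2 _ (lt_of_le_of_ne hle hne)
    rcases (normalizer_eq_top_iff.1 htop).eq_bot_or_eq_top with hb | ht
    · exact hQ.ne_bot hH hb
    · exact hmax.1 (top_le_iff.1 (ht ▸ hQ.le))

theorem map_conj_eq_iff {M : Subgroup G} (hN : normalizer (M : Set G) = M) {a b : G} :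
    M.map (MulAut.conj a).toMonoidHom = M.map (MulAut.conj b).toMonoidHom ↔ b⁻¹ * a ∈ M := by
  constructor
  · intro e
    rw [← hN]
    refine SEBrick.mem_normalizer_of fun x hx => ?_
    have h2 : a * x * a⁻¹ ∈ M.map (MulAut.conj b).toMonoidHom := e ▸ Invol.mem_conj_map.2 (by
      simpa [mul_assoc] using hx)
    have := Invol.mem_conj_map.1 h2
    simpa [mul_assoc] using this
  · intro hm
    ext x
    rw [Invol.mem_conj_map, Invol.mem_conj_map]
    constructor <;> intro hx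
    · have e : b⁻¹ * x * b = b⁻¹ * a * (a⁻¹ * x * a) * (b⁻¹ * a)⁻¹ := by group
      rw [e]; exact mul_mem (mul_mem hm hx) (inv_mem hm)
    · have e : a⁻¹ * x * a = (b⁻¹ * a)⁻¹ * (b⁻¹ * x * b) * (b⁻¹ * a) := by group
      rw [e]; exact mul_mem (mul_mem (inv_mem hm) hx) hm

theorem map_conj_ne_iff {M : Subgroup G} (hN : normalizer (M : Set G) = M) {a : G} :
    M.map (MulAut.conj a).toMonoidHom ≠ M ↔ a ∉ M := by
  have h1 : M.map (MulAut.conj (1 : G)).toMonoidHom = M := by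
    ext x; rw [Invol.mem_conj_map]; simp
  have h2 := map_conj_eq_iff hN (a := a) (b := 1)
  rw [h1, inv_one, one_mul] at h2
  rw [ne_eq, h2]

theorem conj_conj_map {M : Subgroup G} (a m : G) :
    (M.map (MulAut.conj a).toMonoidHom).map (MulAut.conj m).toMonoidHom =
      M.map (MulAut.conj (m * a)).toMonoidHom := by
  ext x
  rw [Invol.mem_conj_map, Invol.mem_conj_map, Invol.mem_conj_map, mul_inv_rev]
  simp only [mul_assoc]

theorem S2027_of [IsSimpleGroup G] (h : Stmt.{u}) (M : Subgroup G) (hmax : IsCoatom M)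
    (hM : Cfsg.IsStronglyPEmbedded 2 M) : Cfsg.IsDoublyTransitiveSuzukiType M := by
  have hH := se_of_strongly hM
  obtain ⟨Q, hQ⟩ := exists_reg_simple h hH
  obtain ⟨g, hg⟩ := exists_not_mem hH
  have hN : normalizer (M : Set G) = M := by
    by_contra hne
    have htop := hmax.2 _ (lt_of_le_of_ne le_normalizer (Ne.symm hne))
    rcases (normalizer_eq_top_iff.1 htop).eq_bot_or_eq_top with hb | ht
    · exact hQ.ne_bot hH (le_bot_iff.1 (hb ▸ hQ.le))
    · exact hH.1 ht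
  have hD : M ⊓ normalizer ((M.map (MulAut.conj g).toMonoidHom : Subgroup G) : Set G) =
      M ⊓ M.map (MulAut.conj g).toMonoidHom := by
    refine le_antisymm (inf_le_inf_left _ fun x hx => ?_) (inf_le_inf_left _ le_normalizer)
    rw [Invol.mem_conj_map, ← hN]
    refine SEBrick.mem_normalizer_of fun y hy => ?_
    have h2 := Invol.mem_conj_map.1 (SEBrick.conj_mem_of hx
      (Invol.mem_conj_map.2 (show g⁻¹ * (g * y * g⁻¹) * g ∈ M by simpa [mul_assoc] using hy)))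
    simpa [mul_assoc] using h2
  refine ⟨hN, ⟨g, (map_conj_ne_iff hN).2 hg⟩, fun g₁ g₂ h₁ h₂ => ?_,
    g, (map_conj_ne_iff hN).2 hg, Q, hQ.le, hQ.norm, ?_, ?_, ?_, ?_, fun g₁ g₂ h₁ h₂ => ?_⟩
  · rw [map_conj_ne_iff hN] at h₁ h₂
    obtain ⟨u, hu, he⟩ := hQ.trans g₁ g₂ h₁ h₂
    exact ⟨u, hQ.le hu, by rw [conj_conj_map, map_conj_eq_iff hN]; exact he⟩
  · rw [hD, eq_bot_iff]
    intro x hx
    obtain ⟨hxQ, hxD⟩ := mem_inf.1 hx
    exact mem_bot.2 (hQ.reg g hg x hxQ (by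
      rw [← mul_assoc]; exact Invol.mem_conj_map.1 (mem_inf.1 hxD).2))
  · rw [hD]
    refine le_antisymm (sup_le hQ.le inf_le_left) fun m hm => ?_
    obtain ⟨u, hu, he⟩ := hQ.trans g (m * g) hg fun hh => hg (by
      simpa using M.mul_mem (M.inv_mem hm) hh)
    have hd : g⁻¹ * (u⁻¹ * m) * g ∈ M := by simpa [mul_assoc] using M.inv_mem he
    have hk : u⁻¹ * m ∈ M ⊓ M.map (MulAut.conj g).toMonoidHom :=
      mem_inf.2 ⟨mul_mem (inv_mem (hQ.le hu)) hm, Invol.mem_conj_map.2 hd⟩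
    simpa using (Q ⊔ M ⊓ M.map (MulAut.conj g).toMonoidHom).mul_mem (mem_sup_left hu) (mem_sup_right hk)
  · haveI : Fact (Nat.Prime 2) := ⟨Nat.prime_two⟩
    exact hQ.two.isNilpotent
  · obtain ⟨S, hS⟩ := hQ.exists_sylow hH
    exact ⟨S, hS.le⟩
  · rw [map_conj_ne_iff hN] at h₁ h₂
    obtain ⟨u, hu, he⟩ := hQ.trans g₁ g₂ h₁ h₂
    refine ⟨⟨u, hu⟩, ?_, fun v hv => ?_⟩
    · show (M.map (MulAut.conj g₁).toMonoidHom).map (MulAut.conj u).toMonoidHom = _
      rw [conj_conj_map, map_conj_eq_iff hN]; exact he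
    · simp only at hv
      rw [conj_conj_map, map_conj_eq_iff hN] at hv
      have e : g₂⁻¹ * ((v : G) * u⁻¹ * g₂) = g₂⁻¹ * ((v : G) * g₁) * (g₂⁻¹ * (u * g₁))⁻¹ := by group
      have := hQ.reg g₂ h₂ ((v : G) * u⁻¹) (mul_mem v.2 (inv_mem hu))
        (by rw [e]; exact mul_mem hv (inv_mem he))
      exact Subtype.ext (mul_inv_eq_one.1 this)

theorem S2903_of (h : Stmt.{u}) (hrank : Cfsg.PRankAtLeast 2 2 G)
    (hH : Cfsg.IsStronglyPEmbedded 2 H) : Group.IsSolvable H := by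
  have hse := se_of_strongly hH
  obtain ⟨A, hA, hA2, hA4⟩ := hrank
  have hR : ¬ BrauerSuzuki.RankOne G := fun hR => by
    haveI := hA
    have hle : (A : Set G).ncard ≤ 2 := by
      by_cases hx : ∃ a ∈ A, a ≠ 1
      · obtain ⟨a, ha, ha1⟩ := hx
        refine le_trans (Set.ncard_le_ncard (t := {1, a}) (fun b hb => ?_) (Set.toFinite _)) ?_
        · by_cases hb1 : b = 1
          · exact Or.inl hb1
          · exact Or.inr (hR b a (Invol.order_two_of_sq (by rw [← pow_two]; exact hA2 b hb) hb1)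
              (Invol.order_two_of_sq (by rw [← pow_two]; exact hA2 a ha) ha1)
              (setLike_mul_comm hb ha))
        · exact (Set.ncard_insert_le _ _).trans (by rw [Set.ncard_singleton])
      · push Not at hx
        refine le_trans (Set.ncard_le_ncard (t := {1}) (fun b hb => hx b hb) (Set.toFinite _)) ?_
        simp
    rw [← Nat.card_coe_set_eq] at hle
    have : 2 ^ 2 ≤ 2 := hA4.trans hle
    omega
  have hle := H.normalCore_le
  have hN := SEBender.odd_normalCore hse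
  obtain ⟨Q, hQ⟩ := exists_reg_quot h hse (exists_pair hse hR) hle hN le_rfl
  haveI := hQ.isSolvable (se_map hle hN hse)
  haveI : Group.IsSolvable H.normalCore := OddChar.oddSolvable _ hN
  refine Group.isSolvable_of_ker_le_range (inclusion hle)
    ((QuotientGroup.mk' H.normalCore).subgroupMap H) fun x hx => ?_
  have h1 : ((x : G) : G ⧸ H.normalCore) = 1 := congrArg Subtype.val (MonoidHom.mem_ker.1 hx)
  exact ⟨⟨x, (QuotientGroup.eq_one_iff _).1 h1⟩, Subtype.ext rfl⟩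

theorem pElementClosure_eq {L : Subgroup G} (hL : L.Normal) (hodd : Odd L.index) [IsSimpleGroup L]
    (heven : Even (Nat.card G)) : Cfsg.pElementClosure 2 (⊤ : Subgroup G) = L := by
  haveI := hL
  set P := Cfsg.pElementClosure 2 (⊤ : Subgroup G) with hP
  have hPn : P.Normal := ⟨fun n hn g => by
    have hle : P ≤ P.comap (MulAut.conj g).toMonoidHom := (closure_le _).2 fun x ⟨_, k, hk⟩ =>
      subset_closure ⟨mem_top _, k, (MulEquiv.orderOf_eq (MulAut.conj g) x).trans hk⟩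
    exact hle hn⟩
  have hmem : ∀ x : G, (∃ k : ℕ, orderOf x = 2 ^ k) → x ∈ L := fun x ⟨k, hk⟩ => by
    have h1 : orderOf (x : G ⧸ L) ∣ 2 ^ k := hk ▸ orderOf_map_dvd (QuotientGroup.mk' L) x
    have h2 : orderOf (x : G ⧸ L) ∣ L.index := orderOf_dvd_natCard _
    exact (QuotientGroup.eq_one_iff x).1 (orderOf_eq_one_iff.1 (Nat.eq_one_of_dvd_coprimes
      (Nat.Coprime.pow_left k (Nat.coprime_two_left.2 hodd)) h1 h2))
  have hPL : P ≤ L := (closure_le _).2 fun x ⟨_, hx⟩ => hmem x hx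
  refine le_antisymm hPL ?_
  rcases (hPn.subgroupOf L).eq_bot_or_eq_top with hb | ht
  · exfalso
    obtain ⟨z, -, hz⟩ := Invol.exists_invol (K := (⊤ : Subgroup G)) (by rwa [card_top])
    have hzP : z ∈ P := subset_closure ⟨mem_top _, 1, by simpa using hz⟩
    have hm : (⟨z, hPL hzP⟩ : L) ∈ P.subgroupOf L := mem_subgroupOf.2 hzP
    rw [hb, mem_bot] at hm
    exact Invol.ne_one hz (congrArg Subtype.val hm)
  · exact subgroupOf_eq_top.1 ht

theorem S2798_of (h : Stmt.{u}) (hX : Cfsg.IsStronglyPEmbedded 2 H) :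
    (∀ t : G, orderOf t = 2 → Cfsg.pPrimeCore 2 G ⊔ centralizer ({t} : Set G) = ⊤ ∧
        ∀ u ∈ centralizer ({t} : Set G), orderOf u = 2 → u = t) ∨
    (∃ (F : Type) (_ : Field F) (_ : Fintype F), CharP F 2 ∧ 4 ≤ Fintype.card F ∧
        Nonempty (↥(Cfsg.pElementClosure 2 (⊤ : Subgroup (G ⧸ Cfsg.pPrimeCore 2 G))) ≃*
          Matrix.SpecialLinearGroup (Fin 2) F)) ∨
    (∃ (F : Type) (_ : Field F) (_ : Fintype F) (q : ℕ), Even q ∧ 4 ≤ q ∧ Fintype.card F = q ^ 2 ∧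
        Nonempty (↥(Cfsg.pElementClosure 2 (⊤ : Subgroup (G ⧸ Cfsg.pPrimeCore 2 G))) ≃*
          Cfsg.PSU 3 F q)) ∨
    Cfsg.Lie.IsoSuzuki ↥(Cfsg.pElementClosure 2 (⊤ : Subgroup (G ⧸ Cfsg.pPrimeCore 2 G))) := by
  have hse := se_of_strongly hX
  by_cases hR : BrauerSuzuki.RankOne G
  · refine Or.inl fun t ht => ⟨sup_centralizer hR ht, fun u hu hu2 => ?_⟩
    exact hR u t hu2 ht (mem_centralizer_singleton_iff.1 hu)
  refine Or.inr ?_
  have hp := exists_pair hse hR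
  haveI : (Cfsg.pPrimeCore 2 G).Normal := FittingCores.pPrimeCore_normal 2
  have hO : Cfsg.pPrimeCore 2 G = H.normalCore := oddCore_eq_normalCore h hse hp
  have hle : Cfsg.pPrimeCore 2 G ≤ H := hO.le.trans H.normalCore_le
  have hN : Odd (Nat.card (Cfsg.pPrimeCore 2 G)) := SEBrick.oddCore_odd
  have hse' := se_map hle hN hse
  obtain ⟨L, hL, hodd, hB⟩ :=
    exists_bender h hse' (core_map hle hO.ge) (pair_map hle hN hp)
  haveI := isSimple_of_bender hB
  have hP := pElementClosure_eq hL hodd (hse'.2.1.trans_dvd (card_subgroup_dvd_card _))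
  rw [hP]
  rcases hB with ⟨F, i1, i2, ⟨n, hn, hF⟩, ⟨f⟩⟩ | h' | ⟨F, i1, i2, n, hn, hF, ⟨f⟩⟩
  · haveI : Fact (Nat.Prime 2) := ⟨Nat.prime_two⟩
    haveI : CharP F 2 := charP_of_card_eq_prime_pow hF
    obtain ⟨e⟩ := psl_equiv_sl (F := F)
    refine Or.inl ⟨F, i1, i2, inferInstance, ?_, ⟨f.trans e⟩⟩
    rw [hF]
    exact le_trans (by norm_num) (Nat.pow_le_pow_right two_pos hn)
  · exact Or.inr (Or.inr h')
  · exact Or.inr (Or.inl ⟨F, i1, i2, 2 ^ n, Nat.even_pow.2 ⟨even_two, by omega⟩,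
      le_trans (by norm_num) (Nat.pow_le_pow_right two_pos hn), hF, ⟨f⟩⟩)

end Cfsg.Agent.SEMain
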