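import Cfsg.Agent.Lib.SEMain.Dichotomy
import Cfsg.Agent.Lib.Solvable.Coprime
import Cfsg.Agent.Lib.OddChar.OddTheorem

/-!
Sylow subgroups of two-point stabilisers: conjugacy, pairs whose Sylow subgroup fixes two points only, and
the midpoint of a swapper.
-/

set_option autoImplicit false
set_option linter.style.haveILetI false
set_option linter.unusedSectionVars false

namespace Cfsg.Agent.SEMain

open Subgroup MulAction

universe u

variable {G : Type u} [Group G] [Finite G] {H : Subgroup G} {r : ℕ} [Fact r.Prime]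

/-- The stabiliser of two points. -/
abbrev stabTwo (p q : G ⧸ H) : Subgroup G := stabilizer G p ⊓ stabilizer G q

/-- `P` is a maximal `r`-subgroup of the stabiliser of `p` and `q`. -/
def PairSyl (r : ℕ) (P : Subgroup G) (p q : G ⧸ H) : Prop :=
  IsPGroup r P ∧ P ≤ stabTwo p q ∧ ∀ T : Subgroup G, IsPGroup r T → P ≤ T → T ≤ stabTwo p q → T = P

/-- `P` fixes no further point. -/
def OnlyTwo (P : Subgroup G) (p q : G ⧸ H) : Prop :=
  ∀ f : G ⧸ H, P ≤ stabilizer G f → f = p ∨ f = q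

/-- A pair whose Sylow subgroup fixes exactly this pair. -/
def GoodPair (r : ℕ) (p q : G ⧸ H) : Prop :=
  p ≠ q ∧ ∃ P : Subgroup G, PairSyl r P p q ∧ OnlyTwo P p q

theorem stabTwo_comm (p q : G ⧸ H) : stabTwo p q = stabTwo q p := inf_comm _ _

theorem PairSyl.symm {P : Subgroup G} {p q : G ⧸ H} (h : PairSyl r P p q) : PairSyl r P q p :=
  ⟨h.1, stabTwo_comm p q ▸ h.2.1, fun T hT hle hTs => h.2.2 T hT hle (stabTwo_comm q p ▸ hTs)⟩

theorem GoodPair.symm {p q : G ⧸ H} (h : GoodPair r p q) : GoodPair r q p := by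
  obtain ⟨hne, P, hP, ho⟩ := h
  exact ⟨hne.symm, P, hP.symm, fun f hf => (ho f hf).symm⟩

theorem exists_pairSyl {T : Subgroup G} (hT : IsPGroup r T) {p q : G ⧸ H} (hle : T ≤ stabTwo p q) :
    ∃ P : Subgroup G, T ≤ P ∧ PairSyl r P p q := by
  obtain ⟨P, hTP, ⟨hP, hPD⟩, hmax⟩ := Finite.exists_le_maximal
    (p := fun S : Subgroup G => IsPGroup r S ∧ S ≤ stabTwo p q) ⟨hT, hle⟩
  exact ⟨P, hTP, hP, hPD, fun S hS hPS hSD => le_antisymm (hmax ⟨hS, hSD⟩ hPS) hPS⟩

theorem PairSyl.exists_sylow {P : Subgroup G} {p q : G ⧸ H} (h : PairSyl r P p q) :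
    ∃ S : Sylow r (stabTwo p q), (S : Subgroup (stabTwo p q)).map (stabTwo p q).subtype = P := by
  obtain ⟨hP, hPK, hm⟩ := h
  obtain ⟨S, hS⟩ := (hP.comap_subtype : IsPGroup r (P.subgroupOf (stabTwo p q))).exists_le_sylow
  exact ⟨S, hm _ (S.isPGroup'.map _) (fun y hy => ⟨⟨y, hPK hy⟩, hS hy, rfl⟩) (map_subtype_le _)⟩

theorem PairSyl.card_eq {P : Subgroup G} {p q : G ⧸ H} (h : PairSyl r P p q) :
    Nat.card P = r ^ (Nat.card (stabTwo p q)).factorization r := by
  obtain ⟨S, hS⟩ := h.exists_sylow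
  rw [← hS, CoprimeAct.card_map_sylow]

theorem le_card_of_le_stabTwo {T : Subgroup G} (hT : IsPGroup r T) {p q : G ⧸ H} (hle : T ≤ stabTwo p q) :
    Nat.card T ≤ r ^ (Nat.card (stabTwo p q)).factorization r := by
  obtain ⟨P, hTP, hP⟩ := exists_pairSyl hT hle
  exact (Subgroup.card_le_of_le hTP).trans hP.card_eq.le

theorem pairSyl_of_card {T : Subgroup G} (hT : IsPGroup r T) {p q : G ⧸ H} (hle : T ≤ stabTwo p q)
    (hc : Nat.card T = r ^ (Nat.card (stabTwo p q)).factorization r) : PairSyl r T p q :=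
  ⟨hT, hle, fun S hS hTS hSD => (eq_of_le_of_card_ge hTS
    (hc ▸ le_card_of_le_stabTwo hS hSD)).symm⟩

theorem PairSyl.exists_conj {P P' : Subgroup G} {p q : G ⧸ H} (h : PairSyl r P p q)
    (h' : PairSyl r P' p q) : ∃ d ∈ stabTwo p q, P.map (MulAut.conj d).toMonoidHom = P' := by
  obtain ⟨S, hS⟩ := h.exists_sylow
  obtain ⟨S', hS'⟩ := h'.exists_sylow
  obtain ⟨d, hd⟩ := exists_smul_eq (stabTwo p q) S S'
  refine ⟨d, d.2, ?_⟩
  rw [← hS, ← hS', ← hd, Sylow.coe_subgroup_smul]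
  ext x
  simp only [mem_map, MulEquiv.coe_toMonoidHom, MulAut.conj_apply, coe_subtype,
    Subgroup.mem_pointwise_smul_iff_inv_smul_mem, MulAut.smul_def, MulAut.conj_inv_apply]
  constructor
  · rintro ⟨_, ⟨y, hy, rfl⟩, rfl⟩
    exact ⟨d * y * d⁻¹, by simpa [mul_assoc] using hy, rfl⟩
  · rintro ⟨y, hy, rfl⟩
    exact ⟨_, ⟨_, hy, rfl⟩, by push_cast; group⟩

theorem le_stabilizer_map {P : Subgroup G} {g : G} {f : G ⧸ H} :
    P.map (MulAut.conj g).toMonoidHom ≤ stabilizer G (g • f) ↔ P ≤ stabilizer G f := by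
  rw [map_le_iff_le_comap]
  refine forall₂_congr fun x _ => ?_
  show (g * x * g⁻¹) • (g • f) = g • f ↔ x • f = f
  rw [mul_smul, mul_smul, inv_smul_smul]
  exact smul_left_cancel_iff g

theorem OnlyTwo.map {P : Subgroup G} {p q : G ⧸ H} (h : OnlyTwo P p q) (g : G) :
    OnlyTwo (P.map (MulAut.conj g).toMonoidHom) (g • p) (g • q) := fun f hf => by
  have h1 := h (g⁻¹ • f) (le_stabilizer_map.1 (by rwa [smul_inv_smul] : _ ≤ stabilizer G (g • g⁻¹ • f)))
  rwa [inv_smul_eq_iff, inv_smul_eq_iff] at h1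

theorem PairSyl.map {P : Subgroup G} {p q : G ⧸ H} (h : PairSyl r P p q) (g : G) :
    PairSyl r (P.map (MulAut.conj g).toMonoidHom) (g • p) (g • q) := by
  obtain ⟨hP, hle, hm⟩ := h
  refine ⟨hP.map _, le_inf (le_stabilizer_map.2 (hle.trans inf_le_left))
    (le_stabilizer_map.2 (hle.trans inf_le_right)), fun T hT hPT hTD => ?_⟩
  have e : (T.map (MulAut.conj g⁻¹).toMonoidHom).map (MulAut.conj g).toMonoidHom = T := by
    ext x
    simp only [mem_map, MulEquiv.coe_toMonoidHom, MulAut.conj_apply]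
    exact ⟨fun ⟨_, ⟨y, hy, e1⟩, e2⟩ => by rw [← e2, ← e1]; simpa [mul_assoc] using hy,
      fun hx => ⟨_, ⟨x, hx, rfl⟩, by group⟩⟩
  rw [← e] at hTD hPT ⊢
  refine congrArg _ (hm _ (hT.map _) ((map_le_map_iff_of_injective (MulAut.conj g).injective).1 hPT)
    (le_inf (le_stabilizer_map.1 (hTD.trans inf_le_left)) (le_stabilizer_map.1 (hTD.trans inf_le_right))))

theorem GoodPair.smul {p q : G ⧸ H} (h : GoodPair r p q) (g : G) : GoodPair r (g • p) (g • q) := by
  obtain ⟨hne, P, hP, ho⟩ := h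
  exact ⟨fun e => hne (smul_left_cancel g e), _, hP.map g, ho.map g⟩

/-- All Sylow subgroups of a good pair fix only the pair. -/
theorem GoodPair.only {p q : G ⧸ H} (h : GoodPair r p q) {P : Subgroup G} (hP : PairSyl r P p q) :
    OnlyTwo P p q := by
  obtain ⟨-, Q, hQ, ho⟩ := h
  obtain ⟨d, hd, rfl⟩ := hQ.exists_conj hP
  have := ho.map d
  rwa [show d • p = p from hd.1, show d • q = q from hd.2] at this

/-- A `r`-group properly containing `Y` contains one normalising `Y`. -/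
theorem exists_growth {Y T : Subgroup G} (hT : IsPGroup r T) (hlt : Y < T) :
    ∃ T₁ : Subgroup G, Y < T₁ ∧ T₁ ≤ T ∧ IsPGroup r T₁ ∧ T₁ ≤ normalizer (Y : Set G) := by
  haveI := hT.isNilpotent
  obtain ⟨y, hy, hyY⟩ := SetLike.exists_of_lt (Group.normalizerCondition_of_isNilpotent (G := T)
    (Y.subgroupOf T) (lt_top_iff_ne_top.2 fun e => hlt.not_ge (subgroupOf_eq_top.1 e)))
  have hg : (y : G) ∈ normalizer (Y : Set G) := SEBrick.mem_normalizer_of fun x hx =>
    mem_subgroupOf.1 (SEBrick.conj_mem_of (G := T) hy (show (⟨x, hlt.le hx⟩ : T) ∈ Y.subgroupOf T from hx))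
  refine ⟨normalizer (Y : Set G) ⊓ T, lt_of_le_of_ne (le_inf le_normalizer hlt.le) fun e => hyY ?_,
    inf_le_right, hT.to_le inf_le_right, inf_le_left⟩
  rw [mem_subgroupOf, e]
  exact ⟨hg, y.2⟩

/-- If `Y` is not a Sylow subgroup of the pair, a larger one normalises it. -/
theorem exists_growth_of_not_pairSyl {Y : Subgroup G} (hY : IsPGroup r Y) {p q : G ⧸ H}
    (hle : Y ≤ stabTwo p q) (h : ¬ PairSyl r Y p q) :
    ∃ T : Subgroup G, Y < T ∧ IsPGroup r T ∧ T ≤ stabTwo p q ∧ T ≤ normalizer (Y : Set G) := by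
  obtain ⟨P, hYP, hP⟩ := exists_pairSyl hY hle
  obtain ⟨T, h1, h2, h3, h4⟩ := exists_growth hP.1 (lt_of_le_of_ne hYP fun e => h (e ▸ hP))
  exact ⟨T, h1, h3, h2.trans hP.2.1, h4⟩

/-- The Sylow subgroup of a good pair is a maximal `r`-subgroup of the group. -/
theorem GoodPair.eq_of_le (hr2 : r ≠ 2) {a b : G ⧸ H} (h : GoodPair r a b) {P T : Subgroup G}
    (hP : PairSyl r P a b) (hT : IsPGroup r T) (hle : P ≤ T) : T = P := by
  by_contra hne
  obtain ⟨T₁, hlt, -, hT₁, hn⟩ := exists_growth hT (lt_of_le_of_ne hle (Ne.symm hne))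
  obtain ⟨y, hy, hyP⟩ := SetLike.exists_of_lt hlt
  have hodd : Odd (orderOf y) := by
    obtain ⟨n, hn⟩ := IsPGroup.iff_orderOf.1 hT₁ ⟨y, hy⟩
    rw [Subgroup.orderOf_mk] at hn
    rw [hn]
    exact ((Fact.out : r.Prime).odd_of_ne_two hr2).pow
  have ho := h.only hP
  have hya : y • a = a := (ho _ (le_stabilizer_smul (hn hy) (hP.2.1.trans inf_le_left))).resolve_right
    fun e => by
      rcases ho _ (le_stabilizer_smul (hn hy) (hP.2.1.trans inf_le_right)) with e' | e'
      · exact h.1 (eq_of_swap_odd hodd e e')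
      · exact h.1 (smul_left_cancel y (e.trans e'.symm))
  have hyb := smul_eq_of_pair h.1 ho (hP.2.1.trans inf_le_right) (hn hy) hya
  refine hyP ((hP.2.2 (P ⊔ zpowers y) (hT₁.to_le (sup_le hlt.le (zpowers_le.2 hy))) le_sup_left
    (sup_le hP.2.1 (zpowers_le.2 ⟨hya, hyb⟩))).le (mem_sup_right (mem_zpowers y)))

variable (hH : Cfsg.IsStronglyEmbedded H)
include hH

/-- A two-point stabiliser is transitive on the involutions fixing one of the points. -/
theorem exists_conj_fixInv {p q : G ⧸ H} (hpq : p ≠ q) {s t : G} (hs : orderOf s = 2) (hsp : s • p = p)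
    (ht : orderOf t = 2) (htp : t • p = p) : ∃ d ∈ stabTwo p q, d * s * d⁻¹ = t := by
  obtain ⟨u, hu, h1, h2⟩ := SESolv.exists_swapper hH hpq
  obtain ⟨⟨w, hw, hwq⟩, hwc⟩ := (Invol.swap_conj_bijective hH hpq ⟨s, hs, hsp⟩).2
    ⟨u * t * u⁻¹, by rw [Invol.order_conj, ht], h1 ▸ SESolv.conj_stab htp⟩
  have hwc' : w * s * w⁻¹ = u * t * u⁻¹ := Subtype.ext_iff.mp hwc
  have hwp : w • q = p := by rw [← hwq, ← mul_smul, Invol.mul_self hw, one_smul]
  refine ⟨u * w, ⟨show (u * w) • p = p by rw [mul_smul, hwq, h2],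
    show (u * w) • q = q by rw [mul_smul, hwp, h1]⟩, ?_⟩
  rw [show u * w * s * (u * w)⁻¹ = u * (w * s * w⁻¹) * u⁻¹ by group, hwc', Invol.inv_self hu,
    show u * (u * t * u) * u = (u * u) * t * (u * u) by group, Invol.mul_self hu, one_mul, mul_one]

theorem odd_stabTwo {p q : G ⧸ H} (hpq : p ≠ q) : Odd (Nat.card (stabTwo p q)) :=
  SEBrick.odd_card_of_orders fun _ ht ht2 => hpq (Invol.se_fix_unique hH ht2 ht.1 ht.2)

omit hH in
theorem card_eq_conjSet_mul {A : Subgroup G} {t : G} {P : G → Prop} (hP : P t)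
    (hinv : ∀ d ∈ A, ∀ s, P s → P (d * s * d⁻¹)) (htr : ∀ s, P s → ∃ d ∈ A, d * t * d⁻¹ = s) :
    Nat.card A = Nat.card {s : G // P s} * Nat.card (A ⊓ centralizer {t} : Subgroup G) := by
  classical
  let f : A → {s : G // P s} := fun d => ⟨d * t * (d : G)⁻¹, hinv d d.2 t hP⟩
  choose g hg hgt using fun s : {s : G // P s} => htr s s.2
  rw [← Nat.card_prod]
  refine Nat.card_congr
    { toFun := fun d => (f d, ⟨(g (f d))⁻¹ * d, mem_inf.2 ⟨mul_mem (inv_mem (hg _)) d.2, ?_⟩⟩)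
      invFun := fun x => ⟨g x.1 * x.2, mul_mem (hg _) (mem_inf.1 x.2.2).1⟩
      left_inv := fun d => Subtype.ext (mul_inv_cancel_left _ _)
      right_inv := fun x => ?_ }
  · rw [mem_centralizer_singleton_iff]
    have e := hgt (f d)
    calc (g (f d))⁻¹ * (d : G) * t = (g (f d))⁻¹ * ((d : G) * t * (d : G)⁻¹) * d := by group
      _ = (g (f d))⁻¹ * (g (f d) * t * (g (f d))⁻¹) * d := by rw [e]
      _ = t * ((g (f d))⁻¹ * d) := by group
  · have e : f ⟨g x.1 * x.2, mul_mem (hg _) (mem_inf.1 x.2.2).1⟩ = x.1 := Subtype.ext (by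
      show g x.1 * x.2 * t * (g x.1 * (x.2 : G))⁻¹ = x.1
      rw [mul_assoc (g x.1), mem_centralizer_singleton_iff.1 (mem_inf.1 x.2.2).2, ← hgt x.1]
      group)
    refine Prod.ext e (Subtype.ext ?_)
    show (g _)⁻¹ * (g x.1 * (x.2 : G)) = x.2
    rw [e, inv_mul_cancel_left]

/-- The order of a two-point stabiliser through the centraliser of an involution at a point. -/
theorem card_stabTwo_fix {p q : G ⧸ H} (hpq : p ≠ q) {t : G} (ht : orderOf t = 2) (htp : t • p = p) :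
    Nat.card (stabTwo p q) = Nat.card {s : G // orderOf s = 2 ∧ s ∈ H} *
      Nat.card (stabTwo p q ⊓ centralizer {t} : Subgroup G) := by
  rw [← Invol.card_fixInv p]
  exact card_eq_conjSet_mul (P := fun s => orderOf s = 2 ∧ s • p = p) ⟨ht, htp⟩
    (fun d hd s hs => ⟨(Invol.order_conj d s).trans hs.1, hd.1 ▸ SESolv.conj_stab hs.2⟩)
    fun s hs => exists_conj_fixInv hH hpq ht htp hs.1 hs.2

/-- The order of a two-point stabiliser through the centraliser of a swapper. -/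
theorem card_stabTwo_swap {p q : G ⧸ H} (hpq : p ≠ q) {v : G} (hv : orderOf v = 2) (hvp : v • p = q) :
    Nat.card (stabTwo p q) = Nat.card {s : G // orderOf s = 2 ∧ s ∈ H} *
      Nat.card (stabTwo p q ⊓ centralizer {v} : Subgroup G) := by
  rw [← Invol.card_swapInv hH hpq]
  refine card_eq_conjSet_mul (P := fun s => orderOf s = 2 ∧ s • p = q) ⟨hv, hvp⟩
    (fun d hd s hs => ⟨(Invol.order_conj d s).trans hs.1, ?_⟩) fun s hs => ?_
  · rw [mul_smul, mul_smul, inv_smul_eq_iff.2 (show d • p = p from hd.1).symm, hs.2]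
    exact hd.2
  · have hvq : v • q = p := by rw [← hvp, ← mul_smul, Invol.mul_self hv, one_smul]
    have hsq : s • q = p := by rw [← hs.2, ← mul_smul, Invol.mul_self hs.1, one_smul]
    have hm : v * s ∈ stabTwo p q :=
      ⟨show (v * s) • p = p by rw [mul_smul, hs.2, hvq], show (v * s) • q = q by rw [mul_smul, hsq, hvp]⟩
    obtain ⟨n, hn⟩ := SEBrick.odd_order (odd_stabTwo hH hpq) hm
    refine ⟨(v * s) ^ (n : ℤ), zpow_mem hm _, ?_⟩
    rw [Invol.zpow_mul_conj (Invol.conj_mul hv hs.1)]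
    conv_rhs => rw [Invol.y_eq hv hs.1]
    congr 1
    have h1 : (v * s) ^ (2 * (n : ℤ) + 1) = 1 := by
      have := pow_orderOf_eq_one (v * s)
      rw [hn, ← zpow_natCast] at this
      push_cast at this; exact this
    rw [zpow_add, zpow_one] at h1
    rw [zpow_neg_one]
    exact mul_eq_one_iff_eq_inv.mp h1

/-- A swapper moves no two-point order: the pair and an endpoint with the centre have stabilisers of the
same order. -/
theorem card_stabTwo_midpoint {p q c : G ⧸ H} (hpq : p ≠ q) {v : G} (hv : orderOf v = 2) (hvp : v • p = q)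
    (hvc : v • c = c) : Nat.card (stabTwo p q) = Nat.card (stabTwo c p) := by
  have hcp : c ≠ p := fun e => hpq (by rw [← hvp, ← e, hvc])
  rw [card_stabTwo_swap hH hpq hv hvp, card_stabTwo_fix hH hcp hv hvc]
  congr 2
  congr 1
  ext x
  constructor
  · intro hx
    have hc : x * v = v * x := mem_centralizer_singleton_iff.1 hx.2
    exact ⟨⟨Invol.se_fix_unique hH hv (by rw [← mul_smul, ← hc, mul_smul, hvc]) hvc, hx.1.1⟩, hx.2⟩
  · intro hx
    have hc : x * v = v * x := mem_centralizer_singleton_iff.1 hx.2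
    exact ⟨⟨hx.1.2, show x • q = q by rw [← hvp, ← mul_smul, hc, mul_smul, hx.1.2]⟩, hx.2⟩

/-- The Sylow property passes between a pair and an endpoint with the centre of its swapper. -/
theorem pairSyl_midpoint {Y : Subgroup G} {p q c : G ⧸ H} (hpq : p ≠ q) {v : G} (hv : orderOf v = 2)
    (hvp : v • p = q) (hvc : v • c = c) (hY : IsPGroup r Y) (hYp : Y ≤ stabilizer G p)
    (hYq : Y ≤ stabilizer G q) (hYc : Y ≤ stabilizer G c) : PairSyl r Y p q ↔ PairSyl r Y c p := by
  have e := card_stabTwo_midpoint hH hpq hv hvp hvc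
  exact ⟨fun h => pairSyl_of_card hY (le_inf hYc hYp) (by rw [← e]; exact h.card_eq),
    fun h => pairSyl_of_card hY (le_inf hYp hYq) (by rw [e]; exact h.card_eq)⟩

/-- The centraliser of `v` in an invariant Sylow subgroup is a Sylow subgroup of the centraliser. -/
theorem card_inf_centralizer_ge {p q : G ⧸ H} (hpq : p ≠ q) {v : G} (hv : orderOf v = 2)
    (hvn : v ∈ normalizer (stabTwo p q : Set G)) (S : Sylow r (stabTwo p q))
    (hS : v ∈ normalizer (((S : Subgroup (stabTwo p q)).map (stabTwo p q).subtype : Subgroup G) : Set G))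
    {U : Subgroup G} (hU : IsPGroup r U) (hUle : U ≤ stabTwo p q ⊓ centralizer {v}) :
    Nat.card U ≤ Nat.card ((S : Subgroup (stabTwo p q)).map (stabTwo p q).subtype ⊓ centralizer {v} :
      Subgroup G) := by
  have hA : zpowers v ≤ normalizer ((stabTwo p q : Subgroup G) : Set G) := zpowers_le.2 hvn
  have hcop : (Nat.card (zpowers v)).Coprime (Nat.card (stabTwo p q)) := by
    rw [Nat.card_zpowers, hv]
    exact Nat.coprime_two_left.2 (odd_stabTwo hH hpq)
  have hsolv : Group.IsSolvable (zpowers v) ∨ Group.IsSolvable (stabTwo p q) :=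
    Or.inr (OddChar.oddSolvable (stabTwo p q) (odd_stabTwo hH hpq))
  have hUc : ∀ x ∈ U, x * v = v * x := fun x hx => mem_centralizer_singleton_iff.1 (hUle hx).2
  obtain ⟨Q, hUQ, hQ⟩ := CoprimeAct.exists_invariant_sylow_ge hA hcop hsolv (hUle.trans inf_le_left) hU
    (zpowers_le.2 (SEBrick.mem_normalizer_of fun x hx => by
      rw [← hUc x hx, mul_inv_cancel_right]; exact hx))
  obtain ⟨c, hc, hcQ⟩ := CoprimeAct.invariant_sylow_conj hA hcop hsolv Q S hQ (zpowers_le.2 hS)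
  have hcv : (c : G) * v = v * c := (mem_centralizer_iff.1 hc v (mem_zpowers v)).symm
  have hmap : U.map (MulAut.conj (c : G)).toMonoidHom ≤
      (S : Subgroup (stabTwo p q)).map (stabTwo p q).subtype ⊓ centralizer {v} := by
    rintro _ ⟨x, hx, rfl⟩
    obtain ⟨y, hy, hyx⟩ := hUQ hx
    refine mem_inf.2 ⟨⟨c * y * c⁻¹, ?_, ?_⟩, mem_centralizer_singleton_iff.2 ?_⟩
    · rw [← hcQ]
      exact ⟨y, hy, rfl⟩
    · rw [← hyx]; rfl
    · show Commute ((c : G) * x * (c : G)⁻¹) v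
      exact ((show Commute (c : G) v from hcv).mul_left (hUc x hx)).mul_left
        (show Commute (c : G) v from hcv).inv_left
  refine le_trans ?_ (Subgroup.card_le_of_le hmap)
  rw [card_map_of_injective (MulAut.conj (c : G)).injective]

end Cfsg.Agent.SEMain
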