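import Cfsg.Agent.Lib.SEMain.Odd
import Cfsg.Agent.Lib.SESolv.Points
import Cfsg.Agent.Lib.SETrans.Pair
import Mathlib.GroupTheory.Nilpotent

/-!
The fixed points of an `r`-subgroup which is maximal in each two-point stabiliser containing it: it fixes
the centres of its swappers, or exactly two points, and then it is a Sylow subgroup of the group.
-/

set_option autoImplicit false
set_option linter.style.haveILetI false
set_option linter.unusedSectionVars false

namespace Cfsg.Agent.SEMain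

open Subgroup MulAction

universe u

variable {G : Type u} [Group G] [Finite G] {H : Subgroup G}

/-- `R` is a maximal `r`-subgroup of the stabiliser of every pair of its fixed points. -/
def PairMaximal (H : Subgroup G) (r : ℕ) (R : Subgroup G) : Prop :=
  ∀ p q : G ⧸ H, p ≠ q → R ≤ stabilizer G p ⊓ stabilizer G q → ∀ P : Subgroup G,
    IsPGroup r P → R ≤ P → P ≤ stabilizer G p ⊓ stabilizer G q → P = R

/-- `R` is pair-maximal if no two-point stabiliser has a larger `r`-subgroup. -/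
theorem pairMaximal_of_card {r : ℕ} {R : Subgroup G}
    (hcol : ∀ p q : G ⧸ H, p ≠ q → ∀ P : Subgroup G, IsPGroup r P →
      P ≤ stabilizer G p ⊓ stabilizer G q → Nat.card P ≤ Nat.card R) : PairMaximal H r R :=
  fun p q hpq _ P hP hle hPK => (eq_of_le_of_card_ge hle (hcol p q hpq P hP hPK)).symm

/-- Conjugation moves the fixed points of a normalised subgroup. -/
theorem le_stabilizer_smul {R : Subgroup G} {g : G} (hg : g ∈ normalizer (R : Set G)) {p : G ⧸ H}
    (hp : R ≤ stabilizer G p) : R ≤ stabilizer G (g • p) := by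
  intro x hx
  have h1 : g⁻¹ * x * g⁻¹⁻¹ ∈ R := SEBrick.conj_mem_of (inv_mem hg) hx
  rw [inv_inv] at h1
  rw [mem_stabilizer_iff, ← inv_smul_eq_iff, ← mul_smul, ← mul_smul]
  exact hp h1

/-- A subgroup with a second commuting involution gives every involution one. -/
theorem exists_commuting {M : Type u} [Group M] [Finite M] (hR : ¬ BrauerSuzuki.RankOne M) {u : M}
    (hu : orderOf u = 2) : ∃ w : M, orderOf w = 2 ∧ w ≠ u ∧ u * w = w * u := by
  simp only [BrauerSuzuki.RankOne, not_forall] at hR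
  obtain ⟨a, b, ha, hb, hab, hne⟩ := hR
  by_cases hev : Even (orderOf (u * a))
  · by_cases hwu : (u * a) ^ (orderOf (u * a) / 2) = u
    · by_cases hau : a = u
      · exact ⟨b, hb, fun e => hne (hau.trans e.symm), hau ▸ hab.eq⟩
      · have h2 := (Invol.half_commute hu ha hev).2
        rw [hwu] at h2
        exact ⟨a, ha, hau, h2.eq⟩
    · exact ⟨_, Invol.half_order hu ha hev (orderOf_pos _), hwu, (Invol.half_commute hu ha hev).1.eq.symm⟩
  · rw [Nat.not_even_iff_odd] at hev
    have hev' : Odd (orderOf (a * u)) := by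
      have e : a * u = a * (u * a) * a⁻¹ := by group
      rwa [e, Invol.order_conj]
    obtain ⟨k, -, hk⟩ := Invol.conj_of_odd ha hu hev'
    refine ⟨k * b * k⁻¹, (Invol.order_conj k b).trans hb, fun e => hne ?_, ?_⟩
    · rw [← hk] at e
      exact (mul_left_cancel (mul_right_cancel e)).symm
    · rw [← hk]
      calc k * a * k⁻¹ * (k * b * k⁻¹) = k * (a * b) * k⁻¹ := by group
        _ = k * (b * a) * k⁻¹ := by rw [hab.eq]
        _ = _ := by group

section

variable {r : ℕ} [Fact r.Prime] {R : Subgroup G}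

/-- A maximal `r`-subgroup of a two-point stabiliser is normalised by a swapper of the pair. -/
theorem exists_normalizing_swapper_at (hH : Cfsg.IsStronglyEmbedded H) (hR : IsPGroup r R)
    {p q : G ⧸ H} (hpq : p ≠ q) (hp : R ≤ stabilizer G p) (hq : R ≤ stabilizer G q)
    (hmax : ∀ P : Subgroup G, IsPGroup r P → R ≤ P → P ≤ stabilizer G p ⊓ stabilizer G q → P = R) :
    ∃ v : G, orderOf v = 2 ∧ v ∈ normalizer (R : Set G) ∧ v • p = q ∧ v • q = p := by
  set K := stabilizer G p ⊓ stabilizer G q with hK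
  obtain ⟨u, hu, hup, huq⟩ := SESolv.exists_swapper hH hpq
  have hKu : ∀ x ∈ K, u * x * u⁻¹ ∈ K := by
    intro x hx
    have e1 := SESolv.conj_stab (g := u) hx.1
    have e2 := SESolv.conj_stab (g := u) hx.2
    rw [hup] at e1
    rw [huq] at e2
    exact ⟨e2, e1⟩
  have hRK : R ≤ K := le_inf hp hq
  set R' := R.map (MulAut.conj u).toMonoidHom with hR'
  have hR'K : R' ≤ K := by
    rintro _ ⟨x, hx, rfl⟩
    rw [MulEquiv.coe_toMonoidHom, MulAut.conj_apply]
    exact hKu x (hRK hx)
  have hmax' : ∀ {P : Subgroup G}, IsPGroup r P → R' ≤ P → P ≤ K → P = R' := by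
    intro P hP hle hPK
    have h1 : P.map (MulAut.conj u).toMonoidHom = R := by
      refine hmax _ (hP.map _) (fun x hx => ?_) ?_
      · refine ⟨u * x * u⁻¹, hle ⟨x, hx, by simp⟩, ?_⟩
        simp only [MulEquiv.coe_toMonoidHom, MulAut.conj_apply]
        rw [Invol.inv_self hu, show u * (u * x * u) * u = (u * u) * x * (u * u) by group,
          Invol.mul_self hu, one_mul, mul_one]
      · rintro _ ⟨x, hx, rfl⟩
        rw [MulEquiv.coe_toMonoidHom, MulAut.conj_apply]
        exact hKu x (hPK hx)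
    refine le_antisymm (fun x hx => ⟨u * x * u⁻¹, h1 ▸ ⟨x, hx, rfl⟩, ?_⟩) hle
    simp only [MulEquiv.coe_toMonoidHom, MulAut.conj_apply]
    rw [Invol.inv_self hu, show u * (u * x * u) * u = (u * u) * x * (u * u) by group,
      Invol.mul_self hu, one_mul, mul_one]
  -- both are Sylow subgroups of `K`
  have hsyl : ∀ {P : Subgroup G}, IsPGroup r P → P ≤ K →
      (∀ T : Subgroup G, IsPGroup r T → P ≤ T → T ≤ K → T = P) →
      ∃ S : Sylow r K, (S : Subgroup K) = P.subgroupOf K := by
    intro P hP hPK hm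
    obtain ⟨S, hS⟩ := (hP.comap_subtype : IsPGroup r (P.subgroupOf K)).exists_le_sylow
    refine ⟨S, le_antisymm (fun x hx => ?_) hS⟩
    have h2 := hm ((S : Subgroup K).map K.subtype) (S.isPGroup'.map _)
      (fun y hy => ⟨⟨y, hPK hy⟩, hS hy, rfl⟩) (map_subtype_le _)
    exact mem_subgroupOf.2 (h2 ▸ mem_map_of_mem K.subtype hx)
  obtain ⟨S, hS⟩ := hsyl hR hRK fun T hT => hmax T hT
  obtain ⟨S', hS'⟩ := hsyl (hR.map _) hR'K fun T hT => hmax' hT
  obtain ⟨d, hd⟩ := MulAction.exists_smul_eq K S' S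
  set g := (d : G) * u with hg
  have hgR : g ∈ normalizer (R : Set G) := by
    refine SEBrick.mem_normalizer_of fun x hx => ?_
    have h3 : (⟨u * x * u⁻¹, hKu x (hRK hx)⟩ : K) ∈ (S' : Subgroup K) := by
      rw [hS', mem_subgroupOf]
      exact ⟨x, hx, rfl⟩
    have h4 : d * ⟨u * x * u⁻¹, hKu x (hRK hx)⟩ * d⁻¹ ∈ (S : Subgroup K) := by
      rw [← hd, Sylow.coe_subgroup_smul, Subgroup.mem_pointwise_smul_iff_inv_smul_mem, MulAut.smul_def,
        MulAut.conj_inv_apply]
      convert h3 using 1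
      group
    rw [hS, mem_subgroupOf] at h4
    convert h4 using 1
    rw [hg]
    push_cast
    group
  have hgp : g • p = q := by rw [hg, mul_smul, hup]; exact d.2.2
  have hgq : g • q = p := by rw [hg, mul_smul, huq]; exact d.2.1
  have hggK : g * g ∈ K :=
    ⟨show (g * g) • p = p by rw [mul_smul, hgp, hgq], show (g * g) • q = q by rw [mul_smul, hgq, hgp]⟩
  have hKodd : Odd (Nat.card K) := SEBrick.odd_card_of_orders fun t ht ht2 =>
    hpq (Invol.se_fix_unique hH ht2 ht.1 ht.2)
  obtain ⟨j, hj⟩ := SEBrick.odd_order hKodd hggK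
  set v := g * (g * g) ^ j with hv
  have hpj : (g * g) ^ j ∈ K := pow_mem hggK j
  have hvp : v • p = q := by rw [hv, mul_smul, hpj.1, hgp]
  have hvq : v • q = p := by rw [hv, mul_smul, hpj.2, hgq]
  refine ⟨v, Invol.order_two_of_sq ?_ fun e => hpq (by rw [← hvp, e, one_smul]), ?_, hvp, hvq⟩
  · have e : v * v = (g * g) ^ orderOf (g * g) := by
      have hc : ∀ i : ℕ, (g * g) ^ i = g ^ (2 * i) := fun i => by rw [pow_mul, pow_two]
      rw [hv, hj, hc j, hc (2 * j + 1), ← pow_succ', ← pow_add]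
      congr 1
      omega
    rw [e, pow_orderOf_eq_one]
  · exact mul_mem hgR (pow_mem (mul_mem hgR hgR) j)

/-- Each pair of fixed points has a swapper normalising `R`. -/
theorem exists_normalizing_swapper (hH : Cfsg.IsStronglyEmbedded H) (hR : IsPGroup r R)
    (hmax : PairMaximal H r R) {p q : G ⧸ H} (hpq : p ≠ q) (hp : R ≤ stabilizer G p)
    (hq : R ≤ stabilizer G q) :
    ∃ v : G, orderOf v = 2 ∧ v ∈ normalizer (R : Set G) ∧ v • p = q ∧ v • q = p :=
  exists_normalizing_swapper_at hH hR hpq hp hq (hmax p q hpq (le_inf hp hq))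

/-- `R` fixes the centre of a normalising swapper, or it fixes two points only. -/
theorem center_or_pair (hH : Cfsg.IsStronglyEmbedded H) (hr2 : r ≠ 2) (hR : IsPGroup r R)
    (hmax : PairMaximal H r R) {u : G} {a b c : G ⧸ H} (hu : orderOf u = 2)
    (huR : u ∈ normalizer (R : Set G)) (hua : u • a = b) (huc : u • c = c)
    (hRa : R ≤ stabilizer G a) (hRb : R ≤ stabilizer G b) :
    R ≤ stabilizer G c ∨ ∀ f : G ⧸ H, R ≤ stabilizer G f → f = a ∨ f = b := by
  by_contra hcon
  obtain ⟨hRc, hf⟩ := not_or.1 hcon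
  simp only [not_forall, not_or] at hf
  obtain ⟨f, hRf, hfa, hfb⟩ := hf
  apply hRc
  have hRodd : Odd (Nat.card R) := by
    obtain ⟨n, hn⟩ := IsPGroup.iff_card.1 hR
    rw [hn]
    exact ((Fact.out : r.Prime).odd_of_ne_two hr2).pow
  set X := normalizer (R : Set G) with hX
  by_cases hrk : BrauerSuzuki.RankOne X
  swap
  · obtain ⟨w, hw, hwu, huw⟩ := exists_commuting hrk (u := ⟨u, huR⟩) (by rw [Subgroup.orderOf_mk]; exact hu)
    rw [← Subgroup.orderOf_coe] at hw
    have huw' : u * (w : G) = (w : G) * u := congrArg Subtype.val huw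
    have hwc : (w : G) • c = c :=
      Invol.se_fix_unique hH hu (by rw [← mul_smul, huw', mul_smul, huc]) huc
    have hp : HasPair (X ⊓ stabilizer G c) :=
      ⟨u, (w : G), ⟨huR, huc⟩, ⟨w.2, hwc⟩, hu, hw, fun e => hwu (Subtype.ext e.symm), huw'⟩
    obtain ⟨E, hE, hE4⟩ := hp.exists_four
    exact SESolv.odd_fix_of_four hH hRodd hE4 (hE.trans inf_le_right) (hE.trans inf_le_left)
  set O := (Cfsg.pPrimeCore 2 X).map X.subtype with hO
  have hOodd : Odd (Nat.card O) := by
    rw [hO, card_map_of_injective X.subtype_injective]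
    exact SETrans.odd_core
  have hOX : O ≤ X := map_subtype_le _
  have hmul : ∀ {i j : G}, i ∈ X → j ∈ X → orderOf i = 2 → orderOf j = 2 → i * j ∈ O := by
    intro i j hiX hjX hi hj
    exact ⟨⟨i, hiX⟩ * ⟨j, hjX⟩, SETrans.invol_mul_mem hrk (t := (⟨j, hjX⟩ : X)) (u := ⟨i, hiX⟩)
      (by rw [Subgroup.orderOf_mk]; exact hj) (by rw [Subgroup.orderOf_mk]; exact hi), rfl⟩
  have hOu : ∀ o ∈ O, u * o * u⁻¹ ∈ O := by
    rintro _ ⟨o, ho, rfl⟩
    haveI := FittingCores.pPrimeCore_normal (G := X) 2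
    exact ⟨⟨u, huR⟩ * o * ⟨u, huR⟩⁻¹, Subgroup.Normal.conj_mem inferInstance o ho _, rfl⟩
  obtain ⟨j, hj, hjX, hjb, -⟩ := exists_normalizing_swapper hH hR hmax (Ne.symm hfb) hRb hRf
  obtain ⟨k, hk, hkX, -, hkf⟩ := exists_normalizing_swapper hH hR hmax (Ne.symm hfa) hRa hRf
  -- the orbit of `a` contains `b`
  obtain ⟨o, ho, hob⟩ : ∃ o ∈ O, o • a = b := by
    refine ⟨u * k * (j * u), mul_mem (hmul huR hkX hu hk) (hmul hjX huR hj hu), ?_⟩
    rw [mul_smul, mul_smul j, hua, hjb, mul_smul, hkf, hua]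
  -- so `u` fixes one of its points
  let S := {x : G ⧸ H // x ∈ orbit O a}
  have hSodd : Odd (Nat.card S) := by
    rw [Nat.card_congr (orbitEquivQuotientStabilizer O a)]
    exact hOodd.of_dvd_nat (card_quotient_dvd_card _)
  have hS : ∀ x : S, u • (x : G ⧸ H) ∈ orbit O a := by
    rintro ⟨x, ⟨⟨w, hw⟩, rfl⟩⟩
    refine ⟨⟨u * w * u⁻¹ * o, mul_mem (hOu w hw) ho⟩, ?_⟩
    show (u * w * u⁻¹ * o) • a = u • (w • a)
    rw [mul_smul, hob, mul_smul, mul_smul, ← hua, inv_smul_smul]
  haveI : Finite (G ⧸ H) := inferInstance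
  have hfix : ∃ x : S, u • (x : G ⧸ H) = x := by
    by_contra hno
    push Not at hno
    refine (Nat.not_even_iff_odd.2 hSodd) (SETrans.even_of_fpf (fun x => (⟨u • (x : G ⧸ H), hS x⟩ : S))
      (fun x => Subtype.ext ?_) fun x e => hno x (congrArg Subtype.val e))
    show u • (u • (x : G ⧸ H)) = x
    rw [← mul_smul, Invol.mul_self hu, one_smul]
  obtain ⟨⟨x, hxS⟩, hx⟩ := hfix
  obtain ⟨⟨w, hw⟩, hwx⟩ := hxS
  have hwx' : w • a = x := hwx
  have hwc : w • a = c := hwx'.trans (Invol.se_fix_unique hH hu hx huc)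
  rw [← hwc]
  exact le_stabilizer_smul (hOX hw) hRa

/-- With two fixed points only, the normaliser in a point stabiliser fixes both. -/
theorem smul_eq_of_pair {a b : G ⧸ H} (hab : a ≠ b) (hpair : ∀ f, R ≤ stabilizer G f → f = a ∨ f = b)
    (hRb : R ≤ stabilizer G b) {g : G} (hg : g ∈ normalizer (R : Set G)) (hga : g • a = a) :
    g • b = b :=
  ((hpair _ (le_stabilizer_smul hg hRb)).resolve_left fun e =>
    hab (MulAction.injective g (hga.trans e.symm)))

/-- With two fixed points only, `R` is a Sylow subgroup of the whole group. -/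
theorem sylow_of_pair (hr2 : r ≠ 2) (hmax : PairMaximal H r R) {a b : G ⧸ H}
    (hab : a ≠ b) (hRa : R ≤ stabilizer G a) (hRb : R ≤ stabilizer G b)
    (hpair : ∀ f, R ≤ stabilizer G f → f = a ∨ f = b) {P : Subgroup G} (hP : IsPGroup r P)
    (hle : R ≤ P) : P = R := by
  by_contra hne
  haveI := hP.isNilpotent
  have hlt : R.subgroupOf P < ⊤ := lt_top_iff_ne_top.2 fun e =>
    hne (le_antisymm (subgroupOf_eq_top.1 e) hle)
  obtain ⟨y, hyn, hy⟩ := SetLike.exists_of_lt (Group.normalizerCondition_of_isNilpotent _ hlt)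
  set g : G := (y : G) with hgy
  have hgR : g ∈ normalizer (R : Set G) := SEBrick.mem_normalizer_of fun x hx => by
    have := SEBrick.conj_mem_of hyn (show (⟨x, hle hx⟩ : P) ∈ R.subgroupOf P from mem_subgroupOf.2 hx)
    exact mem_subgroupOf.1 this
  have hodd : Odd (orderOf g) := by
    obtain ⟨n, hn⟩ := IsPGroup.iff_orderOf.1 hP y
    rw [hgy, Subgroup.orderOf_coe, hn]
    exact ((Fact.out : r.Prime).odd_of_ne_two hr2).pow
  have hga : g • a = a := (hpair _ (le_stabilizer_smul hgR hRa)).resolve_right fun e => by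
    rcases hpair _ (le_stabilizer_smul hgR hRb) with e' | e'
    · exact hab (eq_of_swap_odd hodd e e')
    · exact hab (MulAction.injective g (e.trans e'.symm))
  have hgb := smul_eq_of_pair hab hpair hRb hgR hga
  refine hy (mem_subgroupOf.2 ?_)
  have h1 := hmax a b hab (le_inf hRa hRb) (R ⊔ zpowers g)
    (hP.to_le (sup_le hle (zpowers_le.2 y.2))) le_sup_left
    (sup_le (le_inf hRa hRb) (zpowers_le.2 ⟨hga, hgb⟩))
  exact h1.le (mem_sup_right (mem_zpowers g))

end

end Cfsg.Agent.SEMain
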