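import Cfsg.Agent.Lib.SEMain.ModCore
import Cfsg.Agent.Lib.SEMain.Dichotomy
import Cfsg.Agent.Lib.Solvable.Coprime

/-!
# The soluble endgame of transitivity

If the involutions of `H` commute modulo `O(H)` then for some odd prime some two-point stabiliser has a
Sylow subgroup fixing two points only.
-/

set_option autoImplicit false
set_option linter.style.haveILetI false
set_option linter.unusedSectionVars false

namespace Cfsg.Agent.SEMain

open Subgroup MulAction

universe u

variable {G : Type u} [Group G] [Finite G] {H : Subgroup G}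

/-- The conjugates of `t` under `X`. -/
def coreOrbit (X : Subgroup G) (t : G) : Set G := {s | ∃ a ∈ X, a * t * a⁻¹ = s}

theorem card_eq_coreOrbit_mul (X : Subgroup G) (t : G) :
    Nat.card X = Nat.card ↥(X ⊓ centralizer ({t} : Set G)) * Nat.card (coreOrbit X t) :=
  card_eq_centralizer_mul X (coreOrbit X t) ⟨1, one_mem X, by simp⟩ (fun d hd => ⟨d, hd, rfl⟩)
    fun _ hy => hy

theorem card_pairStab_smul (g : G) (p q : G ⧸ H) :
    Nat.card (pairStab (g • p) (g • q)) = Nat.card (pairStab p q) := by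
  have e : pairStab (g • p) (g • q) = (pairStab p q).map (MulAut.conj g).toMonoidHom := by
    ext x
    rw [Invol.mem_conj_map, mem_pairStab, mem_pairStab, mul_smul, mul_smul, inv_smul_eq_iff, mul_smul,
      mul_smul, inv_smul_eq_iff]
  rw [e, card_map_of_injective (MulAut.conj g).injective]

variable (hH : Cfsg.IsStronglyEmbedded H)
include hH

theorem card_conjClass {t : G} (ht : orderOf t = 2) (htH : t ∈ H) :
    Nat.card H = Nat.card ↥(H ⊓ centralizer ({t} : Set G)) * numInv H :=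
  card_eq_centralizer_mul H {s | orderOf s = 2 ∧ s ∈ H} ⟨ht, htH⟩
    (fun d hd => ⟨(Invol.order_conj d t).trans ht, mul_mem (mul_mem hd htH) (inv_mem hd)⟩)
    fun y hy => by
      obtain ⟨g, hg⟩ := isConj_iff.1 (Invol.se_isConj hH ht hy.1)
      exact ⟨g, Invol.se_mem_of_conj hH ht htH (hg ▸ hy.2), hg⟩

theorem numInv_pos : 0 < numInv H := by
  obtain ⟨t, htH, ht⟩ := Invol.exists_invol hH.2.1
  exact Nat.card_pos_iff.2 ⟨⟨⟨t, ht, htH⟩⟩, inferInstance⟩

theorem card_coreOrbit_dvd {t : G} (ht : orderOf t = 2) (htH : t ∈ H) :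
    Nat.card (coreOrbit (SESolv.oc H) t) ∣ numInv H := by
  set A := SESolv.oc H with hA
  set C := H ⊓ centralizer ({t} : Set G) with hC
  have hCA : C ≤ normalizer (A : Set G) := inf_le_left.trans (SESolv.oc_normal H)
  have hAC : A ⊔ C ≤ H := sup_le (SESolv.oc_le H) inf_le_left
  have hct : ∀ {c : G}, c ∈ C → c * t * c⁻¹ = t := fun {c} hc =>
    mul_inv_eq_iff_eq_mul.2 (mem_centralizer_singleton_iff.1 (mem_inf.1 hc).2)
  have hdec : ∀ {d : G}, d ∈ A ⊔ C → ∃ a ∈ A, ∃ c ∈ C, a * c = d := fun {d} hd => by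
    have h : d ∈ ((A ⊔ C : Subgroup G) : Set G) := hd
    rw [coe_mul_of_right_le_normalizer_left A C hCA] at h
    exact h
  have h1 := card_eq_centralizer_mul (A ⊔ C) (x := t) (coreOrbit A t) ⟨1, one_mem _, by simp⟩
    (fun d hd => by
      obtain ⟨a, ha, c, hc, rfl⟩ := hdec hd
      exact ⟨a, ha, by rw [mul_inv_rev, show a * c * t * (c⁻¹ * a⁻¹) = a * (c * t * c⁻¹) * a⁻¹ by group,
        hct hc]⟩)
    (fun y ⟨a, ha, e⟩ => ⟨a, mem_sup_left ha, e⟩)
  have h2 : (A ⊔ C) ⊓ centralizer ({t} : Set G) = C :=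
    le_antisymm (le_inf (inf_le_left.trans hAC) inf_le_right) (le_inf le_sup_right inf_le_right)
  rw [h2] at h1
  have h3 := card_dvd_of_le hAC
  rw [h1, card_conjClass hH ht htH, ← hC] at h3
  exact (Nat.mul_dvd_mul_iff_left Nat.card_pos).1 h3

theorem exists_prime_not_le (hp : HasPair H) {t : G} (ht : orderOf t = 2) (htH : t ∈ H) :
    ∃ r : ℕ, r.Prime ∧
      (Nat.card (coreOrbit (SESolv.oc H) t)).factorization r < (numInv H).factorization r := by
  by_contra hno
  push Not at hno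
  set A := SESolv.oc H with hA
  have hle : (numInv H).factorization ≤ (Nat.card (coreOrbit A t)).factorization := fun r => by
    by_cases hr : r.Prime
    · exact hno r hr
    · simp [Nat.factorization_eq_zero_of_not_prime _ hr]
  have hpos : 0 < Nat.card (coreOrbit A t) :=
    Nat.card_pos_iff.2 ⟨⟨⟨t, 1, one_mem _, by simp⟩⟩, inferInstance⟩
  have hcard := Nat.dvd_antisymm (card_coreOrbit_dvd hH ht htH)
    ((Nat.factorization_le_iff_dvd (numInv_pos hH).ne' hpos.ne').1 hle)
  have hall : coreOrbit A t = {s | orderOf s = 2 ∧ s ∈ H} := by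
    refine Set.eq_of_subset_of_ncard_le (fun s ⟨a, ha, e⟩ => ?_) ?_ (Set.toFinite _)
    · rw [← e]
      exact ⟨(Invol.order_conj a t).trans ht,
        mul_mem (mul_mem (SESolv.oc_le H ha) htH) (inv_mem (SESolv.oc_le H ha))⟩
    · rw [← Nat.card_coe_set_eq, ← Nat.card_coe_set_eq, hcard]
      exact le_rfl
  have hmem : ∀ s : G, orderOf s = 2 → s ∈ H → s * t ∈ A := fun s hs hsH => by
    have h : s ∈ coreOrbit A t := by rw [hall]; exact ⟨hs, hsH⟩
    obtain ⟨a, ha, rfl⟩ := h
    rw [show a * t * a⁻¹ * t = a * (t * a⁻¹ * t) by group]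
    refine mul_mem ha ?_
    have h2 := SEBrick.conj_mem_of (SESolv.oc_normal H htH) (inv_mem ha)
    rwa [Invol.inv_self ht] at h2
  obtain ⟨s₁, s₂, h1, h2, hs1, hs2, hne, hc⟩ := hp
  have hord : orderOf (s₁ * s₂) = 2 := by
    refine Invol.order_two_of_sq ?_ fun h => hne ?_
    · rw [show s₁ * s₂ * (s₁ * s₂) = s₁ * (s₂ * s₁) * s₂ by group, ← hc,
        show s₁ * (s₁ * s₂) * s₂ = s₁ * s₁ * (s₂ * s₂) by group, Invol.mul_self hs1, Invol.mul_self hs2,
        mul_one]
    · calc s₁ = s₁ * (s₂ * s₂) := by rw [Invol.mul_self hs2, mul_one]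
        _ = s₂ := by rw [← mul_assoc, h, one_mul]
  refine Nat.not_even_iff_odd.2 (SESolv.oc_odd H) (Invol.even_of_invol_mem hord ?_)
  have h3 := mul_mem (hmem s₁ hs1 h1) (inv_mem (hmem s₂ hs2 h2))
  rwa [mul_inv_rev, Invol.inv_self ht, Invol.inv_self hs2, mul_assoc, ← mul_assoc t t, Invol.mul_self ht,
    one_mul] at h3

/-- An `r`-group normalised by `t` moves it no more than the core does, at `r`. -/
theorem orbit_bound (hc : CommModCore H) {r : ℕ} [Fact r.Prime] (hr2 : r ≠ 2) {R : Subgroup G} {t : G}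
    (ht : orderOf t = 2) (htH : t ∈ H) (hRH : R ≤ H) (hR : IsPGroup r R)
    (htR : t ∈ normalizer (R : Set G)) :
    Nat.card (coreOrbit R t) ≤ r ^ (Nat.card (coreOrbit (SESolv.oc H) t)).factorization r := by
  classical
  set A := SESolv.oc H with hA
  have hAodd : Odd (Nat.card A) := SESolv.oc_odd H
  have htA : zpowers t ≤ normalizer (A : Set G) := zpowers_le.2 (SESolv.oc_normal H htH)
  have hcop : (Nat.card (zpowers t)).Coprime (Nat.card A) := by
    rw [Nat.card_zpowers, ht]; exact Nat.coprime_two_left.2 hAodd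
  haveI : Group.IsSolvable A := OddChar.oddSolvable _ hAodd
  set P := R ⊓ A with hP
  obtain ⟨P1, hPP1, hP1t⟩ := CoprimeAct.exists_invariant_sylow_ge htA hcop (Or.inr inferInstance)
    (inf_le_right : P ≤ A) (hR.to_le inf_le_left)
    (zpowers_le.2 (Subgroup.inf_normalizer_le_normalizer_inf ⟨htR, htA (mem_zpowers t)⟩))
  set P1' := (P1 : Subgroup A).map A.subtype with hP1'
  -- the orbit of `R` lies in that of the Sylow subgroup
  have hsub : coreOrbit R t ⊆ coreOrbit P1' t := by
    rintro s ⟨x, hx, rfl⟩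
    set y := x * t * x⁻¹ * t with hy
    have hyR : y ∈ R := by
      have h2 := SEBrick.conj_mem_of htR (inv_mem hx)
      rw [Invol.inv_self ht] at h2
      rw [hy, show x * t * x⁻¹ * t = x * (t * x⁻¹ * t) by group]
      exact mul_mem hx h2
    obtain ⟨k, hk⟩ := Invol.exists_sqrt (show Odd (orderOf y) from by
      obtain ⟨n, hn⟩ := IsPGroup.iff_orderOf.1 hR ⟨y, hyR⟩
      rw [← Subgroup.orderOf_mk y hyR, hn]
      exact ((Fact.out : r.Prime).odd_of_ne_two hr2).pow)
    have hyA : y ∈ A := by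
      have h2 : y * y ∈ A := hc _ t (mul_mem (mul_mem (hRH hx) htH) (inv_mem (hRH hx))) htH
        ((Invol.order_conj x t).trans ht) ht
      rw [← hk, ← pow_mul, mul_comm, pow_mul, pow_two]
      exact pow_mem h2 k
    set w := y ^ k with hw
    have hinv : t * w * t⁻¹ = w⁻¹ := by
      refine Invol.conj_pow ?_ k
      rw [hy, Invol.inv_self ht, mul_inv_rev, mul_inv_rev, mul_inv_rev, Invol.inv_self ht, inv_inv]
      simp only [← mul_assoc]
      rw [mul_assoc _ t t, Invol.mul_self ht, mul_one]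
    refine ⟨w, hPP1 (mem_inf.2 ⟨pow_mem hyR k, pow_mem hyA k⟩), ?_⟩
    have e : t * w⁻¹ = w * t := by
      have h3 : t * w⁻¹ * t⁻¹ = w := by
        rw [← hinv]; simp only [Invol.inv_self ht]
        rw [show t * (t * w * t) * t = t * t * w * (t * t) by group, Invol.mul_self ht, one_mul, mul_one]
      exact mul_inv_eq_iff_eq_mul.1 h3
    rw [mul_assoc, e, ← mul_assoc, ← pow_two, hk, hy, mul_assoc, Invol.mul_self ht, mul_one]
  refine (Nat.card_mono (Set.toFinite _) hsub).trans ?_
  -- the Sylow subgroup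
  obtain ⟨T⟩ : Nonempty (Sylow r ↥(A ⊓ centralizer ({t} : Set G))) := inferInstance
  set T' := (T : Subgroup ↥(A ⊓ centralizer ({t} : Set G))).map (A ⊓ centralizer ({t} : Set G)).subtype
    with hT'
  have hT'le : T' ≤ A ⊓ centralizer ({t} : Set G) := map_subtype_le _
  obtain ⟨P2, hTP2, hP2t⟩ := CoprimeAct.exists_invariant_sylow_ge htA hcop (Or.inr inferInstance)
    (hT'le.trans inf_le_left) (T.isPGroup'.map _)
    (zpowers_le.2 (SEBrick.mem_normalizer_of fun x hx => by
      rw [← mem_centralizer_singleton_iff.1 (mem_inf.1 (hT'le hx)).2, mul_inv_cancel_right]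
      exact hx))
  obtain ⟨c, hct, hc2⟩ := CoprimeAct.invariant_sylow_conj htA hcop (Or.inr inferInstance) P1 P2 hP1t hP2t
  have hct' : (c : G) * t = t * c :=
    ((mem_centralizer_iff.1 hct) t (mem_zpowers t)).symm
  have hle : T'.map (MulAut.conj (c : G)⁻¹).toMonoidHom ≤ P1' ⊓ centralizer ({t} : Set G) := by
    rintro _ ⟨x, hx, rfl⟩
    rw [MulEquiv.coe_toMonoidHom, MulAut.conj_apply, inv_inv]
    refine mem_inf.2 ⟨?_, ?_⟩
    · obtain ⟨x', hx', rfl⟩ := hTP2 hx
      have hx'' : x' ∈ ((MulAut.conj c • P1 : Sylow r A) : Subgroup A) := by rw [hc2]; exact hx'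
      rw [Sylow.pointwise_smul_def, mem_pointwise_smul_iff_inv_smul_mem] at hx''
      exact ⟨_, hx'', by simp [MulAut.smul_def, mul_assoc]⟩
    · rw [mem_centralizer_singleton_iff]
      have hxt : x * t = t * x := mem_centralizer_singleton_iff.1 (mem_inf.1 (hT'le hx)).2
      calc (c : G)⁻¹ * x * c * t = (c : G)⁻¹ * x * (c * t) := by group
        _ = (c : G)⁻¹ * (x * t) * c := by rw [hct']; group
        _ = (c : G)⁻¹ * t * (x * c) := by rw [hxt]; group
        _ = t * ((c : G)⁻¹ * x * c) := by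
          rw [(show Commute (c : G) t from hct').inv_left.eq]; group
  have h1 := card_eq_coreOrbit_mul P1' t
  have h2 := card_eq_coreOrbit_mul A t
  have h3 : r ^ (Nat.card ↥(A ⊓ centralizer ({t} : Set G))).factorization r ≤
      Nat.card ↥(P1' ⊓ centralizer ({t} : Set G)) := by
    rw [← T.card_eq_multiplicity, ← card_map_of_injective (A ⊓ centralizer ({t} : Set G)).subtype_injective,
      ← hT', ← card_map_of_injective (f := (MulAut.conj (c : G)⁻¹).toMonoidHom) (K := T') (MulAut.conj (c : G)⁻¹).injective]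
    exact card_le_of_le hle
  have hcardP1 : Nat.card P1' = r ^ (Nat.card A).factorization r := CoprimeAct.card_map_sylow P1
  have hpos : 0 < Nat.card (coreOrbit A t) :=
    Nat.card_pos_iff.2 ⟨⟨⟨t, 1, one_mem _, by simp⟩⟩, inferInstance⟩
  rw [h2, Nat.factorization_mul Nat.card_pos.ne' hpos.ne', Finsupp.add_apply, pow_add] at hcardP1
  refine Nat.le_of_mul_le_mul_left ?_ (pow_pos (Fact.out : r.Prime).pos _ :
    0 < r ^ (Nat.card ↥(A ⊓ centralizer ({t} : Set G))).factorization r)
  rw [← hcardP1, h1]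
  exact Nat.mul_le_mul_right _ h3

/-- The orbit bound at a pair. -/
theorem le_orbit {r : ℕ} [Fact r.Prime] {p q : G ⧸ H} (hpq : p ≠ q) {t : G} (ht : orderOf t = 2)
    (htp : t • p = p) {R : Subgroup G} (hRD : R ≤ pairStab p q)
    (hcard : Nat.card R = r ^ (Nat.card (pairStab p q)).factorization r) :
    r ^ (numInv H).factorization r ≤ Nat.card (coreOrbit R t) := by
  have h1 := card_eq_coreOrbit_mul R t
  have h2 := card_pairStab_invol hH hpq ht htp
  rw [h2, Nat.factorization_mul Nat.card_pos.ne' (numInv_pos hH).ne', Finsupp.add_apply, pow_add] at hcard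
  have hR : IsPGroup r R := IsPGroup.of_card
    (n := (Nat.card ↥(pairStab p q ⊓ centralizer ({t} : Set G))).factorization r +
      (numInv H).factorization r) (by rw [pow_add]; exact hcard)
  obtain ⟨j, hj⟩ := IsPGroup.iff_card.1 (hR.to_le (inf_le_left : R ⊓ centralizer ({t} : Set G) ≤ R))
  have h3 : Nat.card ↥(R ⊓ centralizer ({t} : Set G)) ≤
      r ^ (Nat.card ↥(pairStab p q ⊓ centralizer ({t} : Set G))).factorization r := by
    have hd := card_dvd_of_le (inf_le_inf_right (centralizer ({t} : Set G)) hRD)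
    rw [hj] at hd ⊢
    exact Nat.pow_le_pow_right (Fact.out : r.Prime).pos
      ((Nat.Prime.pow_dvd_iff_le_factorization Fact.out Nat.card_pos.ne').1 hd)
  refine Nat.le_of_mul_le_mul_left ?_ (Nat.card_pos : 0 < Nat.card ↥(R ⊓ centralizer ({t} : Set G)))
  rw [← h1, hcard]
  exact Nat.mul_le_mul_right _ h3

theorem numInv_odd (hpq : ∃ p q : G ⧸ H, p ≠ q) : Odd (numInv H) := by
  obtain ⟨p, q, hne⟩ := hpq
  obtain ⟨u, hu, hup⟩ := exists_swapper hH p q hne
  exact (pairStab_odd hH hne).of_dvd_nat ⟨_, (card_pairStab_swapper hH hne hu hup).trans (mul_comm _ _)⟩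

theorem exists_ne_one : ∃ b : G ⧸ H, ((1 : G) : G ⧸ H) ≠ b := by
  obtain ⟨g, hg⟩ := exists_not_mem hH
  exact ⟨g, fun e => hg (by rw [QuotientGroup.eq, inv_one, one_mul] at e; exact e)⟩

/-- T4: some two-point stabiliser has, for an odd prime dividing `m`, a Sylow subgroup, maximal in each
two-point stabiliser, with just these two fixed points. -/
theorem exists_good_pair (hp : HasPair H) (hc : CommModCore H) :
    ∃ r : ℕ, r.Prime ∧ r ≠ 2 ∧ r ∣ numInv H ∧ ∃ (b : G ⧸ H) (R : Subgroup G),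
      ((1 : G) : G ⧸ H) ≠ b ∧ IsPGroup r R ∧ R ≤ pairStab ((1 : G) : G ⧸ H) b ∧
      Nat.card R = r ^ (Nat.card (pairStab ((1 : G) : G ⧸ H) b)).factorization r ∧
      PairMaximal H r R ∧
      ∀ f : G ⧸ H, R ≤ stabilizer G f → f = ((1 : G) : G ⧸ H) ∨ f = b := by
  classical
  set a := ((1 : G) : G ⧸ H) with ha
  obtain ⟨t₀, ht₀H, ht₀⟩ := Invol.exists_invol hH.2.1
  obtain ⟨r, hr, hlt⟩ := exists_prime_not_le hH hp ht₀ ht₀H
  haveI := Fact.mk hr
  obtain ⟨b₀, hb₀⟩ := exists_ne_one hH
  have hrm : r ∣ numInv H := Nat.dvd_of_factorization_pos (by omega)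
  have hr2 : r ≠ 2 := fun e => Nat.not_even_iff_odd.2 (numInv_odd hH ⟨a, b₀, hb₀⟩)
    (even_iff_two_dvd.2 (e ▸ hrm))
  -- a pair of largest colour at `r`, through `a`
  haveI : Nonempty {b : G ⧸ H // a ≠ b} := ⟨⟨b₀, hb₀⟩⟩
  obtain ⟨⟨b, hab⟩, hmax⟩ :=
    Finite.exists_max fun b : {b : G ⧸ H // a ≠ b} => (Nat.card (pairStab a b.1)).factorization r
  have hcol : ∀ p q : G ⧸ H, p ≠ q →
      (Nat.card (pairStab p q)).factorization r ≤ (Nat.card (pairStab a b)).factorization r := by
    intro p q hpq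
    obtain ⟨g, rfl⟩ := exists_smul_one p
    have hne : a ≠ g⁻¹ • q := fun e => hpq (by rw [← ha, e, smul_inv_smul])
    have := hmax ⟨g⁻¹ • q, hne⟩
    rwa [← card_pairStab_smul g, smul_inv_smul] at this
  obtain ⟨u, hu, hub⟩ := exists_swapper hH a b hab
  obtain ⟨c, hc'⟩ := Invol.se_exists_fix hH hu
  obtain ⟨S, hS⟩ := CoprimeAct.exists_invariant_sylow
    (A := zpowers u) (K := pairStab a b) (zpowers_le.2 (swapper_mem_normalizer hH hu hub))
    (by rw [Nat.card_zpowers, hu]; exact Nat.coprime_two_left.2 (pairStab_odd hH hab))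
    (Or.inl (Group.isSolvable_of_comm fun x y => mul_comm' x y)) r
  set R := (S : Subgroup (pairStab a b)).map (pairStab a b).subtype with hR
  have hRp : IsPGroup r R := S.isPGroup'.map _
  have hRD : R ≤ pairStab a b := map_subtype_le _
  have hRcard : Nat.card R = r ^ (Nat.card (pairStab a b)).factorization r :=
    CoprimeAct.card_map_sylow S
  have hPM : PairMaximal H r R := pairMaximal_of_card fun p q hpq P hP hle => by
    obtain ⟨j, hj⟩ := IsPGroup.iff_card.1 hP
    rw [hRcard, hj]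
    refine Nat.pow_le_pow_right hr.pos (le_trans ?_ (hcol p q hpq))
    exact (hr.pow_dvd_iff_le_factorization Nat.card_pos.ne').1
      (hj ▸ card_dvd_of_le (hle : P ≤ pairStab p q))
  refine ⟨r, hr, hr2, hrm, b, R, hab, hRp, hRD, hRcard, hPM, ?_⟩
  have huR : u ∈ normalizer (R : Set G) := hS (mem_zpowers u)
  rcases center_or_pair hH hr2 hRp hPM hu huR hub hc' (hRD.trans inf_le_left) (hRD.trans inf_le_right)
    with hfix | hpair
  swap
  · exact hpair
  exfalso
  -- `R` fixes the point of `u`: then an involution of `H` normalises it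
  have hac := (centre_ne hH hab hu hub hc').1
  obtain ⟨v, hv, hvR, hva, hvc⟩ :=
    exists_normalizing_swapper hH hRp hPM hac (hRD.trans inf_le_left) hfix
  set t := v * u * v⁻¹ with htdef
  have ht : orderOf t = 2 := (Invol.order_conj v u).trans hu
  have hta : t • a = a := by
    have h := conj_smul_eq (g := v) hc'
    rwa [hvc] at h
  have htH : t ∈ H := SEBrick.fix_base_iff.1 hta
  have htR : t ∈ normalizer (R : Set G) := mul_mem (mul_mem hvR huR) (inv_mem hvR)
  have hRH : R ≤ H := fun x hx => SEBrick.fix_base_iff.1 (hRD.trans inf_le_left hx)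
  have hle := (le_orbit hH hab ht hta hRD hRcard).trans (orbit_bound hH hc hr2 ht htH hRH hRp htR)
  have h1 := (Nat.pow_le_pow_iff_right hr.one_lt).1 hle
  -- the core orbits of two involutions have the same size
  obtain ⟨g, hg⟩ := isConj_iff.1 (Invol.se_isConj hH ht₀ ht)
  have hgN : g ∈ normalizer (SESolv.oc H : Set G) :=
    SESolv.oc_normal H (Invol.se_mem_of_conj hH ht₀ ht₀H (hg ▸ htH))
  have heq : Nat.card (coreOrbit (SESolv.oc H) t) = Nat.card (coreOrbit (SESolv.oc H) t₀) := by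
    refine (Nat.card_congr ((MulAut.conj g).toEquiv.subtypeEquiv fun s => ?_)).symm
    simp only [MulEquiv.toEquiv_eq_coe, EquivLike.coe_coe, MulAut.conj_apply, coreOrbit, Set.mem_ofPred_eq]
    constructor
    · rintro ⟨x, hx, rfl⟩
      exact ⟨g * x * g⁻¹, SEBrick.conj_mem_of hgN hx, by rw [← hg]; group⟩
    · rintro ⟨x, hx, he⟩
      refine ⟨g⁻¹ * x * g, (mem_normalizer_iff''.1 hgN x).1 hx, ?_⟩
      have e1 : g⁻¹ * x * g * t₀ * (g⁻¹ * x * g)⁻¹ = g⁻¹ * (x * t * x⁻¹) * g := by rw [← hg]; group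
      rw [e1, he]; group
  rw [heq] at h1
  omega

end Cfsg.Agent.SEMain
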