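import Cfsg.Agent.Lib.SEMain.Points
import Cfsg.Agent.Lib.SESolv.Basic

/-!
# The W-lemma

Under the induction hypothesis: if some non-trivial subgroup `W` of a point stabiliser is normalised by
the stabiliser of a pair `(p, q)`, by an involution at `p` and by an element moving `p` to `q`, then the
group generated by the involutions at `p` is soluble and its odd core fixes the orbit of `q`.
-/

set_option autoImplicit false
set_option linter.style.haveILetI false
set_option linter.unusedSectionVars false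

namespace Cfsg.Agent.SEMain

open Subgroup MulAction

universe u

/-- The main statement for the groups of order below `n`. -/
def Below (n : ℕ) : Prop :=
  ∀ (L : Type u) [Group L] [Finite L] (X : Subgroup L), Nat.card L < n → Cfsg.IsStronglyEmbedded X →
    X.normalCore = ⊥ → (∃ E, E ≤ X ∧ SEBrick.IsFour E) →
    (∀ s t : L, s ∈ X → t ∈ X → orderOf s = 2 → orderOf t = 2 → s * t = t * s) ∧
      Odd ((SERegular.invCent X).relIndex X)

/-- The main statement follows by induction. -/
theorem stmt_of_step (h : ∀ (G : Type u) [Group G] [Finite G] (H : Subgroup G),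
    Below.{u} (Nat.card G) → Cfsg.IsStronglyEmbedded H → H.normalCore = ⊥ →
    (∃ E, E ≤ H ∧ SEBrick.IsFour E) →
    (∀ s t : G, s ∈ H → t ∈ H → orderOf s = 2 → orderOf t = 2 → s * t = t * s) ∧
      Odd ((SERegular.invCent H).relIndex H)) : Stmt.{u} := by
  suffices key : ∀ n : ℕ, Below.{u} n from fun G _ _ H => key (Nat.card G + 1) G H (Nat.lt_succ_self _)
  intro n
  induction n using Nat.strong_induction_on with
  | _ n ih => intro L _ _ X hlt; exact h L X (ih (Nat.card L) hlt)

variable {G : Type u} [Group G] [Finite G] {H : Subgroup G}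

/-- The subgroup generated by the involutions at a point. -/
def invGen {H : Subgroup G} (p : G ⧸ H) : Subgroup G :=
  Subgroup.closure {s : G | orderOf s = 2 ∧ s • p = p}

theorem invGen_le (p : G ⧸ H) : invGen p ≤ stabilizer G p := (closure_le _).2 fun _ hs => hs.2

theorem conj_mem_invGen {p : G ⧸ H} {g : G} (hg : g • p = p) {x : G} (hx : x ∈ invGen p) :
    g * x * g⁻¹ ∈ invGen p := by
  have hle : invGen p ≤ (invGen p).comap (MulAut.conj g).toMonoidHom := (closure_le _).2 fun s hs => by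
    refine subset_closure ⟨(Invol.order_conj g s).trans hs.1, ?_⟩
    have h := conj_smul_eq (g := g) hs.2
    rwa [hg] at h
  simpa using hle hx

/-- The odd core of the group generated by the involutions at `p`. -/
noncomputable def invGenCore {H : Subgroup G} (p : G ⧸ H) : Subgroup G :=
  (Cfsg.oddCore (invGen p)).map (invGen p).subtype

theorem conj_mem_invGenCore {p : G ⧸ H} {g : G} (hg : g • p = p) {x : G} (hx : x ∈ invGenCore p) :
    g * x * g⁻¹ ∈ invGenCore p := by
  have hg' : g⁻¹ • p = p := inv_smul_eq_iff.2 hg.symm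
  let σ : invGen p ≃* invGen p :=
    { toFun := fun y => ⟨g * y * g⁻¹, conj_mem_invGen hg y.2⟩
      invFun := fun y => ⟨g⁻¹ * y * g, by simpa using conj_mem_invGen hg' y.2⟩
      left_inv := fun y => Subtype.ext (by simp [mul_assoc])
      right_inv := fun y => Subtype.ext (by simp [mul_assoc])
      map_mul' := fun y z => Subtype.ext (by simp [mul_assoc]) }
  obtain ⟨y, hy, rfl⟩ := hx
  have hCn : ((Cfsg.oddCore (invGen p)).map σ.toMonoidHom).Normal :=
    Normal.map (FittingCores.pPrimeCore_normal 2) _ σ.surjective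
  have hle : (Cfsg.oddCore (invGen p)).map σ.toMonoidHom ≤ Cfsg.oddCore (invGen p) :=
    SEBrick.le_oddCore hCn (SEBrick.oddCore_odd.of_dvd_nat (card_map_dvd _ _))
  exact ⟨_, hle (mem_map_of_mem _ hy), rfl⟩

/-- The W-lemma. -/
theorem wlemma (hH : Cfsg.IsStronglyEmbedded H) (hcore : H.normalCore = ⊥)
    (ih : Below.{u} (Nat.card G)) (hp : HasPair H) {p q : G ⧸ H} (hpq : p ≠ q) {W : Subgroup G}
    (hW1 : W ≠ ⊥) (hWp : W ≤ stabilizer G p) (hDW : pairStab p q ≤ normalizer (W : Set G)) {t : G}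
    (ht : orderOf t = 2) (htp : t • p = p) (htW : t ∈ normalizer (W : Set G)) {g : G}
    (hgW : g ∈ normalizer (W : Set G)) (hgpq : g • p = q) :
    Group.IsSolvable (invGen p) ∧
      (∀ x ∈ invGenCore p, ∀ k : G, k • p = p → x • k • q = k • q) ∧
      ((∀ r : G ⧸ H, r ≠ p → ∃ k : G, k • p = p ∧ k • q = r) → ∀ s s' : G, orderOf s = 2 →
        orderOf s' = 2 → s • p = p → s' • p = p → s * s' = s' * s) := by
  classical
  set L := normalizer (W : Set G) with hL
  have hinvL : ∀ s : G, orderOf s = 2 → s • p = p → s ∈ L := fun s hs hsp => by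
    obtain ⟨d, hd, rfl⟩ := pairStab_trans hH hpq ht htp hs hsp
    exact mul_mem (mul_mem (hDW hd) htW) (inv_mem (hDW hd))
  have hnot : ¬ L ≤ stabilizer G p := fun hle =>
    hpq (by rw [← hgpq]; exact (mem_stabilizer_iff.1 (hle hgW)).symm)
  have hfixall : ∀ x : G, (∀ r : G ⧸ H, x • r = r) → x = 1 := fun x hall => by
    rw [← mem_bot, ← hcore]
    intro b
    exact SEBrick.fix_base_iff.1 (by rw [mul_smul, mul_smul, hall, smul_inv_smul])
  have hLlt : Nat.card L < Nat.card G := by
    refine lt_of_le_of_ne (card_le_card_group L) fun he => hW1 ?_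
    have hWn : W.Normal := normalizer_eq_top_iff.1 (eq_top_of_card_eq L he)
    rw [eq_bot_iff]
    intro x hx
    refine mem_bot.2 (hfixall x fun r => ?_)
    obtain ⟨a, rfl⟩ := exists_smul_one r
    obtain ⟨b, hb⟩ := exists_smul_one p
    have hmem : (b * a⁻¹) * x * (b * a⁻¹)⁻¹ ∈ stabilizer G p := hWp (hWn.conj_mem x hx _)
    have h2 : (b * a⁻¹)⁻¹ • p = a • ((1 : G) : G ⧸ H) := by
      rw [← hb, ← mul_smul, mul_inv_rev, inv_inv, inv_mul_cancel_right]
    rw [← h2]
    have h3 : (b * a⁻¹ * x * (b * a⁻¹)⁻¹) • p = p := hmem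
    rw [eq_inv_smul_iff, ← mul_smul, ← mul_smul]
    exact h3
  set X := (stabilizer G p).subgroupOf L with hX
  have hse : Cfsg.IsStronglyEmbedded X := SESolv.se_sub (se_stab hH p) ht htp htW hnot
  have hKodd := SEBender.odd_normalCore hse
  have hXp : HasPair X := by
    obtain ⟨s₁, s₂, h1, h2, h1p, h2p, hne, hc⟩ := pair_at hH hp p
    refine ⟨⟨s₁, hinvL s₁ h1 h1p⟩, ⟨s₂, hinvL s₂ h2 h2p⟩, h1p, h2p, by rwa [Subgroup.orderOf_mk],
      by rwa [Subgroup.orderOf_mk], fun e => hne (congrArg Subtype.val e), Subtype.ext hc⟩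
  obtain ⟨hcomm, -⟩ := ih (L ⧸ X.normalCore) (X.map (QuotientGroup.mk' X.normalCore))
    ((Nat.card_le_card_of_surjective _ QuotientGroup.mk_surjective).trans_lt hLlt)
    (se_map X.normalCore_le hKodd hse) (core_map X.normalCore_le le_rfl)
    (pair_map X.normalCore_le hKodd hXp).exists_four
  -- the map of the generated group modulo the core
  have hYL : invGen p ≤ L := (closure_le _).2 fun s hs => hinvL s hs.1 hs.2
  set f : invGen p →* L ⧸ X.normalCore := (QuotientGroup.mk' _).comp (inclusion hYL) with hf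
  have hgen : ∀ y : invGen p, f y * f y = 1 ∧ ∀ z : invGen p, f y * f z = f z * f y := by
    have hcommS : ∀ s s' : G, ∀ hs : orderOf s = 2 ∧ s • p = p, ∀ hs' : orderOf s' = 2 ∧ s' • p = p,
        f ⟨s, subset_closure hs⟩ * f ⟨s', subset_closure hs'⟩ =
          f ⟨s', subset_closure hs'⟩ * f ⟨s, subset_closure hs⟩ := fun s s' hs hs' =>
      hcomm _ _ ⟨⟨s, hinvL s hs.1 hs.2⟩, hs.2, rfl⟩ ⟨⟨s', hinvL s' hs'.1 hs'.2⟩, hs'.2, rfl⟩
        (order_mk X.normalCore_le hKodd (by rw [Subgroup.orderOf_mk]; exact hs.1))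
        (order_mk X.normalCore_le hKodd (by rw [Subgroup.orderOf_mk]; exact hs'.1))
    have hc1 : ∀ (s : G) (hs : orderOf s = 2 ∧ s • p = p) (z : invGen p),
        f ⟨s, subset_closure hs⟩ * f z = f z * f ⟨s, subset_closure hs⟩ := by
      rintro s hs ⟨z, hz⟩
      induction hz using Subgroup.closure_induction with
      | mem x hx => exact hcommS s x hs hx
      | one =>
        rw [show (⟨1, one_mem _⟩ : invGen p) = 1 from rfl, map_one, mul_one, one_mul]
      | mul a b ha hb iha ihb =>
        rw [show (⟨a * b, mul_mem ha hb⟩ : invGen p) = ⟨a, ha⟩ * ⟨b, hb⟩ from rfl, map_mul]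
        exact (Commute.mul_right iha ihb)
      | inv a ha iha =>
        rw [show (⟨a⁻¹, inv_mem ha⟩ : invGen p) = (⟨a, ha⟩ : invGen p)⁻¹ from rfl, map_inv]
        exact (Commute.inv_right iha)
    rintro ⟨y, hy⟩
    induction hy using Subgroup.closure_induction with
    | mem x hx =>
      refine ⟨?_, hc1 x hx⟩
      rw [← map_mul, show (⟨x, subset_closure hx⟩ : invGen p) * ⟨x, subset_closure hx⟩ = 1 from
        Subtype.ext (Invol.mul_self hx.1), map_one]
    | one =>
      rw [show (⟨1, one_mem _⟩ : invGen p) = 1 from rfl, map_one]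
      exact ⟨one_mul 1, fun z => by rw [one_mul, mul_one]⟩
    | mul a b ha hb iha ihb =>
      rw [show (⟨a * b, mul_mem ha hb⟩ : invGen p) = ⟨a, ha⟩ * ⟨b, hb⟩ from rfl, map_mul]
      refine ⟨?_, fun z => (Commute.mul_left (iha.2 z) (ihb.2 z))⟩
      rw [Commute.mul_mul_mul_comm (ihb.2 ⟨a, ha⟩), iha.1, ihb.1, one_mul]
    | inv a ha iha =>
      rw [show (⟨a⁻¹, inv_mem ha⟩ : invGen p) = (⟨a, ha⟩ : invGen p)⁻¹ from rfl, map_inv]
      exact ⟨by rw [← mul_inv_rev, iha.1, inv_one], fun z => Commute.inv_left (iha.2 z)⟩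
  have hker : ∀ y : invGen p, f y = 1 → ((y : G) ∈ stabilizer G p) ∧
      ∀ h ∈ L, (y : G) • h • p = h • p := fun y hy => by
    have hmem : (inclusion hYL y) ∈ X.normalCore := (QuotientGroup.eq_one_iff _).1 hy
    refine ⟨invGen_le p y.2, fun h hh => ?_⟩
    have h1 := hmem (⟨h, hh⟩⁻¹ : L)
    have h2 : (h⁻¹ * (y : G) * h) • p = p := by simpa [hX, mem_subgroupOf] using h1
    calc (y : G) • h • p = h • (h⁻¹ * (y : G) * h) • p := by rw [← mul_smul, ← mul_smul]; congr 1; group
      _ = h • p := by rw [h2]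
  have hcoreker : ∀ y ∈ Cfsg.oddCore (invGen p), f y = 1 := fun y hy => by
    obtain ⟨k, hk⟩ := Invol.exists_sqrt (SEBrick.odd_order SEBrick.oddCore_odd hy)
    rw [← hk, map_pow, pow_two]
    exact (hgen (y ^ k)).1
  have hkerodd : Odd (Nat.card f.ker) := by
    refine SEBrick.odd_card_of_orders fun y hy hy2 => ?_
    have h1 : (inclusion hYL y) ∈ X.normalCore := (QuotientGroup.eq_one_iff _).1 hy
    have h2 : orderOf (inclusion hYL y) = 2 := by
      rwa [orderOf_injective (inclusion hYL) (inclusion_injective hYL)]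
    exact Nat.not_even_iff_odd.2 hKodd (Invol.even_of_invol_mem h2 h1)
  have hsol : Group.IsSolvable (invGen p) := by
    haveI : Group.IsSolvable f.ker := OddChar.oddSolvable _ hkerodd
    haveI : Group.IsSolvable f.range := Group.isSolvable_of_comm fun a b => by
      obtain ⟨y, hy⟩ := a.2
      obtain ⟨z, hz⟩ := b.2
      refine Subtype.ext ?_
      show (a : L ⧸ X.normalCore) * b = b * a
      rw [← hy, ← hz]; exact (hgen y).2 z
    exact Group.isSolvable_of_ker_le_range f.ker.subtype f.rangeRestrict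
      (by rw [MonoidHom.ker_rangeRestrict, Subgroup.range_subtype])
  have hfix : ∀ x ∈ invGenCore p, ∀ k : G, k • p = p → x • k • q = k • q := fun x hx k hk => by
    have hk' : k⁻¹ • p = p := inv_smul_eq_iff.2 hk.symm
    obtain ⟨y, hy, hye⟩ := conj_mem_invGenCore hk' hx
    rw [inv_inv] at hye
    have h1 := (hker y (hcoreker y hy)).2 g hgW
    have hye' : (y : G) = k⁻¹ * x * k := hye
    rw [hgpq, hye'] at h1
    calc x • k • q = k • (k⁻¹ * x * k) • q := by rw [← mul_smul, ← mul_smul]; congr 1; group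
      _ = k • q := by rw [h1]
  refine ⟨hsol, hfix, fun h2t s s' hs hs' hsp hsp' => ?_⟩
  have hbot : f.ker = ⊥ := by
    rw [eq_bot_iff]
    intro y hy
    have hyc : y ∈ Cfsg.oddCore (invGen p) := SEBrick.le_oddCore f.normal_ker hkerodd hy
    refine mem_bot.2 (Subtype.ext (hfixall _ fun r => ?_))
    by_cases hr : r = p
    · rw [hr]; exact invGen_le p y.2
    · obtain ⟨k, hk, hkr⟩ := h2t r hr
      rw [← hkr]
      exact hfix _ ⟨y, hyc, rfl⟩ k hk
  have hinj : Function.Injective f := (MonoidHom.ker_eq_bot_iff f).1 hbot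
  exact congrArg Subtype.val (hinj (a₁ := (⟨s, subset_closure ⟨hs, hsp⟩⟩ : invGen p) * ⟨s', subset_closure ⟨hs', hsp'⟩⟩)
    (a₂ := (⟨s', subset_closure ⟨hs', hsp'⟩⟩ : invGen p) * ⟨s, subset_closure ⟨hs, hsp⟩⟩)
    (by rw [map_mul, map_mul]; exact (hgen _).2 _))

end Cfsg.Agent.SEMain
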