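import Cfsg.Agent.Lib.SEMain.SolvableEnd
import Cfsg.Agent.Lib.SEMain.WLemma

/-!
# Consequences of a W-configuration

A subgroup `W` as in the W-lemma makes the involutions of `H` commute modulo the odd core, so it gives a
good pair; with two-fold transitivity it makes the involutions of `H` commute.
-/

set_option autoImplicit false
set_option linter.style.haveILetI false
set_option linter.unusedSectionVars false

namespace Cfsg.Agent.SEMain

open Subgroup MulAction

universe u

variable {G : Type u} [Group G] [Finite G] {H : Subgroup G}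

/-- The action on the cosets is two-fold transitive, stated at each point. -/
def TwoTrans (H : Subgroup G) : Prop :=
  ∀ p q r : G ⧸ H, q ≠ p → r ≠ p → ∃ k : G, k • p = p ∧ k • q = r

/-- The conjugate of `invGen p` is `invGen (g • p)`. -/
theorem map_invGen_le (g : G) (p : G ⧸ H) :
    (invGen p).map (MulAut.conj g).toMonoidHom ≤ invGen (g • p) := by
  rw [invGen, MonoidHom.map_closure]
  refine (closure_le _).2 ?_
  rintro _ ⟨s, ⟨hs, hsp⟩, rfl⟩
  exact subset_closure ⟨(Invol.order_conj g s).trans hs, conj_smul_eq hsp⟩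

/-- Solubility of the generated group moves along the points. -/
theorem solvable_invGen_smul {p : G ⧸ H} (g : G) (hsol : Group.IsSolvable (invGen p)) :
    Group.IsSolvable (invGen (g • p)) := by
  have hle : invGen (g • p) ≤ (invGen p).map (MulAut.conj g).toMonoidHom := fun x hx => by
    refine ⟨g⁻¹ * x * g, ?_, by simp [mul_assoc]⟩
    have h := map_invGen_le g⁻¹ (g • p) (mem_map_of_mem (MulAut.conj g⁻¹).toMonoidHom hx)
    rw [inv_smul_smul] at h
    simpa using h
  haveI : Group.IsSolvable ((invGen p).map (MulAut.conj g).toMonoidHom) :=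
    Group.isSolvable_of_surjective ((MulAut.conj g).toMonoidHom.subgroupMap_surjective _)
  exact Group.isSolvable_of_isSolvable_injective (f := inclusion hle) (inclusion_injective hle)

/-- Solubility at any point gives it at the base point. -/
theorem solvable_invGen_one {p : G ⧸ H} (hsol : Group.IsSolvable (invGen p)) :
    Group.IsSolvable (invGen (H := H) ((1 : G) : G ⧸ H)) := by
  obtain ⟨a, rfl⟩ := exists_smul_one p
  have h := solvable_invGen_smul a⁻¹ hsol
  rwa [inv_smul_smul] at h

/-- A W-configuration makes the involutions of `H` commute modulo the odd core. -/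
theorem commModCore_of_W (hH : Cfsg.IsStronglyEmbedded H) (hcore : H.normalCore = ⊥)
    (ih : Below.{u} (Nat.card G)) (hp : HasPair H) {p q : G ⧸ H} (hpq : p ≠ q) {W : Subgroup G}
    (hW1 : W ≠ ⊥) (hWp : W ≤ stabilizer G p) (hDW : pairStab p q ≤ normalizer (W : Set G)) {t : G}
    (ht : orderOf t = 2) (htp : t • p = p) (htW : t ∈ normalizer (W : Set G)) {g : G}
    (hgW : g ∈ normalizer (W : Set G)) (hgpq : g • p = q) : CommModCore H :=
  commModCore_of_solvable hH (solvable_invGen_one
    (wlemma hH hcore ih hp hpq hW1 hWp hDW ht htp htW hgW hgpq).1)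

/-- A W-configuration gives a good pair through the base point. -/
theorem good_pair_of_W (hH : Cfsg.IsStronglyEmbedded H) (hcore : H.normalCore = ⊥)
    (ih : Below.{u} (Nat.card G)) (hp : HasPair H) {p q : G ⧸ H} (hpq : p ≠ q) {W : Subgroup G}
    (hW1 : W ≠ ⊥) (hWp : W ≤ stabilizer G p) (hDW : pairStab p q ≤ normalizer (W : Set G)) {t : G}
    (ht : orderOf t = 2) (htp : t • p = p) (htW : t ∈ normalizer (W : Set G)) {g : G}
    (hgW : g ∈ normalizer (W : Set G)) (hgpq : g • p = q) :
    ∃ r : ℕ, r.Prime ∧ r ≠ 2 ∧ r ∣ numInv H ∧ ∃ (b : G ⧸ H) (R : Subgroup G),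
      ((1 : G) : G ⧸ H) ≠ b ∧ IsPGroup r R ∧ R ≤ pairStab ((1 : G) : G ⧸ H) b ∧
      Nat.card R = r ^ (Nat.card (pairStab ((1 : G) : G ⧸ H) b)).factorization r ∧
      PairMaximal H r R ∧
      ∀ f : G ⧸ H, R ≤ stabilizer G f → f = ((1 : G) : G ⧸ H) ∨ f = b :=
  exists_good_pair hH hp (commModCore_of_W hH hcore ih hp hpq hW1 hWp hDW ht htp htW hgW hgpq)

/-- A W-configuration and two-fold transitivity: the involutions of `H` commute. -/
theorem commute_of_W (hH : Cfsg.IsStronglyEmbedded H) (hcore : H.normalCore = ⊥)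
    (ih : Below.{u} (Nat.card G)) (hp : HasPair H) (h2 : TwoTrans H) {p q : G ⧸ H} (hpq : p ≠ q)
    {W : Subgroup G} (hW1 : W ≠ ⊥) (hWp : W ≤ stabilizer G p)
    (hDW : pairStab p q ≤ normalizer (W : Set G)) {t : G} (ht : orderOf t = 2) (htp : t • p = p)
    (htW : t ∈ normalizer (W : Set G)) {g : G} (hgW : g ∈ normalizer (W : Set G)) (hgpq : g • p = q)
    {x y : G} (hxH : x ∈ H) (hyH : y ∈ H) (hx : orderOf x = 2) (hy : orderOf y = 2) :
    x * y = y * x := by
  obtain ⟨a, ha⟩ := exists_smul_one p
  have hfix : ∀ {z : G}, z ∈ H → (a * z * a⁻¹) • p = p := fun {z} hz => by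
    have h := conj_smul_eq (g := a) (SEBrick.fix_base_iff.2 hz)
    rwa [ha] at h
  have h := (wlemma hH hcore ih hp hpq hW1 hWp hDW ht htp htW hgW hgpq).2.2
    (fun r hr => h2 p q r (Ne.symm hpq) hr) _ _ ((Invol.order_conj a x).trans hx)
    ((Invol.order_conj a y).trans hy) (hfix hxH) (hfix hyH)
  calc x * y = a⁻¹ * ((a * x * a⁻¹) * (a * y * a⁻¹)) * a := by group
    _ = a⁻¹ * ((a * y * a⁻¹) * (a * x * a⁻¹)) * a := by rw [h]
    _ = y * x := by group

end Cfsg.Agent.SEMain
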