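import Cfsg.Agent.Lib.SEMain.ModCore
import Cfsg.Agent.Lib.SEMain.SolvableEnd
import Cfsg.Agent.Lib.SEMain.PairSylow
import Cfsg.Agent.Lib.SEMain.WTrans
import Cfsg.Agent.Lib.PLocal.FixedPointFree

/-!
A normal subgroup of a point stabiliser containing a `p`-group with exactly two fixed points is transitive on
the other points; one with an involution and meeting the two-point stabiliser trivially gives commutation
modulo the odd core.
-/

set_option autoImplicit false
set_option linter.style.haveILetI false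
set_option linter.unusedSectionVars false

namespace Cfsg.Agent.SEMain

open Subgroup MulAction

universe u

variable {G : Type u} [Group G] [Finite G] {H : Subgroup G} {r : ℕ} [Fact r.Prime]

/-- A subgroup of the point stabiliser, normalised by a group transitive on the other points, containing an
`r`-group with exactly two fixed points, is transitive on the other points. -/
theorem normal_transitive_of {a b : G ⧸ H} (hab : a ≠ b) {L : Subgroup G} (hLa : L ≤ stabilizer G a)
    (htr : ∀ z, z ≠ a → ∃ h ∈ L, h • b = z) {K T : Subgroup G}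
    (hKa : K ≤ stabilizer G a) (hKn : L ≤ normalizer (K : Set G)) (hT : IsPGroup r T)
    (hTK : T ≤ K) (hTb : T ≤ stabilizer G b) (honly : OnlyTwo T a b) {x y : G ⧸ H} (hx : x ≠ a)
    (hy : y ≠ a) : ∃ k ∈ K, k • x = y := by
  let Orb : G ⧸ H → Set (G ⧸ H) := fun z => {w | ∃ k ∈ K, k • z = w}
  have hst : ∀ z, ∀ t ∈ T, ∀ w ∈ Orb z, t • w ∈ Orb z := by
    rintro z t ht _ ⟨k, hk, rfl⟩
    exact ⟨t * k, mul_mem (hTK ht) hk, mul_smul t k z⟩
  have hne : ∀ {z w}, z ≠ a → w ∈ Orb z → w ≠ a := by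
    rintro z _ hz ⟨k, hk, rfl⟩ e
    exact hz (smul_left_cancel k (e.trans (hKa hk).symm))
  have hcard : ∀ z, z ≠ a → Nat.card (Orb z) = Nat.card (Orb b) := by
    intro z hz
    obtain ⟨h, hha, rfl⟩ := htr z hz
    have himg : Orb (h • b) = (h • ·) '' Orb b := by
      ext w
      constructor
      · rintro ⟨k, hk, rfl⟩
        exact ⟨(h⁻¹ * k * h⁻¹⁻¹) • b, ⟨_, SEBrick.conj_mem_of (inv_mem (hKn hha)) hk, rfl⟩, by
          show h • _ = _
          rw [← mul_smul, ← mul_smul]
          congr 1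
          group⟩
      · rintro ⟨_, ⟨k, hk, rfl⟩, rfl⟩
        refine ⟨h * k * h⁻¹, SEBrick.conj_mem_of (hKn hha) hk, ?_⟩
        show _ = h • (k • b)
        rw [← mul_smul, ← mul_smul]
        congr 1
        group
    rw [himg, Nat.card_image_of_injective (MulAction.injective h) (Orb b)]
  have hall : ∀ z, z ≠ a → b ∈ Orb z := by
    intro z hz
    by_contra hb
    have hfree : ∀ w ∈ Orb z, ¬ T ≤ stabilizer G w := fun w hw hTw => by
      rcases honly w hTw with e | e
      · exact hne hz hw e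
      · exact hb (e ▸ hw)
    have h1 := (hT.card_modEq_card_fixedPoints (⟨Orb z, fun t w hw => hst z t t.2 w hw⟩ :
      SubMulAction T (G ⧸ H)))
    have h3 := hT.card_modEq_card_fixedPoints (⟨Orb b, fun t w hw => hst b t t.2 w hw⟩ :
      SubMulAction T (G ⧸ H))
    set A := (⟨Orb z, fun t w hw => hst z t t.2 w hw⟩ : SubMulAction T (G ⧸ H))
    set B := (⟨Orb b, fun t w hw => hst b t t.2 w hw⟩ : SubMulAction T (G ⧸ H))
    haveI : IsEmpty (fixedPoints T A) := ⟨fun w => hfree _ w.1.2 fun t ht =>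
      congrArg Subtype.val (w.2 ⟨t, ht⟩)⟩
    haveI : Nonempty (fixedPoints T B) :=
      ⟨⟨⟨b, 1, one_mem _, one_smul _ _⟩, fun t => Subtype.ext (hTb t.2)⟩⟩
    haveI : Subsingleton (fixedPoints T B) := ⟨fun v w => by
      have key : ∀ v : fixedPoints T B, ((v : B) : G ⧸ H) = b := fun v =>
        (honly _ fun t ht => congrArg Subtype.val (v.2 ⟨t, ht⟩)).resolve_left
          (hne (Ne.symm hab) v.1.2)
      exact Subtype.ext (Subtype.ext ((key v).trans (key w).symm))⟩
    rw [Nat.card_of_isEmpty (α := fixedPoints T A)] at h1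
    rw [(Nat.card_eq_one_iff_unique (α := fixedPoints T B)).2 ⟨inferInstance, inferInstance⟩] at h3
    change Nat.card (Orb z) ≡ 0 [MOD r] at h1
    change Nat.card (Orb b) ≡ 1 [MOD r] at h3
    rw [hcard z hz] at h1
    exact (Fact.out : r.Prime).one_lt.ne' (Nat.dvd_one.1 (Nat.modEq_zero_iff_dvd.1 (h3.symm.trans h1)))
  obtain ⟨k, hk, hkx⟩ := hall x hx
  obtain ⟨l, hl, hly⟩ := hall y hy
  exact ⟨l⁻¹ * k, mul_mem (inv_mem hl) hk, by rw [mul_smul, hkx, ← hly, inv_smul_smul]⟩

/-- A subgroup normalised by a stabiliser transitive on the other points, containing an `r`-group with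
exactly two fixed points, is transitive on the other points. -/
theorem normal_transitive (h2 : TwoTrans H) {a b : G ⧸ H} (hab : a ≠ b) {K T : Subgroup G}
    (hKa : K ≤ stabilizer G a) (hKn : stabilizer G a ≤ normalizer (K : Set G)) (hT : IsPGroup r T)
    (hTK : T ≤ K) (hTb : T ≤ stabilizer G b) (honly : OnlyTwo T a b) {x y : G ⧸ H} (hx : x ≠ a)
    (hy : y ≠ a) : ∃ k ∈ K, k • x = y :=
  normal_transitive_of hab le_rfl (fun z hz => (h2 a b z (Ne.symm hab) hz).imp fun _ h => h) hKa hKn hT hTK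
    hTb honly hx hy

/-- Such a subgroup and a two-point stabiliser make up the point stabiliser. -/
theorem exists_mem_mul_pairStab (h2 : TwoTrans H) {a b : G ⧸ H} (hab : a ≠ b) {K T : Subgroup G}
    (hKa : K ≤ stabilizer G a) (hKn : stabilizer G a ≤ normalizer (K : Set G)) (hT : IsPGroup r T)
    (hTK : T ≤ K) (hTb : T ≤ stabilizer G b) (honly : OnlyTwo T a b) {h : G} (hh : h • a = a) :
    ∃ k ∈ K, k⁻¹ * h ∈ pairStab a b := by
  have hne : h • b ≠ a := fun e => hab (smul_left_cancel h (hh.trans e.symm))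
  obtain ⟨k, hk, hkb⟩ := normal_transitive h2 hab hKa hKn hT hTK hTb honly (Ne.symm hab) hne
  refine ⟨k, hk, mem_pairStab.2 ⟨?_, ?_⟩⟩
  · rw [mul_smul, hh]; exact inv_mem (hKa hk)
  · rw [mul_smul, ← hkb, inv_smul_smul]

variable (hH : Cfsg.IsStronglyEmbedded H)
include hH

/-- Such a subgroup has odd index in the point stabiliser. -/
theorem relIndex_odd_of_normal (h2 : TwoTrans H) {a b : G ⧸ H} (hab : a ≠ b) {K T : Subgroup G}
    (hKa : K ≤ stabilizer G a) (hKn : stabilizer G a ≤ normalizer (K : Set G)) (hT : IsPGroup r T)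
    (hTK : T ≤ K) (hTb : T ≤ stabilizer G b) (honly : OnlyTwo T a b) :
    Odd (K.relIndex (stabilizer G a)) := by
  refine (pairStab_odd hH hab).of_dvd_nat ?_
  haveI : (K.subgroupOf (stabilizer G a)).Normal := (normal_subgroupOf_iff_le_normalizer hKa).2 hKn
  rw [relIndex, index_eq_card]
  refine card_dvd_of_surjective ((QuotientGroup.mk' (K.subgroupOf (stabilizer G a))).comp
    (inclusion (inf_le_left : pairStab a b ≤ stabilizer G a))) fun z => ?_
  induction z using QuotientGroup.induction_on with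
  | _ m =>
    obtain ⟨k, hk, hd⟩ := exists_mem_mul_pairStab h2 hab hKa hKn hT hTK hTb honly m.2
    refine ⟨⟨_, hd⟩, ?_⟩
    show (QuotientGroup.mk (inclusion inf_le_left ⟨_, hd⟩) : stabilizer G a ⧸ K.subgroupOf (stabilizer G a)) = _
    rw [QuotientGroup.eq, mem_subgroupOf]
    show (k⁻¹ * (m : G))⁻¹ * (m : G) ∈ K
    rw [show (k⁻¹ * (m : G))⁻¹ * (m : G) = (m : G)⁻¹ * k * (m : G)⁻¹⁻¹ by group]
    exact SEBrick.conj_mem_of (inv_mem (hKn m.2)) hk

/-- A subgroup with an involution, normal in a normal subgroup of `H` and meeting the two-point stabiliser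
trivially, makes the involutions commute modulo the odd core if an element of prime order normalising it
fixes exactly two points. -/
theorem commModCore_of_regular_of {b : G ⧸ H} (hab : ((1 : G) : G ⧸ H) ≠ b) {L : Subgroup G} (hLH : L ≤ H)
    (hLn : H ≤ normalizer (L : Set G)) {k : G} (hkr : k ^ r = 1) (hkL : k ∈ L)
    (hk : k ∈ pairStab ((1 : G) : G ⧸ H) b)
    (honly : OnlyTwo (zpowers k) ((1 : G) : G ⧸ H) b) {N : Subgroup G} (hNL : N ≤ L)
    (hNn : L ≤ normalizer (N : Set G)) {s : G} (hs : orderOf s = 2) (hsN : s ∈ N)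
    (hreg : ∀ n ∈ N, n • b = b → n = 1) : CommModCore H := by
  classical
  set a := ((1 : G) : G ⧸ H) with ha
  haveI hLn' : (L.subgroupOf H).Normal := (normal_subgroupOf_iff_le_normalizer hLH).2 hLn
  set L' := L.subgroupOf H with hL'
  set N' := (N.subgroupOf H).subgroupOf L' with hN'
  haveI hNn' : N'.Normal := ⟨fun n hn g => by
    rw [hN', mem_subgroupOf, mem_subgroupOf] at hn ⊢
    exact SEBrick.conj_mem_of (hNn g.2) hn⟩
  haveI hnil : Group.IsNilpotent N' := by
    refine FixedPointFreeThompson.isNilpotent_of_conj _ (Fact.out : r.Prime)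
      (⟨⟨k, hLH hkL⟩, hkL⟩ : L') (Subtype.ext (Subtype.ext hkr)) fun x hx he => ?_
    have hxk : k * ((x : H) : G) = ((x : H) : G) * k :=
      congrArg (fun y : L' => ((y : H) : G)) he
    have hxN : ((x : H) : G) ∈ N := hx
    have hfix : zpowers k ≤ stabilizer G (((x : H) : G) • b) := zpowers_le.2 (by
      rw [mem_stabilizer_iff, ← mul_smul, hxk, mul_smul, (mem_pairStab.1 hk).2])
    refine Subtype.ext (Subtype.ext (hreg _ hxN ((honly _ hfix).resolve_left fun e => hab ?_)))
    have hxa : ((x : H) : G) • a = a := SEBrick.fix_base_iff.2 (x : H).2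
    exact smul_left_cancel ((x : H) : G) (hxa.trans e.symm)
  haveI : Fact (Nat.Prime 2) := ⟨Nat.prime_two⟩
  obtain ⟨S⟩ : Nonempty (Sylow 2 N') := inferInstance
  haveI hSn : (S : Subgroup N').Normal :=
    ((Group.isNilpotent_of_finite_tfae (G := N')).out 0 3 rfl rfl).1 hnil 2 inferInstance S
  haveI hSc : (S : Subgroup N').Characteristic := S.characteristic_of_normal hSn
  have hS'n : ((S : Subgroup N').map N'.subtype).Normal := FittingCores.normal_map_of_characteristic hNn' hSc
  haveI hQc : (Cfsg.pCore 2 L').Characteristic := FittingCores.pCore_characteristic 2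
  set Q := (Cfsg.pCore 2 L').map L'.subtype with hQ
  haveI hQn : Q.Normal := FittingCores.normal_map_of_characteristic hLn' hQc
  haveI : (Q.map (QuotientGroup.mk' (Cfsg.oddCore H))).Normal := hQn.map _ (QuotientGroup.mk'_surjective _)
  refine commModCore_of_two hH (N := Q.map (QuotientGroup.mk' (Cfsg.oddCore H)))
    (((FittingCores.pCore_isPGroup 2).map _).map _) fun e => ?_
  let s' : N' := ⟨⟨⟨s, hLH (hNL hsN)⟩, hNL hsN⟩, hsN⟩
  have hs' : orderOf s' = 2 := by
    rw [← Subgroup.orderOf_coe, ← Subgroup.orderOf_coe, ← Subgroup.orderOf_coe]; exact hs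
  obtain ⟨S₁, hS₁⟩ := (IsPGroup.of_card (p := 2) (n := 1) (by rw [Nat.card_zpowers, pow_one, hs']) :
    IsPGroup 2 (zpowers s')).exists_le_sylow
  obtain ⟨g, hg⟩ := exists_smul_eq N' S S₁
  rw [Sylow.smul_eq_of_normal] at hg
  have hsS : s' ∈ (S : Subgroup N') := hg ▸ hS₁ (mem_zpowers s')
  have hsQ : (s' : L') ∈ Cfsg.pCore 2 L' :=
    AxB.le_pCore hS'n (S.isPGroup'.map _) ⟨s', hsS, rfl⟩
  rw [Subgroup.map_eq_bot_iff, QuotientGroup.ker_mk'] at e
  refine Nat.not_even_iff_odd.2 SEBrick.oddCore_odd (Invol.even_of_invol_mem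
    (K := Cfsg.oddCore H) (t := ⟨s, hLH (hNL hsN)⟩) ?_ (e ⟨_, hsQ, rfl⟩))
  rw [Subgroup.orderOf_mk]
  exact hs

/-- A normal subgroup of `H` with an involution, meeting the two-point stabiliser trivially, makes the
involutions commute modulo the odd core if an element of prime order fixes exactly two points. -/
theorem commModCore_of_regular {b : G ⧸ H} (hab : ((1 : G) : G ⧸ H) ≠ b) {k : G}
    (hkr : k ^ r = 1) (hk : k ∈ pairStab ((1 : G) : G ⧸ H) b)
    (honly : OnlyTwo (zpowers k) ((1 : G) : G ⧸ H) b) {N : Subgroup G} (hNH : N ≤ H)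
    (hNn : H ≤ normalizer (N : Set G)) {s : G} (hs : orderOf s = 2) (hsN : s ∈ N)
    (hreg : ∀ n ∈ N, n • b = b → n = 1) : CommModCore H :=
  commModCore_of_regular_of hH hab le_rfl le_normalizer hkr (SEBrick.fix_base_iff.1 (mem_pairStab.1 hk).1)
    hk honly hNH hNn hs hsN hreg

end Cfsg.Agent.SEMain
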