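import Cfsg.Agent.Lib.SEMain.HypA

/-!
# An `r`-group maximal among those with three fixed points

If its normaliser has 2-rank at most one it is pair-maximal. If not, the involutions of the normaliser
do not all fix the same point.
-/

set_option autoImplicit false
set_option linter.style.haveILetI false
set_option linter.unusedSectionVars false

namespace Cfsg.Agent.SEMain

open Subgroup MulAction

universe u

variable {G : Type u} [Group G] [Finite G] {H : Subgroup G}

/-- `Y` fixes three points. -/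
def FixesThree (H Y : Subgroup G) : Prop :=
  ∃ a b c : G ⧸ H, a ≠ b ∧ b ≠ c ∧ a ≠ c ∧ Y ≤ stabilizer G a ∧ Y ≤ stabilizer G b ∧ Y ≤ stabilizer G c

/-- An `r`-group maximal among those with three fixed points. -/
structure MaxThree (H : Subgroup G) (r : ℕ) (Y : Subgroup G) : Prop where
  pgroup : IsPGroup r Y
  three : FixesThree H Y
  max : ∀ Z : Subgroup G, IsPGroup r Z → Y ≤ Z → FixesThree H Z → Z = Y

/-- In an `r`-group a proper subgroup is normalised by an element outside it. -/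
theorem exists_normalizer_gt {r : ℕ} [Fact r.Prime] {Y P : Subgroup G} (hP : IsPGroup r P) (hle : Y ≤ P)
    (hne : P ≠ Y) : ∃ g ∈ P, g ∈ normalizer (Y : Set G) ∧ g ∉ Y := by
  haveI := hP.isNilpotent
  have hlt : Y.subgroupOf P < ⊤ := lt_top_iff_ne_top.2 fun e =>
    hne (le_antisymm (subgroupOf_eq_top.1 e) hle)
  obtain ⟨g, hgn, hg⟩ := SetLike.exists_of_lt (Group.normalizerCondition_of_isNilpotent _ hlt)
  exact ⟨g, g.2, SEBrick.mem_normalizer_of fun x hx => mem_subgroupOf.1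
    (SEBrick.conj_mem_of hgn (show (⟨x, hle hx⟩ : P) ∈ Y.subgroupOf P from mem_subgroupOf.2 hx)),
    fun h => hg (mem_subgroupOf.2 h)⟩

variable {r : ℕ} [Fact r.Prime] {Y : Subgroup G} (hY : MaxThree H r Y)
include hY

/-- A larger `r`-group fixing `x` and `y` fixes nothing else. -/
theorem MaxThree.only {Z : Subgroup G} (hZ : IsPGroup r Z) (hlt : Y < Z) {x y f : G ⧸ H} (hxy : x ≠ y)
    (hx : Z ≤ stabilizer G x) (hy : Z ≤ stabilizer G y) (hf : Z ≤ stabilizer G f) : f = x ∨ f = y := by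
  by_contra hno
  obtain ⟨h1, h2⟩ := not_or.1 hno
  exact hlt.ne' (hY.max Z hZ hlt.le ⟨x, y, f, hxy, Ne.symm h2, Ne.symm h1, hx, hy, hf⟩)

/-- Where `Y` is not maximal in the stabiliser of a pair of its fixed points, a Sylow subgroup of its
normaliser has just these two fixed points. -/
theorem MaxThree.exists_sylow_pair (hr2 : r ≠ 2) {x y : G ⧸ H} (hxy : x ≠ y) (hx : Y ≤ stabilizer G x)
    (hy : Y ≤ stabilizer G y) {P : Subgroup G} (hP : IsPGroup r P) (hYP : Y ≤ P)
    (hPD : P ≤ stabilizer G x ⊓ stabilizer G y) (hne : P ≠ Y) :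
    ∃ S : Sylow r (normalizer (Y : Set G)),
      Y < (S : Subgroup (normalizer (Y : Set G))).map (normalizer (Y : Set G)).subtype ∧
      (S : Subgroup (normalizer (Y : Set G))).map (normalizer (Y : Set G)).subtype ≤
          stabilizer G x ⊓ stabilizer G y ∧
      ∀ f : G ⧸ H, (S : Subgroup (normalizer (Y : Set G))).map (normalizer (Y : Set G)).subtype ≤
        stabilizer G f → f = x ∨ f = y := by
  set X := normalizer (Y : Set G) with hX
  obtain ⟨g, hgP, hgX, hgY⟩ := exists_normalizer_gt hP hYP hne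
  obtain ⟨Z, hZ0, ⟨hZ, hZX⟩, hmax⟩ := Finite.exists_le_maximal
    (p := fun S : Subgroup G => IsPGroup r S ∧ S ≤ X ⊓ (stabilizer G x ⊓ stabilizer G y))
    (a := Y ⊔ zpowers g) ⟨hP.to_le (sup_le hYP (zpowers_le.2 hgP)),
      sup_le (le_inf le_normalizer (le_inf hx hy))
        (zpowers_le.2 (mem_inf.2 ⟨hgX, hPD hgP⟩))⟩
  have hlt : Y < Z := lt_of_le_of_ne (le_sup_left.trans hZ0) fun e =>
    hgY (e ▸ hZ0 (mem_sup_right (mem_zpowers g)))
  have hfix : ∀ f : G ⧸ H, Z ≤ stabilizer G f → f = x ∨ f = y := fun f hf =>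
    hY.only hZ hlt hxy (hZX.trans (inf_le_right.trans inf_le_left))
      (hZX.trans (inf_le_right.trans inf_le_right)) hf
  have hZmax : ∀ Q : Subgroup G, IsPGroup r Q → Q ≤ X → Z ≤ Q → Q = Z := by
    intro Q hQ hQX hZQ
    by_contra hne'
    obtain ⟨k, hkQ, hkN, hkZ⟩ := exists_normalizer_gt hQ hZQ hne'
    have hko : Odd (orderOf k) := by
      obtain ⟨n, hn⟩ := IsPGroup.iff_orderOf.1 hQ ⟨k, hkQ⟩
      rw [← Subgroup.orderOf_coe] at hn
      rw [show orderOf k = r ^ n from hn]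
      exact ((Fact.out : r.Prime).odd_of_ne_two hr2).pow
    have hZx : Z ≤ stabilizer G x := hZX.trans (inf_le_right.trans inf_le_left)
    have hZy : Z ≤ stabilizer G y := hZX.trans (inf_le_right.trans inf_le_right)
    have hkx : k • x = x := (hfix _ (le_stabilizer_smul hkN hZx)).resolve_right fun e => by
      rcases hfix _ (le_stabilizer_smul hkN hZy) with e' | e'
      · exact hxy (eq_of_swap_odd hko e e')
      · exact hxy (MulAction.injective k (e.trans e'.symm))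
    have hky : k • y = y := (hfix _ (le_stabilizer_smul hkN hZy)).resolve_left fun e =>
      hxy (MulAction.injective k (hkx.trans e.symm))
    exact hkZ ((hmax (y := Z ⊔ zpowers k) ⟨hQ.to_le (sup_le hZQ (zpowers_le.2 hkQ)),
      sup_le hZX (zpowers_le.2 (mem_inf.2 ⟨hQX hkQ, hkx, hky⟩))⟩ le_sup_left)
      (mem_sup_right (mem_zpowers k)))
  obtain ⟨S, hS⟩ := (hZ.comap_subtype : IsPGroup r (Z.subgroupOf X)).exists_le_sylow
  have hSeq : (S : Subgroup X).map X.subtype = Z :=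
    hZmax _ (S.isPGroup'.map _) (map_subtype_le _)
      (fun z hz => ⟨⟨z, (hZX hz).1⟩, hS hz, rfl⟩)
  exact ⟨S, hSeq.symm ▸ hlt, hSeq.symm ▸ hZX.trans inf_le_right, hSeq.symm ▸ hfix⟩

/-- Each pair of fixed points is swapped in the normaliser or is the fixed point set of a Sylow subgroup
of it. -/
theorem MaxThree.swap_or_sylow (hH : Cfsg.IsStronglyEmbedded H) (hr2 : r ≠ 2) {x y : G ⧸ H} (hxy : x ≠ y)
    (hx : Y ≤ stabilizer G x) (hy : Y ≤ stabilizer G y) :
    (∃ v : G, orderOf v = 2 ∧ v ∈ normalizer (Y : Set G) ∧ v • x = y) ∨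
      ∃ S : Sylow r (normalizer (Y : Set G)),
        Y < (S : Subgroup (normalizer (Y : Set G))).map (normalizer (Y : Set G)).subtype ∧
        (S : Subgroup (normalizer (Y : Set G))).map (normalizer (Y : Set G)).subtype ≤
            stabilizer G x ⊓ stabilizer G y ∧
        ∀ f : G ⧸ H, (S : Subgroup (normalizer (Y : Set G))).map (normalizer (Y : Set G)).subtype ≤
          stabilizer G f → f = x ∨ f = y := by
  by_cases hm : ∀ P : Subgroup G, IsPGroup r P → Y ≤ P → P ≤ stabilizer G x ⊓ stabilizer G y → P = Y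
  · obtain ⟨v, hv, hvY, hvx, -⟩ := exists_normalizing_swapper_at hH hY.pgroup hxy hx hy hm
    exact Or.inl ⟨v, hv, hvY, hvx⟩
  · push Not at hm
    obtain ⟨P, hP, hYP, hPD, hne⟩ := hm
    exact Or.inr (hY.exists_sylow_pair hr2 hxy hx hy hP hYP hPD hne)

/-- An odd normal subgroup of the normaliser transitive on the fixed points makes `Y` pair-maximal. -/
theorem MaxThree.pairMaximal_of_transitive (hr2 : r ≠ 2) (O : Subgroup (normalizer (Y : Set G))) [O.Normal]
    (hO : Odd (Nat.card O))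
    (htr : ∀ x y : G ⧸ H, Y ≤ stabilizer G x → Y ≤ stabilizer G y → ∃ o ∈ O, (o : G) • x = y) :
    PairMaximal H r Y := by
  intro x y hxy hYD P hP hYP hPD
  by_contra hne
  obtain ⟨S, hlt, hSD, hSonly⟩ := hY.exists_sylow_pair hr2 hxy (hYD.trans inf_le_left)
    (hYD.trans inf_le_right) hP hYP hPD hne
  let Φ := orbit (normalizer (Y : Set G)) x
  have hΦ : ∀ f : Φ, Y ≤ stabilizer G (f : G ⧸ H) := by
    rintro ⟨f, g, rfl⟩
    exact le_stabilizer_smul g.2 (hYD.trans inf_le_left)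
  have htrΦ : ∀ a b : Φ, ∃ o ∈ O, o • a = b := fun a b => by
    obtain ⟨o, ho, he⟩ := htr a b (hΦ a) (hΦ b)
    exact ⟨o, ho, Subtype.ext he⟩
  obtain ⟨o, ho, hoy⟩ := htr x y (hYD.trans inf_le_left) (hYD.trans inf_le_right)
  obtain ⟨f, hf1, hf2, hf3⟩ := exists_third_fixed (Φ := Φ) O hO htrΦ hr2 S.isPGroup'
    (p := ⟨x, mem_orbit_self x⟩) (q := ⟨y, o, hoy⟩) (fun e => hxy (congrArg Subtype.val e))
    (fun s hs => Subtype.ext (hSD ⟨s, hs, rfl⟩).1) (fun s hs => Subtype.ext (hSD ⟨s, hs, rfl⟩).2)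
  have hfix : (S : Subgroup (normalizer (Y : Set G))).map (normalizer (Y : Set G)).subtype ≤ stabilizer G (f : G ⧸ H) := by
    rintro _ ⟨s, hs, rfl⟩
    exact congrArg Subtype.val (hf3 s hs)
  rcases hSonly f hfix with e | e
  · exact hf1 (Subtype.ext e)
  · exact hf2 (Subtype.ext e)

/-- With a normaliser of odd order there are no three fixed points. -/
theorem MaxThree.exists_invol (hH : Cfsg.IsStronglyEmbedded H) (hr2 : r ≠ 2) :
    ∃ v : G, orderOf v = 2 ∧ v ∈ normalizer (Y : Set G) := by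
  by_contra hno
  push Not at hno
  set X := normalizer (Y : Set G) with hX
  have hsyl : ∀ x y : G ⧸ H, x ≠ y → Y ≤ stabilizer G x → Y ≤ stabilizer G y →
      ∃ S : Sylow r X, Y < (S : Subgroup X).map X.subtype ∧
        (S : Subgroup X).map X.subtype ≤ stabilizer G x ⊓ stabilizer G y ∧
        ∀ f : G ⧸ H, (S : Subgroup X).map X.subtype ≤ stabilizer G f → f = x ∨ f = y := fun x y hxy hx hy =>
    (hY.swap_or_sylow hH hr2 hxy hx hy).resolve_left fun ⟨v, hv, hvX, _⟩ => hno v hv hvX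
  -- two pairs are conjugate
  have hpairs : ∀ x y x' y' : G ⧸ H, x ≠ y → x' ≠ y' → Y ≤ stabilizer G x → Y ≤ stabilizer G y →
      Y ≤ stabilizer G x' → Y ≤ stabilizer G y' →
      ∃ m ∈ X, (m • x = x' ∧ m • y = y') ∨ (m • x = y' ∧ m • y = x') := by
    intro x y x' y' hxy hxy' hx hy hx' hy'
    obtain ⟨S, -, hSD, -⟩ := hsyl x y hxy hx hy
    obtain ⟨S', -, -, hS'⟩ := hsyl x' y' hxy' hx' hy'
    obtain ⟨m, hm⟩ := exists_smul_eq X S S'
    have key : ∀ z : G ⧸ H, (S : Subgroup X).map X.subtype ≤ stabilizer G z →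
        (S' : Subgroup X).map X.subtype ≤ stabilizer G ((m : G) • z) := by
      rintro z hz _ ⟨s, hs, rfl⟩
      rw [← hm] at hs
      replace hs : s ∈ ((MulAut.conj m • S : Sylow r X) : Subgroup X) := hs
      rw [Sylow.pointwise_smul_def, mem_pointwise_smul_iff_inv_smul_mem] at hs
      have h := hz ⟨_, hs, rfl⟩
      rw [mem_stabilizer_iff] at h ⊢
      simpa [mul_smul, inv_smul_eq_iff] using h
    refine ⟨m, m.2, ?_⟩
    rcases hS' _ (key x (hSD.trans inf_le_left)) with h1 | h1 <;>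
      rcases hS' _ (key y (hSD.trans inf_le_right)) with h2 | h2
    · exact absurd (MulAction.injective (m : G) (h1.trans h2.symm)) hxy
    · exact Or.inl ⟨h1, h2⟩
    · exact Or.inr ⟨h1, h2⟩
    · exact absurd (MulAction.injective (m : G) (h1.trans h2.symm)) hxy
  obtain ⟨a, b, c, hab, hbc, hac, ha, hb, hc⟩ := hY.three
  -- some pair lies in one orbit, so all do
  obtain ⟨x, y, hxy, hx, hy, n, hn, hny⟩ : ∃ x y, x ≠ y ∧ Y ≤ stabilizer G x ∧ Y ≤ stabilizer G y ∧
      ∃ n ∈ X, n • x = y := by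
    obtain ⟨m, hm, ⟨h1, h2⟩ | ⟨h1, h2⟩⟩ := hpairs a b a c hab hac ha hb ha hc
    · exact ⟨b, c, hbc, hb, hc, m, hm, h2⟩
    · exact ⟨a, c, hac, ha, hc, m, hm, h1⟩
  have htrans : ∀ p q : G ⧸ H, Y ≤ stabilizer G p → Y ≤ stabilizer G q → ∃ o ∈ X, o • p = q := by
    intro p q hp hq
    by_cases hpq : p = q
    · exact ⟨1, one_mem _, by rw [one_smul, hpq]⟩
    obtain ⟨m, hm, ⟨h1, h2⟩ | ⟨h1, h2⟩⟩ := hpairs x y p q hxy hpq hx hy hp hq
    · exact ⟨m * n * m⁻¹, mul_mem (mul_mem hm hn) (inv_mem hm),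
        by rw [mul_smul, mul_smul, ← h1, inv_smul_smul, hny, h2]⟩
    · exact ⟨m * n⁻¹ * m⁻¹, mul_mem (mul_mem hm (inv_mem hn)) (inv_mem hm),
        by rw [mul_smul, mul_smul, ← h2, inv_smul_smul, ← hny, inv_smul_smul, h1]⟩
  have hodd : Odd (Nat.card (⊤ : Subgroup X)) := by
    rw [Subgroup.card_top]
    exact SEBrick.odd_card_of_orders fun v hvX hv => hno v hv hvX
  obtain ⟨S, hlt, hSD, -⟩ := hsyl a b hab ha hb
  exact hlt.ne' (hY.pairMaximal_of_transitive hr2 ⊤ hodd (fun p q hp hq => by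
    obtain ⟨o, ho, he⟩ := htrans p q hp hq
    exact ⟨⟨o, ho⟩, mem_top _, he⟩) a b hab (le_inf ha hb) _ (S.isPGroup'.map _) hlt.le hSD)

/-- A normaliser of 2-rank one makes `Y` pair-maximal. -/
theorem MaxThree.pairMaximal_of_rankOne (hH : Cfsg.IsStronglyEmbedded H) (hr2 : r ≠ 2)
    (hrk : BrauerSuzuki.RankOne (normalizer (Y : Set G))) : PairMaximal H r Y := by
  obtain ⟨t, ht, htX⟩ := hY.exists_invol hH hr2
  set X := normalizer (Y : Set G) with hX
  haveI : (Cfsg.pPrimeCore 2 X).Normal := FittingCores.pPrimeCore_normal 2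
  have hswap : ∀ x y : G ⧸ H, x ≠ y → Y ≤ stabilizer G x → Y ≤ stabilizer G y →
      ∃ v : G, orderOf v = 2 ∧ v ∈ X ∧ v • x = y := by
    intro x y hxy hx hy
    refine (hY.swap_or_sylow hH hr2 hxy hx hy).elim id fun ⟨S, _, hSD, hSonly⟩ => ?_
    obtain ⟨Q, hQ⟩ := SETrans.exists_invariant_sylow_of_rankOne (t := (⟨t, htX⟩ : X)) hrk
      (by rw [Subgroup.orderOf_mk]; exact ht) hr2 S
    obtain ⟨m, hm⟩ := exists_smul_eq X Q S
    set w : X := m * ⟨t, htX⟩ * m⁻¹ with hw
    have hw2 : orderOf w = 2 := by rw [hw, Invol.order_conj, Subgroup.orderOf_mk]; exact ht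
    have hwS : ∀ s ∈ (S : Subgroup X), w⁻¹ * s * w ∈ (S : Subgroup X) := by
      intro s hs
      rw [← hm] at hs ⊢
      replace hs : s ∈ ((MulAut.conj m • Q : Sylow r X) : Subgroup X) := hs
      show w⁻¹ * s * w ∈ ((MulAut.conj m • Q : Sylow r X) : Subgroup X)
      rw [Sylow.pointwise_smul_def, mem_pointwise_smul_iff_inv_smul_mem] at hs ⊢
      have h := (mem_normalizer_iff''.1 hQ _).1 hs
      simpa [hw, mul_assoc] using h
    have hfix : (S : Subgroup X).map X.subtype ≤ stabilizer G ((w : G) • x) := by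
      rintro _ ⟨s, hs, rfl⟩
      have h := (hSD ⟨_, hwS s hs, rfl⟩).1
      rw [mem_stabilizer_iff]
      simpa [mul_smul, inv_smul_eq_iff] using h
    rw [← Subgroup.orderOf_coe] at hw2
    refine ⟨w, hw2, w.2, (hSonly _ hfix).resolve_left fun e => hxy ?_⟩
    have hfy : (S : Subgroup X).map X.subtype ≤ stabilizer G ((w : G) • y) := by
      rintro _ ⟨s, hs, rfl⟩
      have h := (hSD ⟨_, hwS s hs, rfl⟩).2
      rw [mem_stabilizer_iff]
      simpa [mul_smul, inv_smul_eq_iff] using h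
    rcases hSonly _ hfy with e' | e'
    · exact MulAction.injective (w : G) (e.trans e'.symm)
    · exact Invol.se_fix_unique hH hw2 e e'
  have hmul : ∀ {i j : G} (hi : i ∈ X) (hj : j ∈ X), orderOf i = 2 → orderOf j = 2 →
      (⟨i, hi⟩ * ⟨j, hj⟩ : X) ∈ Cfsg.pPrimeCore 2 X := fun hi hj ho ho' =>
    SETrans.invol_mul_mem hrk (by rwa [Subgroup.orderOf_mk]) (by rwa [Subgroup.orderOf_mk])
  obtain ⟨a, b, c, hab, hbc, hac, ha, hb, hc⟩ := hY.three
  obtain ⟨u, hu, huX, hub⟩ := hswap a b hab ha hb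
  obtain ⟨v, hv, hvX, hvc⟩ := hswap a c hac ha hc
  obtain ⟨w, hw, hwX, hwc⟩ := hswap b c hbc hb hc
  set O := Cfsg.pPrimeCore 2 X with hO
  -- `w` keeps the orbit of `b` and fixes a point of it
  let Φ := orbit O b
  have hmem : ∀ f ∈ Φ, w • f ∈ Φ := by
    rintro _ ⟨o, rfl⟩
    refine ⟨⟨⟨w, hwX⟩ * (o : X) * ⟨w, hwX⟩⁻¹, ‹O.Normal›.conj_mem _ o.2 _⟩ *
      ⟨⟨v, hvX⟩ * ⟨u, huX⟩, hmul hvX huX hv hu⟩, ?_⟩
    show ((w * ((o : X) : G) * w⁻¹) * (v * u)) • b = w • ((o : X) : G) • b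
    rw [mul_smul, mul_smul v, swap_back hu hub, hvc, ← hwc, mul_smul, mul_smul, inv_smul_smul]
  obtain ⟨⟨e, he⟩, hwe⟩ : ∃ f : Φ, w • (f : G ⧸ H) = f := by
    by_contra hno
    push Not at hno
    have hodd : Odd (Nat.card Φ) := by
      rw [Nat.card_congr (orbitEquivQuotientStabilizer O b)]
      exact SETrans.odd_core.of_dvd_nat (card_quotient_dvd_card _)
    refine Nat.not_even_iff_odd.2 hodd (SETrans.even_of_fpf (fun f => (⟨w • f.1, hmem f.1 f.2⟩ : Φ))
      (fun f => Subtype.ext ?_) fun f h => hno f (congrArg Subtype.val h))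
    show w • w • f.1 = f.1
    rw [← mul_smul, Invol.mul_self hw, one_smul]
  have heY : Y ≤ stabilizer G e := by
    obtain ⟨o, rfl⟩ := he
    exact le_stabilizer_smul (o : X).2 hb
  have htoe : ∀ f : G ⧸ H, Y ≤ stabilizer G f → ∃ o ∈ O, (o : G) • f = e := by
    intro f hf
    by_cases hfe : f = e
    · exact ⟨1, one_mem _, by rw [OneMemClass.coe_one, one_smul, hfe]⟩
    obtain ⟨i, hi, hiX, hif⟩ := hswap f e hfe hf heY
    exact ⟨_, hmul hwX hiX hw hi, by rw [Subgroup.coe_mul, mul_smul, hif]; exact hwe⟩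
  refine hY.pairMaximal_of_transitive hr2 O SETrans.odd_core fun f g hf hg => ?_
  obtain ⟨o, ho, hof⟩ := htoe f hf
  obtain ⟨o', ho', hog⟩ := htoe g hg
  exact ⟨o'⁻¹ * o, mul_mem (inv_mem ho') ho,
    by rw [Subgroup.coe_mul, Subgroup.coe_inv, mul_smul, hof, ← hog, inv_smul_smul]⟩

/-- The involutions of the normaliser do not all fix one point, when it fixes a point that `Y` fixes. -/
theorem MaxThree.exists_move (hH : Cfsg.IsStronglyEmbedded H) (hr2 : r ≠ 2) {c : G ⧸ H}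
    (hYc : Y ≤ stabilizer G c) : ∃ g ∈ normalizer (Y : Set G), g • c ≠ c := by
  by_contra hno
  push Not at hno
  -- two fixed points besides `c`
  obtain ⟨x, y, hxy, hxc, hyc, hx, hy⟩ : ∃ x y : G ⧸ H, x ≠ y ∧ x ≠ c ∧ y ≠ c ∧
      Y ≤ stabilizer G x ∧ Y ≤ stabilizer G y := by
    obtain ⟨a, b, d, hab, hbd, had, ha, hb, hd⟩ := hY.three
    by_cases h1 : a = c
    · subst h1; exact ⟨b, d, hbd, hab.symm, had.symm, hb, hd⟩
    by_cases h2 : b = c
    · subst h2; exact ⟨a, d, had, hab, hbd.symm, ha, hd⟩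
    exact ⟨a, b, hab, h1, h2, ha, hb⟩
  -- no involution of the normaliser swaps `x` and `c`
  obtain ⟨S, hlt, hSD, -⟩ := (hY.swap_or_sylow hH hr2 hxc hx hYc).resolve_left
    fun ⟨v, _, hvX, hvx⟩ => hxc (MulAction.injective v (hvx.trans (hno v hvX).symm))
  by_cases hm : ∀ P : Subgroup G, IsPGroup r P → Y ≤ P → P ≤ stabilizer G x ⊓ stabilizer G y → P = Y
  · -- the stabilisers of `(x, y)` and `(x, c)` have the same order
    obtain ⟨v, hv, hvX, hvx, -⟩ := exists_normalizing_swapper_at hH hY.pgroup hxy hx hy hm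
    have hYD : Y ≤ pairStab x y := le_inf hx hy
    obtain ⟨T, hT⟩ := (hY.pgroup.comap_subtype : IsPGroup r (Y.subgroupOf (pairStab x y))).exists_le_sylow
    have hTeq : (T : Subgroup (pairStab x y)).map (pairStab x y).subtype = Y :=
      hm _ (T.isPGroup'.map _) (fun z hz => ⟨⟨z, hYD hz⟩, hT hz, rfl⟩) (map_subtype_le _)
    have hcardY : Nat.card Y = r ^ (Nat.card (pairStab x y)).factorization r :=
      (congrArg (fun Z : Subgroup G => Nat.card Z) hTeq).symm.trans (CoprimeAct.card_map_sylow T)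
    obtain ⟨j, hj⟩ := IsPGroup.iff_card.1 (S.isPGroup'.map (normalizer (Y : Set G)).subtype)
    have hd : r ^ j ∣ Nat.card (pairStab x c) := hj ▸ card_dvd_of_le (hSD : _ ≤ pairStab x c)
    rw [card_midpoint hH hxy hv hvx (hno v hvX)] at hd
    have hle : Nat.card ((S : Subgroup (normalizer (Y : Set G))).map (normalizer (Y : Set G)).subtype) ≤
        Nat.card Y := by
      rw [hcardY, hj]
      exact Nat.pow_le_pow_right (Fact.out : r.Prime).pos
        (((Fact.out : r.Prime).pow_dvd_iff_le_factorization Nat.card_pos.ne').1 hd)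
    exact hlt.ne (eq_of_le_of_card_ge hlt.le hle)
  · push Not at hm
    obtain ⟨P, hP, hYP, hPD, hne⟩ := hm
    obtain ⟨S', -, -, hS'only⟩ := hY.exists_sylow_pair hr2 hxy hx hy hP hYP hPD hne
    refine (hS'only c ?_).elim (fun e => hxc e.symm) fun e => hyc e.symm
    rintro _ ⟨s, -, rfl⟩
    exact hno _ s.2

end Cfsg.Agent.SEMain
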