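import Cfsg.Agent.Lib.SEMain.Final
import Cfsg.Agent.Lib.SEMain.Commute.TAbelian

/-!
# The main statement on strongly embedded subgroups
-/

set_option autoImplicit false

namespace Cfsg.Agent.SEMain

universe u

/-- The main statement on strongly embedded subgroups. -/
theorem stmt : Stmt.{u} := stmt_of_tAbelian Commute.tAbelianStmt

end Cfsg.Agent.SEMain
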