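import Cfsg.Agent.Lib.SEMain.GoodCore
import Mathlib.GroupTheory.GroupAction.MultipleTransitivity

/-!
One pair whose Sylow `r`-subgroup fixes exactly two points makes the group doubly transitive.
-/

set_option autoImplicit false
set_option linter.style.haveILetI false
set_option linter.unusedSectionVars false

namespace Cfsg.Agent.SEMain

open Subgroup MulAction

universe u

variable {G : Type u} [Group G] [Finite G] {H : Subgroup G} {r : ℕ} [Fact r.Prime]
variable (hH : Cfsg.IsStronglyEmbedded H) (hr2 : r ≠ 2)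
include hH hr2

/-- With one good pair at `a`, every pair at `a` is good. -/
theorem goodPair_all_at {a b x : G ⧸ H} (hab : GoodPair r a b) (hx : x ≠ a) : GoodPair r a x := by
  obtain ⟨R, -, hR⟩ := exists_pairSyl (IsPGroup.of_bot (G := G) (p := r)) (p := a) (q := x) bot_le
  refine ⟨hx.symm, R, hR, fun f hf => ?_⟩
  by_contra hfax
  obtain ⟨hfa, hfx⟩ := not_or.1 hfax
  obtain ⟨Y, hRY, ⟨hY, hYa, hY3⟩, hmax⟩ := Finite.exists_le_maximal
    (p := fun S : Subgroup G => IsPGroup r S ∧ S ≤ stabilizer G a ∧ ∃ f g : G ⧸ H,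
      f ≠ a ∧ g ≠ a ∧ f ≠ g ∧ S ≤ stabilizer G f ∧ S ≤ stabilizer G g)
    (a := R) ⟨hR.1, hR.2.1.trans inf_le_left, f, x, hfa, hx, hfx, hf, hR.2.1.trans inf_le_right⟩
  refine GoodCore.false_of_pairSyl (a := a) (Y := Y) ⟨hY, hYa, hY3, fun T hT hlt hTa f' g' hf' hg' hfa' hga' => ?_, ?_⟩
    hH hr2 hRY hx.symm hR
  · by_contra hne
    exact hlt.not_ge (hmax ⟨hT, hTa, f', g', hfa', hga', hne, hf', hg'⟩ hlt.le)
  -- a conjugate of the good Sylow subgroup contains `Y` properly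
  obtain ⟨hne, P, hP, -⟩ := id hab
  obtain ⟨S, hS⟩ := (hP.1.comap_subtype : IsPGroup r (P.subgroupOf (stabilizer G a))).exists_le_sylow
  have hPS : (S : Subgroup (stabilizer G a)).map (stabilizer G a).subtype = P :=
    hab.eq_of_le hr2 hP (S.isPGroup'.map _) fun y hy => ⟨⟨y, hP.2.1.trans inf_le_left hy⟩, hS hy, rfl⟩
  obtain ⟨S₁, hS₁⟩ := (hY.comap_subtype : IsPGroup r (Y.subgroupOf (stabilizer G a))).exists_le_sylow
  obtain ⟨d, hd⟩ := exists_smul_eq (stabilizer G a) S S₁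
  set Q := P.map (MulAut.conj (d : G)).toMonoidHom with hQ
  have hQs : PairSyl r Q a ((d : G) • b) := by
    have := hP.map (d : G)
    rwa [show (d : G) • a = a from d.2] at this
  have hYQ : Y ≤ Q := fun y hy => by
    have h1 : (⟨y, hYa hy⟩ : stabilizer G a) ∈ (S₁ : Subgroup (stabilizer G a)) := hS₁ hy
    rw [← hd, Sylow.coe_subgroup_smul, Subgroup.mem_pointwise_smul_iff_inv_smul_mem, MulAut.smul_def,
      MulAut.conj_inv_apply] at h1
    exact ⟨((d⁻¹ * ⟨y, hYa hy⟩ * d : stabilizer G a) : G), hPS ▸ ⟨_, h1, rfl⟩, by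
      push_cast
      simp only [MulEquiv.coe_toMonoidHom, MulAut.conj_apply]
      group⟩
  have hdb : (d : G) • b ≠ a := fun e => hne (smul_left_cancel (d : G) ((show (d : G) • a = a from d.2).trans e.symm))
  have hlt : Y < Q := lt_of_le_of_ne hYQ fun e => by
    obtain ⟨f', g', hfa', hga', hfg', hYf, hYg⟩ := hY3
    have ho := (by simpa [show (d : G) • a = a from d.2] using hab.smul (d : G) :
      GoodPair r a ((d : G) • b)).only hQs
    exact hfg' (((ho f' (e ▸ hYf)).resolve_left hfa').trans ((ho g' (e ▸ hYg)).resolve_left hga').symm)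
  obtain ⟨T, hlt', hTQ, hT, hTn⟩ := exists_growth hQs.1 hlt
  exact ⟨(d : G) • b, T, hdb, hT, hlt', hTQ.trans hQs.2.1, hTn⟩

/-- With one good pair all pairs are good. -/
theorem goodPair_all {a b : G ⧸ H} (hab : GoodPair r a b) {p q : G ⧸ H} (hpq : p ≠ q) : GoodPair r p q := by
  by_cases hpa : p = a
  · subst hpa; exact goodPair_all_at hH hr2 hab hpq.symm
  · exact goodPair_all_at hH hr2 (goodPair_all_at hH hr2 hab hpa).symm hpq.symm

/-- One good pair gives 2-transitivity. -/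
theorem exists_smul_pair {a b : G ⧸ H} (hab : GoodPair r a b) {p q x y : G ⧸ H} (hpq : p ≠ q) (hxy : x ≠ y) :
    ∃ g : G, g • p = x ∧ g • q = y := by
  have hg := goodPair_all hH hr2 hab hpq
  have hg' := goodPair_all hH hr2 hab hxy
  obtain ⟨-, P, hP, -⟩ := id hg
  obtain ⟨-, Q, hQ, -⟩ := id hg'
  obtain ⟨S, hS⟩ := hP.1.exists_le_sylow
  obtain ⟨S', hS'⟩ := hQ.1.exists_le_sylow
  obtain ⟨g, hgS⟩ := exists_smul_eq G S S'
  have e : P.map (MulAut.conj g).toMonoidHom = Q := by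
    rw [← hg.eq_of_le hr2 hP S.isPGroup' hS, ← hg'.eq_of_le hr2 hQ S'.isPGroup' hS', ← hgS,
      Sylow.coe_subgroup_smul]
    rfl
  have h1 := hg'.only hQ (g • p) (e ▸ le_stabilizer_map.2 (hP.2.1.trans inf_le_left))
  have h2 := hg'.only hQ (g • q) (e ▸ le_stabilizer_map.2 (hP.2.1.trans inf_le_right))
  rcases h1 with h1 | h1 <;> rcases h2 with h2 | h2
  · exact absurd (smul_left_cancel g (h1.trans h2.symm)) hpq
  · exact ⟨g, h1, h2⟩
  · obtain ⟨u, -, hux, huy⟩ := SESolv.exists_swapper hH hxy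
    exact ⟨u * g, by rw [mul_smul, h1, huy], by rw [mul_smul, h2, hux]⟩
  · exact absurd (smul_left_cancel g (h1.trans h2.symm)) hpq

/-- One good pair gives 2-transitivity on the cosets. -/
theorem isMultiplyPretransitive_of_goodPair {a b : G ⧸ H} (hab : GoodPair r a b) :
    IsMultiplyPretransitive G (G ⧸ H) 2 :=
  is_two_pretransitive_iff.2 fun hpq hxy => exists_smul_pair hH hr2 hab hpq hxy

/-- One good pair makes `H` transitive on the other cosets. -/
theorem transitive_of_goodPair {a b : G ⧸ H} (hab : GoodPair r a b) {g₁ g₂ : G} (h₁ : g₁ ∉ H) (h₂ : g₂ ∉ H) :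
    ∃ h ∈ H, g₂⁻¹ * (h * g₁) ∈ H := by
  obtain ⟨g, hg1, hg2⟩ := exists_smul_pair hH hr2 hab
    (p := SESolv.base H) (q := (g₁ : G ⧸ H)) (x := SESolv.base H) (y := (g₂ : G ⧸ H))
    (fun e => h₁ (SESolv.mk_eq_base.1 e.symm)) (fun e => h₂ (SESolv.mk_eq_base.1 e.symm))
  refine ⟨g, SESolv.mem_stab_base.1 hg1, ?_⟩
  rw [MulAction.Quotient.smul_mk, smul_eq_mul] at hg2
  exact QuotientGroup.eq.1 hg2.symm

end Cfsg.Agent.SEMain
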