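import Cfsg.Agent.Lib.SEMain.Basic
import Cfsg.Agent.Lib.Involutions.SwapCount
import Mathlib.GroupTheory.GroupAction.Quotient

/-!
# Two-point stabilisers of a strongly embedded subgroup

`p ≠ q` are cosets, `D` their common stabiliser, `u` an involution exchanging them, `c` its point and
`m` the number of involutions at a point.
-/

set_option autoImplicit false
set_option linter.style.haveILetI false
set_option linter.unusedSectionVars false

namespace Cfsg.Agent.SEMain

open Subgroup MulAction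

universe u

variable {G : Type u} [Group G] [Finite G] {H : Subgroup G}

/-- The number of involutions of `H`. -/
noncomputable def numInv (H : Subgroup G) : ℕ := Nat.card {t : G // orderOf t = 2 ∧ t ∈ H}

/-- The stabiliser of two points. -/
def pairStab {H : Subgroup G} (p q : G ⧸ H) : Subgroup G := stabilizer G p ⊓ stabilizer G q

theorem mem_pairStab {p q : G ⧸ H} {g : G} : g ∈ pairStab p q ↔ g • p = p ∧ g • q = q := by
  rw [pairStab, mem_inf, mem_stabilizer_iff, mem_stabilizer_iff]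

theorem pairStab_comm (p q : G ⧸ H) : pairStab p q = pairStab q p := inf_comm _ _

theorem exists_smul_one (p : G ⧸ H) : ∃ g : G, g • ((1 : G) : G ⧸ H) = p := by
  induction p using QuotientGroup.induction_on with
  | _ g => exact ⟨g, by rw [MulAction.Quotient.smul_mk, smul_eq_mul, mul_one]⟩

theorem conj_smul_eq {g x : G} {p : G ⧸ H} (hx : x • p = p) : (g * x * g⁻¹) • g • p = g • p := by
  rw [mul_smul, mul_smul, inv_smul_smul, hx]

theorem swap_back {u : G} (hu : orderOf u = 2) {p q : G ⧸ H} (h : u • p = q) : u • q = p := by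
  rw [← h, ← mul_smul, Invol.mul_self hu, one_smul]

variable (hH : Cfsg.IsStronglyEmbedded H)
include hH

theorem exists_invol_at (p : G ⧸ H) : ∃ t : G, orderOf t = 2 ∧ t • p = p := by
  obtain ⟨t, htH, ht⟩ := Invol.exists_invol hH.2.1
  obtain ⟨g, rfl⟩ := exists_smul_one p
  exact ⟨g * t * g⁻¹, (Invol.order_conj g t).trans ht, conj_smul_eq (SEBrick.fix_base_iff.2 htH)⟩

theorem exists_swapper (p q : G ⧸ H) (hpq : p ≠ q) : ∃ u : G, orderOf u = 2 ∧ u • p = q := by
  obtain ⟨s, hs, hsp⟩ := exists_invol_at hH p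
  obtain ⟨t, ht, htq⟩ := exists_invol_at hH q
  obtain ⟨w, hw, hwp, -⟩ := Invol.se_swap hH hs ht hsp htq hpq
  exact ⟨w, hw, hwp⟩

/-- A point where two distinct involutions commute, anywhere. -/
theorem pair_at (hp : HasPair H) (p : G ⧸ H) :
    ∃ s t : G, orderOf s = 2 ∧ orderOf t = 2 ∧ s • p = p ∧ t • p = p ∧ s ≠ t ∧ s * t = t * s := by
  obtain ⟨s, t, hsH, htH, hs, ht, hne, hst⟩ := hp
  obtain ⟨g, rfl⟩ := exists_smul_one p
  refine ⟨g * s * g⁻¹, g * t * g⁻¹, (Invol.order_conj g s).trans hs, (Invol.order_conj g t).trans ht,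
    conj_smul_eq (SEBrick.fix_base_iff.2 hsH), conj_smul_eq (SEBrick.fix_base_iff.2 htH),
    fun e => hne (by simpa using e), ?_⟩
  calc g * s * g⁻¹ * (g * t * g⁻¹) = g * (s * t) * g⁻¹ := by group
    _ = g * (t * s) * g⁻¹ := by rw [hst]
    _ = _ := by group

theorem pairStab_odd {p q : G ⧸ H} (hpq : p ≠ q) : Odd (Nat.card (pairStab p q)) :=
  SEBrick.odd_card_of_orders fun _ hd hd2 =>
    hpq (Invol.se_fix_unique hH hd2 (mem_pairStab.1 hd).1 (mem_pairStab.1 hd).2)

theorem odd_of_mem_pairStab {p q : G ⧸ H} (hpq : p ≠ q) {d : G} (hd : d ∈ pairStab p q) :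
    Odd (orderOf d) :=
  SEBrick.odd_order (pairStab_odd hH hpq) hd

/-- The stabiliser of a point is strongly embedded. -/
theorem se_stab (c : G ⧸ H) : Cfsg.IsStronglyEmbedded (stabilizer G c) := by
  refine ⟨fun e => ?_, ?_, fun g hg => ?_⟩
  · obtain ⟨g, hg⟩ := exists_not_mem hH
    obtain ⟨k, rfl⟩ := exists_smul_one c
    have hmem : k * g * k⁻¹ ∈ stabilizer G (k • ((1 : G) : G ⧸ H)) := e ▸ mem_top _
    rw [mem_stabilizer_iff, mul_smul, mul_smul, inv_smul_smul] at hmem
    exact hg (SEBrick.fix_base_iff.1 (MulAction.injective k hmem))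
  · obtain ⟨t, ht, htc⟩ := exists_invol_at hH c
    exact Invol.even_of_invol_mem ht (mem_stabilizer_iff.2 htc)
  · rw [← stabilizer_smul_eq_stabilizer_map_conj]
    exact pairStab_odd hH fun e => hg (mem_stabilizer_iff.2 e.symm)

/-- The key lemma: an element of odd order inverted by `u` commutes with involutions of the point of
`u` only. -/
theorem klemma {u w d : G} (hu : orderOf u = 2) (hw : orderOf w = 2) (hd : Odd (orderOf d))
    (hd1 : d ≠ 1) (hinv : u * d * u⁻¹ = d⁻¹) (hwd : w * d = d * w) {c e : G ⧸ H} (hc : u • c = c)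
    (he : w • e = e) : e = c := by
  have hne1 : u * d * u⁻¹ ≠ d := fun h => hd1 (Invol.eq_one_of_sq_of_odd hd (by
    rw [pow_two]; nth_rw 2 [← h]; rw [hinv, mul_inv_cancel]))
  have hev : Even (orderOf (u * w)) := by
    rw [← Nat.not_odd_iff_even]
    intro hodd
    obtain ⟨k, hk, hke⟩ := Invol.conj_of_odd hu hw hodd
    have hcases : k * d * k⁻¹ = d ∨ k * d * k⁻¹ = d⁻¹ := by
      clear hke
      induction hk using Subgroup.closure_induction with
      | mem x hx =>
        rcases hx with rfl | rfl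
        · exact Or.inr hinv
        · exact Or.inl (mul_inv_eq_iff_eq_mul.2 hwd)
      | one => exact Or.inl (by simp)
      | mul a b _ _ ha hb =>
        have e1 : a * b * d * (a * b)⁻¹ = a * (b * d * b⁻¹) * a⁻¹ := by group
        have e2 : a * d⁻¹ * a⁻¹ = (a * d * a⁻¹)⁻¹ := by group
        rcases hb with hb | hb <;> rcases ha with ha | ha <;> rw [e1, hb]
        · exact Or.inl ha
        · exact Or.inr ha
        · rw [e2, ha]; exact Or.inr rfl
        · rw [e2, ha, inv_inv]; exact Or.inl rfl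
      | inv a _ ha =>
        rcases ha with ha | ha
        · exact Or.inl (by nth_rw 1 [← ha]; group)
        · refine Or.inr ?_
          have e1 : a⁻¹ * (a * d * a⁻¹)⁻¹ * a = d⁻¹ := by group
          rw [ha, inv_inv] at e1
          simpa using e1
    refine hne1 ?_
    have hu' : u = k⁻¹ * w * k := by rw [← hke]; group
    have e1 : u * d * u⁻¹ = k⁻¹ * (w * (k * d * k⁻¹) * w⁻¹) * k := by rw [hu']; group
    rw [e1]
    have hw' : w * (k * d * k⁻¹) * w⁻¹ = k * d * k⁻¹ := by
      rcases hcases with h | h <;> rw [h, mul_inv_eq_iff_eq_mul]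
      · exact hwd
      · exact (Commute.inv_right hwd).eq
    rw [hw']; group
  obtain ⟨hzu, hzw⟩ := Invol.half_commute hu hw hev
  set z := (u * w) ^ (orderOf (u * w) / 2)
  have hz : orderOf z = 2 := Invol.half_order hu hw hev (orderOf_pos _)
  refine Invol.se_fix_unique hH hz (Invol.se_fix_unique hH hw ?_ he) (Invol.se_fix_unique hH hu ?_ hc)
  · rw [← mul_smul, hzw.symm.eq, mul_smul, he]
  · rw [← mul_smul, hzu.symm.eq, mul_smul, hc]

/-- Involutions at the same point of a pair are conjugate in the stabiliser of the pair. -/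
theorem pairStab_trans {p q : G ⧸ H} (hpq : p ≠ q) {s t : G} (hs : orderOf s = 2) (hsp : s • p = p)
    (ht : orderOf t = 2) (htp : t • p = p) : ∃ d ∈ pairStab p q, d * s * d⁻¹ = t := by
  obtain ⟨u, hu, hup⟩ := exists_swapper hH p q hpq
  have hts : orderOf (u * t * u⁻¹) = 2 := (Invol.order_conj u t).trans ht
  have htq : (u * t * u⁻¹) • q = q := hup ▸ conj_smul_eq htp
  obtain ⟨⟨w, hw, hwp⟩, hwc⟩ :=
    (Invol.swap_conj_bijective hH hpq ⟨s, hs, hsp⟩).2 ⟨u * t * u⁻¹, hts, htq⟩
  have hwc' : w * s * w⁻¹ = u * t * u⁻¹ := Subtype.ext_iff.mp hwc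
  refine ⟨u⁻¹ * w, mem_pairStab.2 ⟨?_, ?_⟩, ?_⟩
  · rw [mul_smul, hwp, inv_smul_eq_iff, hup]
  · rw [mul_smul, swap_back hw hwp, inv_smul_eq_iff, swap_back hu hup]
  · calc u⁻¹ * w * s * (u⁻¹ * w)⁻¹ = u⁻¹ * (w * s * w⁻¹) * u := by group
      _ = t := by rw [hwc']; group

/-- The swappers of a pair are conjugate in its stabiliser. -/
theorem swapper_trans {p q : G ⧸ H} (hpq : p ≠ q) {u w : G} (hu : orderOf u = 2) (hup : u • p = q)
    (hw : orderOf w = 2) (hwp : w • p = q) : ∃ d ∈ pairStab p q, d * u * d⁻¹ = w := by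
  have hk : u * w ∈ pairStab p q := mem_pairStab.2
    ⟨by rw [mul_smul, hwp, swap_back hu hup], by rw [mul_smul, swap_back hw hwp, hup]⟩
  obtain ⟨r, hr⟩ := Invol.exists_sqrt (odd_of_mem_pairStab hH hpq hk)
  refine ⟨((u * w) ^ r)⁻¹, inv_mem (pow_mem hk r), ?_⟩
  rw [inv_inv, ← Invol.conj_pow (Invol.conj_mul hu hw) r, Invol.inv_self hu]
  calc u * (u * w) ^ r * u * u * (u * w) ^ r = u * ((u * w) ^ r * (u * u) * (u * w) ^ r) := by group
    _ = u * ((u * w) ^ r) ^ 2 := by rw [Invol.mul_self hu, mul_one, pow_two]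
    _ = w := by rw [hr, ← mul_assoc, Invol.mul_self hu, one_mul]

/-- `|K| = m`, `K` the elements of the pair stabiliser inverted by a swapper. -/
theorem card_inverted {p q : G ⧸ H} (hpq : p ≠ q) {u : G} (hu : orderOf u = 2) (hup : u • p = q) :
    Nat.card {d : G // d ∈ pairStab p q ∧ u * d * u⁻¹ = d⁻¹} = numInv H := by
  rw [numInv, ← Invol.card_swapInv hH hpq]
  have hne : ∀ d : G, d ∈ pairStab p q → (u * d) • p = q := fun d hd => by
    rw [mul_smul, (mem_pairStab.1 hd).1, hup]
  refine Nat.card_congr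
    { toFun := fun d => ⟨u * d.1, Invol.order_two_of_sq ?_ fun e => hpq ?_, hne d.1 d.2.1⟩
      invFun := fun w => ⟨u * w.1, mem_pairStab.2
        ⟨by rw [mul_smul, w.2.2, swap_back hu hup], by rw [mul_smul, swap_back w.2.1 w.2.2, hup]⟩,
        Invol.conj_mul hu w.2.1⟩
      left_inv := fun d => Subtype.ext (by
        show u * (u * d.1) = d.1
        rw [← mul_assoc, Invol.mul_self hu, one_mul])
      right_inv := fun w => Subtype.ext (by
        show u * (u * w.1) = w.1
        rw [← mul_assoc, Invol.mul_self hu, one_mul]) }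
  · calc u * d.1 * (u * d.1) = u * d.1 * u⁻¹ * (u * u) * d.1 := by group
      _ = 1 := by rw [d.2.2, Invol.mul_self hu, mul_one, inv_mul_cancel]
  · have h1 := hne d.1 d.2.1
    rwa [e, one_smul] at h1

/-- `k ↦ k t k⁻¹` is a bijection from the inverted elements onto the involutions at `p`. -/
theorem bijective_inverted {p q : G ⧸ H} (hpq : p ≠ q) {u t : G} (hu : orderOf u = 2) (hup : u • p = q)
    (ht : orderOf t = 2) (htp : t • p = p) :
    Function.Bijective fun d : {d : G // d ∈ pairStab p q ∧ u * d * u⁻¹ = d⁻¹} =>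
      (⟨d.1 * t * d.1⁻¹, (Invol.order_conj _ t).trans ht, by
        have h := conj_smul_eq (g := d.1) htp
        rwa [(mem_pairStab.1 d.2.1).1] at h⟩ : Invol.FixInv p) := by
  have key : ∀ d : G, d ∈ pairStab p q → u * d * u⁻¹ = d⁻¹ → orderOf (u * d) = 2 ∧ (u * d) • p = q :=
    fun d hd hinv => by
    have h1 : (u * d) • p = q := by rw [mul_smul, (mem_pairStab.1 hd).1, hup]
    refine ⟨Invol.order_two_of_sq ?_ fun e => hpq (by rwa [e, one_smul] at h1), h1⟩
    rw [Invol.inv_self hu] at hinv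
    rw [← mul_assoc, hinv, inv_mul_cancel]
  have hinj : Function.Injective fun d : {d : G // d ∈ pairStab p q ∧ u * d * u⁻¹ = d⁻¹} =>
      d.1 * t * d.1⁻¹ := by
    intro a b hab
    have hab' : a.1 * t * a.1⁻¹ = b.1 * t * b.1⁻¹ := hab
    have hw := (Invol.swap_conj_bijective hH hpq ⟨t, ht, htp⟩).1
      (a₁ := ⟨u * a.1, key a.1 a.2.1 a.2.2⟩) (a₂ := ⟨u * b.1, key b.1 b.2.1 b.2.2⟩) (Subtype.ext (by
        show u * a.1 * t * (u * a.1)⁻¹ = u * b.1 * t * (u * b.1)⁻¹
        calc u * a.1 * t * (u * a.1)⁻¹ = u * (a.1 * t * a.1⁻¹) * u⁻¹ := by group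
          _ = u * (b.1 * t * b.1⁻¹) * u⁻¹ := by rw [hab']
          _ = _ := by group))
    exact Subtype.ext (mul_left_cancel (Subtype.ext_iff.mp hw))
  refine (Nat.bijective_iff_injective_and_card _).2 ⟨fun a b h => hinj (Subtype.ext_iff.mp h), ?_⟩
  rw [card_inverted hH hpq hu hup, Invol.card_fixInv]
  rfl

omit hH in
/-- Orbit and stabiliser for a conjugation action. -/
theorem card_eq_centralizer_mul (D : Subgroup G) {x : G} (S : Set G) (_hx : x ∈ S)
    (hS : ∀ d ∈ D, d * x * d⁻¹ ∈ S) (htr : ∀ y ∈ S, ∃ d ∈ D, d * x * d⁻¹ = y) :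
    Nat.card D = Nat.card ↥(D ⊓ centralizer ({x} : Set G)) * Nat.card S := by
  classical
  let f : D → S := fun d => ⟨(d : G) * x * (d : G)⁻¹, hS d d.2⟩
  set W := (D ⊓ centralizer ({x} : Set G)).subgroupOf D with hW
  have hrel : ∀ d e : D, d⁻¹ * e ∈ W ↔ f d = f e := by
    intro d e
    rw [hW, mem_subgroupOf, Subgroup.coe_mul, Subgroup.coe_inv, mem_inf, mem_centralizer_singleton_iff]
    refine ⟨fun ⟨_, hc⟩ => Subtype.ext ?_, fun he => ⟨mul_mem (inv_mem d.2) e.2, ?_⟩⟩
    · show (d : G) * x * (d : G)⁻¹ = (e : G) * x * (e : G)⁻¹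
      calc (d : G) * x * (d : G)⁻¹ = d * (x * ((d : G)⁻¹ * e)) * (e : G)⁻¹ := by group
        _ = d * ((d : G)⁻¹ * e * x) * (e : G)⁻¹ := by rw [hc]
        _ = _ := by group
    · have he' : (d : G) * x * (d : G)⁻¹ = (e : G) * x * (e : G)⁻¹ := congrArg Subtype.val he
      calc (d : G)⁻¹ * e * x = (d : G)⁻¹ * ((e : G) * x * (e : G)⁻¹) * e := by group
        _ = x * ((d : G)⁻¹ * e) := by rw [← he']; group
  let F : D ⧸ W → S := Quotient.lift f fun d e hde => (hrel d e).1 (QuotientGroup.leftRel_apply.1 hde)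
  have hbij : Function.Bijective F := by
    refine ⟨fun a b => Quotient.inductionOn₂ a b fun d e hde =>
      Quotient.sound (QuotientGroup.leftRel_apply.2 ((hrel d e).2 hde)), fun y => ?_⟩
    obtain ⟨d, hd, hdy⟩ := htr y.1 y.2
    exact ⟨QuotientGroup.mk (⟨d, hd⟩ : D), Subtype.ext hdy⟩
  rw [card_eq_card_quotient_mul_card_subgroup W, Nat.card_eq_of_bijective F hbij, hW,
    Nat.card_congr (subgroupOfEquivOfLe (inf_le_left : D ⊓ centralizer ({x} : Set G) ≤ D)).toEquiv,
    mul_comm]

/-- `|D| = |C_D(u)| m`. -/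
theorem card_pairStab_swapper {p q : G ⧸ H} (hpq : p ≠ q) {u : G} (hu : orderOf u = 2)
    (hup : u • p = q) :
    Nat.card (pairStab p q) = Nat.card ↥(pairStab p q ⊓ centralizer ({u} : Set G)) * numInv H := by
  rw [numInv, ← Invol.card_swapInv hH hpq]
  refine card_eq_centralizer_mul (pairStab p q) {w | orderOf w = 2 ∧ w • p = q} ⟨hu, hup⟩
    (fun d hd => ⟨(Invol.order_conj d u).trans hu, ?_⟩) fun w hw => swapper_trans hH hpq hu hup hw.1 hw.2
  obtain ⟨h1, h2⟩ := mem_pairStab.1 hd
  rw [mul_smul, mul_smul, inv_smul_eq_iff.2 h1.symm, hup, h2]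

/-- `|D| = |C_D(t)| m`. -/
theorem card_pairStab_invol {p q : G ⧸ H} (hpq : p ≠ q) {t : G} (ht : orderOf t = 2)
    (htp : t • p = p) :
    Nat.card (pairStab p q) = Nat.card ↥(pairStab p q ⊓ centralizer ({t} : Set G)) * numInv H := by
  rw [numInv, ← Invol.card_fixInv p]
  refine card_eq_centralizer_mul (pairStab p q) {w | orderOf w = 2 ∧ w • p = p} ⟨ht, htp⟩
    (fun d hd => ⟨(Invol.order_conj d t).trans ht, ?_⟩) fun w hw => pairStab_trans hH hpq ht htp hw.1 hw.2
  have h := conj_smul_eq (g := d) htp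
  rwa [(mem_pairStab.1 hd).1] at h

theorem centre_ne {p q c : G ⧸ H} (hpq : p ≠ q) {u : G} (hu : orderOf u = 2) (hup : u • p = q)
    (hc : u • c = c) : p ≠ c ∧ q ≠ c :=
  ⟨fun e => hpq (by rw [← hup, e, hc]), fun e => hpq (by rw [← swap_back hu hup, e, hc])⟩

theorem centralizer_le_centre {p q c : G ⧸ H} {u : G} (hu : orderOf u = 2) (hc : u • c = c) :
    pairStab p q ⊓ centralizer ({u} : Set G) ≤ stabilizer G c := fun d hd => by
  have hd' := mem_centralizer_singleton_iff.1 (mem_inf.1 hd).2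
  exact mem_stabilizer_iff.2 (Invol.se_fix_unique hH hu (by rw [← mul_smul, ← hd', mul_smul, hc]) hc)

/-- Counting: the pairs `(p, q)` and `(p, c)` have stabilisers with the same centraliser of `u`. -/
theorem centralizer_midpoint {p q c : G ⧸ H} {u : G} (hu : orderOf u = 2) (hup : u • p = q)
    (hc : u • c = c) :
    pairStab p c ⊓ centralizer ({u} : Set G) = pairStab p q ⊓ centralizer ({u} : Set G) := by
  refine le_antisymm (fun d hd => ?_) fun d hd => ?_
  · obtain ⟨h1, h2⟩ := mem_inf.1 hd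
    have hd' := mem_centralizer_singleton_iff.1 h2
    refine mem_inf.2 ⟨mem_pairStab.2 ⟨(mem_pairStab.1 h1).1, ?_⟩, h2⟩
    rw [← hup, ← mul_smul, hd', mul_smul, (mem_pairStab.1 h1).1]
  · exact mem_inf.2 ⟨mem_pairStab.2 ⟨(mem_pairStab.1 (mem_inf.1 hd).1).1,
      mem_stabilizer_iff.1 (centralizer_le_centre hH hu hc hd)⟩, (mem_inf.1 hd).2⟩

/-- The colour is unchanged by passing to the midpoint. -/
theorem card_midpoint {p q c : G ⧸ H} (hpq : p ≠ q) {u : G} (hu : orderOf u = 2) (hup : u • p = q)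
    (hc : u • c = c) : Nat.card (pairStab p c) = Nat.card (pairStab p q) := by
  rw [card_pairStab_swapper hH hpq hu hup, pairStab_comm p c,
    card_pairStab_invol hH (centre_ne hH hpq hu hup hc).1.symm hu hc, pairStab_comm c p,
    centralizer_midpoint hH hu hup hc]

/-- No involution at `p` normalises the stabiliser of `p` and another point. -/
theorem not_normalizes (hp : HasPair H) {p q : G ⧸ H} (hpq : p ≠ q) {t : G} (ht : orderOf t = 2)
    (htp : t • p = p) : t ∉ normalizer (pairStab p q : Set G) := by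
  intro htN
  have hfix : ∀ d ∈ pairStab p q, d • t • q = t • q := fun d hd => by
    have h1 : (t⁻¹ * d * t) • q = q := (mem_pairStab.1 ((mem_normalizer_iff''.1 htN d).1 hd)).2
    calc d • t • q = t • (t⁻¹ * d * t) • q := by rw [← mul_smul, ← mul_smul]; congr 1; group
      _ = t • q := by rw [h1]
  have hall : ∀ s : G, orderOf s = 2 → s • p = p → s • q = t • q := fun s hs hsp => by
    obtain ⟨d, hd, rfl⟩ := pairStab_trans hH hpq ht htp hs hsp
    rw [mul_smul, mul_smul, inv_smul_eq_iff.2 (mem_pairStab.1 hd).2.symm, hfix d hd]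
  obtain ⟨s₁, s₂, h1, h2, h1p, h2p, hne, hcomm⟩ := pair_at hH hp p
  have hord : orderOf (s₁ * s₂) = 2 := by
    refine Invol.order_two_of_sq ?_ fun h => hne ?_
    · rw [show s₁ * s₂ * (s₁ * s₂) = s₁ * (s₂ * s₁) * s₂ by group, ← hcomm,
        show s₁ * (s₁ * s₂) * s₂ = s₁ * s₁ * (s₂ * s₂) by group, Invol.mul_self h1, Invol.mul_self h2,
        mul_one]
    · calc s₁ = s₁ * (s₂ * s₂) := by rw [Invol.mul_self h2, mul_one]
        _ = s₂ := by rw [← mul_assoc, h, one_mul]
  refine hpq (Invol.se_fix_unique hH hord (by rw [mul_smul, h2p, h1p]) ?_)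
  rw [mul_smul, hall s₂ h2 h2p, ← hall s₁ h1 h1p, ← mul_smul, Invol.mul_self h1, one_smul]

theorem swapper_mem_normalizer {p q : G ⧸ H} {u : G} (hu : orderOf u = 2) (hup : u • p = q) :
    u ∈ normalizer (pairStab p q : Set G) := by
  refine SEBrick.mem_normalizer_of fun x hx => mem_pairStab.2 ?_
  obtain ⟨h1, h2⟩ := mem_pairStab.1 hx
  refine ⟨?_, ?_⟩
  · have := conj_smul_eq (g := u) h2
    rwa [swap_back hu hup] at this
  · have := conj_smul_eq (g := u) h1
    rwa [hup] at this

/-- The stabiliser of the pair does not fix the point of a swapper. -/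
theorem not_le_centre (hp : HasPair H) {p q c : G ⧸ H} (hpq : p ≠ q) {u : G} (hu : orderOf u = 2)
    (hup : u • p = q) (hc : u • c = c) : ¬ pairStab p q ≤ stabilizer G c := by
  intro hle
  have heq : pairStab p q = pairStab p c :=
    eq_of_le_of_card_ge (fun d hd => mem_pairStab.2 ⟨(mem_pairStab.1 hd).1, hle hd⟩)
      (card_midpoint hH hpq hu hup hc).le
  have hpc := (centre_ne hH hpq hu hup hc).1
  obtain ⟨v, hv, hvp⟩ := exists_swapper hH p c hpc
  refine not_normalizes hH hp hpq (t := v * u * v⁻¹) ((Invol.order_conj v u).trans hu) ?_ ?_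
  · have h := conj_smul_eq (g := v) hc
    rwa [swap_back hv hvp] at h
  · have h1 := swapper_mem_normalizer hH hv hvp
    rw [← heq] at h1
    exact mul_mem (mul_mem h1 (swapper_mem_normalizer hH hu hup)) (inv_mem h1)

/-- For some prime divisor of `m` every Sylow subgroup of the pair stabiliser moves the point of the
swapper. -/
theorem exists_prime_moves (hp : HasPair H) {p q c : G ⧸ H} (hpq : p ≠ q) {u : G} (hu : orderOf u = 2)
    (hup : u • p = q) (hc : u • c = c) :
    ∃ r : ℕ, r.Prime ∧ r ∣ numInv H ∧ ∀ R : Sylow r (pairStab p q),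
      ¬ (R : Subgroup (pairStab p q)).map (pairStab p q).subtype ≤ stabilizer G c := by
  by_contra hno
  push Not at hno
  refine not_le_centre hH hp hpq hu hup hc ?_
  set D := pairStab p q
  set X := D ⊓ stabilizer G c
  suffices h : Nat.card D ∣ Nat.card X from
    inf_eq_left.1 (eq_of_le_of_card_ge inf_le_left (Nat.le_of_dvd Nat.card_pos h))
  refine (Nat.factorization_le_iff_dvd Nat.card_pos.ne' Nat.card_pos.ne').1 fun r => ?_
  by_cases hr : r.Prime
  swap
  · simp [Nat.factorization_eq_zero_of_not_prime _ hr]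
  haveI := Fact.mk hr
  refine (Nat.Prime.pow_dvd_iff_le_factorization hr Nat.card_pos.ne').1 ?_
  by_cases hrm : r ∣ numInv H
  · obtain ⟨R, hR⟩ := hno r hr hrm
    rw [← R.card_eq_multiplicity, ← card_map_of_injective D.subtype_injective]
    exact card_dvd_of_le (le_inf (map_subtype_le _) hR)
  · have h1 : r ^ (Nat.card D).factorization r ∣ Nat.card ↥(D ⊓ centralizer ({u} : Set G)) * numInv H := by
      rw [← card_pairStab_swapper hH hpq hu hup]
      exact Nat.ordProj_dvd _ _
    exact ((((Nat.Prime.coprime_iff_not_dvd hr).2 hrm).pow_left _).dvd_of_dvd_mul_right h1).trans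
      (card_dvd_of_le (le_inf inf_le_left (centralizer_le_centre hH hu hc)))

end Cfsg.Agent.SEMain
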