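import Cfsg.Agent.Lib.SEMain.Dichotomy
import Cfsg.Agent.Lib.SEMain.Points
import Cfsg.Agent.Lib.Solvable.Coprime

/-!
# A centred set of fixed points

`r ∣ m`, `Y` an `r`-group, `F` a set of at least two of its fixed points: for every pair in `F`, `Y` is
a Sylow subgroup of the stabiliser and a swapper normalising `Y` has its point in `F`. This is what a
pair-maximal `r`-group with three fixed points gives.
-/

set_option autoImplicit false
set_option linter.style.haveILetI false
set_option linter.unusedSectionVars false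

namespace Cfsg.Agent.SEMain

open Subgroup MulAction

universe u

variable {G : Type u} [Group G] [Finite G] {H : Subgroup G}

/-- The hypothesis of the theorem on centred sets of fixed points. -/
structure HypA (H : Subgroup G) (r : ℕ) (Y : Subgroup G) (F : Set (G ⧸ H)) : Prop where
  pgroup : IsPGroup r Y
  ne_two : r ≠ 2
  dvd : r ∣ numInv H
  fix : ∀ x ∈ F, Y ≤ stabilizer G x
  two : ∃ p ∈ F, ∃ q ∈ F, p ≠ q
  sylow : ∀ p ∈ F, ∀ q ∈ F, p ≠ q → Nat.card Y = r ^ (Nat.card (pairStab p q)).factorization r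
  centred : ∀ p ∈ F, ∀ q ∈ F, p ≠ q → ∃ v : G, ∃ c ∈ F, orderOf v = 2 ∧
    v ∈ normalizer (Y : Set G) ∧ v • p = q ∧ v • q = p ∧ v • c = c

/-- A pair-maximal `r`-group is a Sylow subgroup of the stabilisers of the pairs it fixes. -/
theorem card_of_pairMaximal {r : ℕ} [Fact r.Prime] {Y : Subgroup G} (hY : IsPGroup r Y)
    (hmax : PairMaximal H r Y) {p q : G ⧸ H} (hpq : p ≠ q) (hp : Y ≤ stabilizer G p)
    (hq : Y ≤ stabilizer G q) : Nat.card Y = r ^ (Nat.card (pairStab p q)).factorization r := by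
  have hYD : Y ≤ pairStab p q := le_inf hp hq
  obtain ⟨S, hS⟩ := (hY.comap_subtype : IsPGroup r (Y.subgroupOf (pairStab p q))).exists_le_sylow
  have h : (S : Subgroup (pairStab p q)).map (pairStab p q).subtype = Y :=
    hmax p q hpq hYD _ (S.isPGroup'.map _) (fun y hy => ⟨⟨y, hYD hy⟩, hS hy, rfl⟩) (map_subtype_le _)
  exact (congrArg (fun Z : Subgroup G => Nat.card Z) h).symm.trans (CoprimeAct.card_map_sylow S)

/-- All fixed points of a pair-maximal `r`-group fixing three points. -/
theorem HypA.of_pairMaximal (hH : Cfsg.IsStronglyEmbedded H) {r : ℕ} [Fact r.Prime] (hr2 : r ≠ 2)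
    (hrm : r ∣ numInv H) {Y : Subgroup G} (hY : IsPGroup r Y) (hmax : PairMaximal H r Y)
    {a b c : G ⧸ H} (ha : Y ≤ stabilizer G a) (hb : Y ≤ stabilizer G b) (hc : Y ≤ stabilizer G c)
    (hab : a ≠ b) (hbc : b ≠ c) (hac : a ≠ c) :
    HypA H r Y {x | Y ≤ stabilizer G x} := by
  refine ⟨hY, hr2, hrm, fun _ hx => hx, ⟨a, ha, b, hb, hab⟩,
    fun p hp q hq hpq => card_of_pairMaximal hY hmax hpq hp hq, fun p hp q hq hpq => ?_⟩
  obtain ⟨v, hv, hvY, hvp, hvq⟩ := exists_normalizing_swapper hH hY hmax hpq hp hq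
  obtain ⟨e, he⟩ := Invol.se_exists_fix hH hv
  refine ⟨v, e, (center_or_pair hH hr2 hY hmax hv hvY hvp he hp hq).resolve_right fun hpair => ?_,
    hv, hvY, hvp, hvq, he⟩
  rcases hpair a ha with h1 | h1 <;> rcases hpair b hb with h2 | h2 <;> rcases hpair c hc with h3 | h3
  all_goals first
    | exact hab (h1.trans h2.symm)
    | exact hbc (h2.trans h3.symm)
    | exact hac (h1.trans h3.symm)

/-- An inverted element of `r`-power order in a two-point stabiliser makes `r` a divisor of `m`. -/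
theorem dvd_numInv (hH : Cfsg.IsStronglyEmbedded H) {r : ℕ} [hr : Fact r.Prime] {p q : G ⧸ H}
    (hpq : p ≠ q) {u d : G} (hu : orderOf u = 2) (hup : u • p = q) (hd : d ∈ pairStab p q)
    (hd1 : d ≠ 1) (hinv : u * d * u⁻¹ = d⁻¹) (hdr : IsPGroup r (zpowers d)) : r ∣ numInv H := by
  by_contra hndvd
  set D := pairStab p q with hD
  set C := D ⊓ centralizer ({u} : Set G) with hC
  have hA : zpowers u ≤ normalizer (D : Set G) := zpowers_le.2 (swapper_mem_normalizer hH hu hup)
  have hcop : (Nat.card (zpowers u)).Coprime (Nat.card D) := by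
    rw [Nat.card_zpowers, hu]; exact Nat.coprime_two_left.2 (pairStab_odd hH hpq)
  have hsolv : Group.IsSolvable (zpowers u) ∨ Group.IsSolvable D :=
    Or.inl (Group.isSolvable_of_comm fun x y => mul_comm' x y)
  have hdu : zpowers u ≤ normalizer (zpowers d : Set G) := zpowers_le.2 <|
    SEBrick.mem_normalizer_of fun x hx => by
      obtain ⟨k, rfl⟩ := mem_zpowers_iff.1 hx
      exact mem_zpowers_iff.2 ⟨-k, by rw [← conj_zpow, hinv, inv_zpow']⟩
  obtain ⟨P, hdP, hPu⟩ := CoprimeAct.exists_invariant_sylow_ge hA hcop hsolv (zpowers_le.2 hd) hdr hdu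
  obtain ⟨T⟩ : Nonempty (Sylow r C) := inferInstance
  have hcard : Nat.card ((T : Subgroup C).map C.subtype) = r ^ (Nat.card D).factorization r := by
    have hfac : (Nat.card D).factorization r = (Nat.card C).factorization r := by
      rw [hC, hD, card_pairStab_swapper hH hpq hu hup,
        Nat.factorization_mul Nat.card_pos.ne' fun h => hndvd (by rw [h]; exact dvd_zero r), Finsupp.add_apply,
        Nat.factorization_eq_zero_of_not_dvd hndvd, add_zero]
    rw [hfac]
    exact CoprimeAct.card_map_sylow T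
  have hTD : (T : Subgroup C).map C.subtype ≤ D := (map_subtype_le _).trans inf_le_left
  have hTc : (T : Subgroup C).map C.subtype ≤ centralizer ({u} : Set G) :=
    (map_subtype_le _).trans inf_le_right
  obtain ⟨Q, hQ⟩ := CoprimeAct.exists_sylow_of_card hTD hcard
  have hQu : zpowers u ≤ normalizer ((Q : Subgroup D).map D.subtype : Set G) := zpowers_le.2 <|
    SEBrick.mem_normalizer_of fun x hx => by
      rw [hQ] at hx ⊢
      rwa [← mem_centralizer_singleton_iff.1 (hTc hx), mul_inv_cancel_right]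
  obtain ⟨g, hg, hgQ⟩ := CoprimeAct.invariant_sylow_conj hA hcop hsolv Q P hQu hPu
  have hdP' : d ∈ (P : Subgroup D).map D.subtype := hdP (mem_zpowers d)
  obtain ⟨x, hx, hxd⟩ := hdP'
  rw [← hgQ] at hx
  replace hx : x ∈ ((MulAut.conj g • Q : Sylow r D) : Subgroup D) := hx
  rw [Sylow.pointwise_smul_def, mem_pointwise_smul_iff_inv_smul_mem] at hx
  have hy : (g : G)⁻¹ * d * g ∈ (T : Subgroup C).map C.subtype := hQ ▸ ⟨_, hx, by simp [← hxd]⟩
  have hyu := mem_centralizer_singleton_iff.1 (hTc hy)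
  have hgu : (g : G) * u = u * g := (mem_centralizer_iff.1 hg u (mem_zpowers u)).symm
  have hdu' : d * u = u * d := by
    calc d * u = (g : G) * ((g : G)⁻¹ * d * g * u) * (g : G)⁻¹ := by
          rw [mul_assoc _ (g : G) u, hgu]; group
      _ = (g : G) * u * ((g : G)⁻¹ * d * g) * (g : G)⁻¹ := by rw [hyu]; group
      _ = u * d := by rw [hgu]; group
  refine hd1 (Invol.eq_one_of_sq_of_odd (odd_of_mem_pairStab hH hpq hd) ?_)
  rw [← hdu', mul_inv_cancel_right] at hinv
  rw [pow_two]
  nth_rw 1 [hinv]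
  exact inv_mul_cancel d

end Cfsg.Agent.SEMain
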