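import Cfsg.Agent.Lib.SEMain.SolvableEnd
import Cfsg.Agent.Lib.SEMain.PairSylow
import Cfsg.Agent.Lib.SETrans.Main

/-!
# Commutation in the weak situation

In the weak situation the odd core of `H` centralises the involutions of `H`, so they commute as soon as
they commute modulo that core.
-/

set_option autoImplicit false
set_option linter.style.haveILetI false
set_option linter.unusedSectionVars false

namespace Cfsg.Agent.SEMain

open Subgroup MulAction

universe u

variable {G : Type u} [Group G] [Finite G] {H : Subgroup G}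

/-- In the weak situation an element of `H` inverted by an involution of `H` has order prime to the number
of involutions. -/
theorem inverted_eq_one_of_weak (hH : Cfsg.IsStronglyEmbedded H)
    (hw : SETrans.Weak G (G ⧸ H) ((1 : G) : G ⧸ H)) {p : ℕ} [Fact p.Prime] (hp2 : p ≠ 2)
    (hpm : p ∣ numInv H) {t x : G} (ht : orderOf t = 2) (htH : t ∈ H) (hxH : x ∈ H)
    (hxp : IsPGroup p (zpowers x)) (hinv : t * x * t⁻¹ = x⁻¹) : x = 1 := by
  classical
  set a := ((1 : G) : G ⧸ H) with ha
  obtain ⟨b, hab⟩ := exists_ne_one hH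
  haveI : Nontrivial (G ⧸ H) := ⟨⟨_, _, hab⟩⟩
  haveI : IsPretransitive G (G ⧸ H) := inferInstance
  by_contra hx1
  have hodd : Odd (orderOf x) := by
    obtain ⟨k, hk⟩ := IsPGroup.iff_card.1 hxp
    rw [← Nat.card_zpowers, hk]
    exact ((Fact.out : p.Prime).odd_of_ne_two hp2).pow
  have hm : p ∣ Nat.card {s : G // orderOf s = 2 ∧ s • a = a} := by
    rwa [Nat.card_congr (Equiv.subtypeEquivRight fun s => and_congr_right fun _ => SEBrick.fix_base_iff)]
  obtain ⟨P, -, hP, hPD, hPmax⟩ :=
    exists_pairSyl (r := p) (IsPGroup.of_bot (G := G)) (p := a) (q := b) bot_le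
  have htop := (hw.sylow_pair hm hab hP hPD fun Q hQ hQD hle => hPmax Q hQ hle hQD).2
  set A := stabilizer G a with hA
  let PA : Sylow p A :=
    { toSubgroup := P.subgroupOf A
      isPGroup' := hP.comap_subtype
      is_maximal' := fun {Q} hQ hle => by
        have h1 := htop _ (hQ.map A.subtype) (map_subtype_le _) fun z hz =>
          ⟨⟨z, (mem_inf.1 (hPD hz)).1⟩, hle hz, rfl⟩
        ext z
        rw [mem_subgroupOf, ← h1]
        exact ⟨fun hz => ⟨z, hz, rfl⟩, fun ⟨z', hz', e'⟩ => Subtype.ext e' ▸ hz'⟩ }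
  have hxa : x • a = a := SEBrick.fix_base_iff.2 hxH
  obtain ⟨S, hS⟩ := (hxp.comap_subtype (K := A)).exists_le_sylow
  obtain ⟨h, hh⟩ := exists_smul_eq A S PA
  have hxP : (h : G) * x * (h : G)⁻¹ ∈ P := by
    have h1 : h * ⟨x, hxa⟩ * h⁻¹ ∈ (PA : Subgroup A) := by
      rw [← hh, Sylow.coe_subgroup_smul, mem_pointwise_smul_iff_inv_smul_mem]
      simpa [mul_assoc] using hS (show (⟨x, hxa⟩ : A) ∈ _ from mem_zpowers x)
    exact h1
  have hxb : x • (h : G)⁻¹ • b = (h : G)⁻¹ • b := by
    have h1 : ((h : G) * x * (h : G)⁻¹) • b = b := (mem_inf.1 (hPD hxP)).2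
    rw [mul_smul, mul_smul] at h1
    exact eq_inv_smul_iff.2 h1
  have h2 := hw.lonely t x a _ ht hinv hodd hx1 (SEBrick.fix_base_iff.2 htH) hxa hxb
  rw [inv_smul_eq_iff] at h2
  exact hab (h2.trans h.2).symm

/-- In the weak situation the odd core centralises the involutions. -/
theorem core_centralizes_of_weak (hH : Cfsg.IsStronglyEmbedded H)
    (hw : SETrans.Weak G (G ⧸ H) ((1 : G) : G ⧸ H)) {t : G} (ht : orderOf t = 2) (htH : t ∈ H)
    {o : G} (ho : o ∈ SESolv.oc H) : o * t = t * o := by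
  classical
  set O := SESolv.oc H with hO
  by_contra hne
  have h1 := card_eq_coreOrbit_mul O t
  have hn : Nat.card (coreOrbit O t) ≠ 1 := fun e => by
    rw [e, mul_one] at h1
    exact hne (mem_centralizer_singleton_iff.1 (mem_inf.1
      ((eq_of_le_of_card_ge (inf_le_left : O ⊓ centralizer ({t} : Set G) ≤ O) h1.le).symm ▸ ho)).2)
  obtain ⟨p, hp, hpd⟩ := Nat.exists_prime_and_dvd hn
  haveI := Fact.mk hp
  have hp2 : p ≠ 2 := fun e => Nat.not_even_iff_odd.2 (SESolv.oc_odd H)
    (even_iff_two_dvd.2 (e ▸ hpd.trans ⟨_, h1.trans (mul_comm _ _)⟩))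
  have htO : t ∈ normalizer (O : Set G) := SESolv.oc_normal H htH
  obtain ⟨S, hS⟩ := CoprimeAct.exists_invariant_sylow (A := zpowers t) (K := O) (zpowers_le.2 htO)
    (by rw [Nat.card_zpowers, ht]; exact Nat.coprime_two_left.2 (SESolv.oc_odd H))
    (Or.inl (Group.isSolvable_of_comm fun x y => mul_comm' x y)) p
  set P := (S : Subgroup O).map O.subtype with hP
  have hPO : P ≤ O := map_subtype_le _
  have htP : t ∈ normalizer (P : Set G) := hS (mem_zpowers t)
  have hnot : ¬ P ≤ centralizer ({t} : Set G) := fun hle => by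
    have hd := card_dvd_of_le (le_inf hPO hle)
    rw [hP, CoprimeAct.card_map_sylow S] at hd
    have hpos : Nat.card (O ⊓ centralizer ({t} : Set G) : Subgroup G) ≠ 0 := Nat.card_pos.ne'
    have h2 := (hp.pow_dvd_iff_le_factorization hpos).1 hd
    have hpos' : Nat.card (coreOrbit O t) ≠ 0 :=
      (Nat.card_pos_iff.2 ⟨⟨⟨t, 1, one_mem _, by simp⟩⟩, inferInstance⟩).ne'
    rw [h1, Nat.factorization_mul hpos hpos', Finsupp.add_apply] at h2
    have h3 := hp.factorization_pos_of_dvd hpos' hpd
    omega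
  obtain ⟨y, hy, hyt⟩ := SetLike.not_le_iff_exists.1 hnot
  set x := y * t * y⁻¹ * t with hx
  have hxP : x ∈ P := by
    rw [hx, show y * t * y⁻¹ * t = y * (t * y⁻¹ * t) by group]
    refine mul_mem hy ?_
    have := SEBrick.conj_mem_of htP (inv_mem hy)
    rwa [Invol.inv_self ht] at this
  have hinv : t * x * t⁻¹ = x⁻¹ := by
    rw [hx, mul_inv_rev, mul_inv_rev, mul_inv_rev, inv_inv, Invol.inv_self ht]
    calc t * (y * t * y⁻¹ * t) * t = t * (y * (t * y⁻¹)) * (t * t) := by group
      _ = t * (y * (t * y⁻¹)) := by rw [Invol.mul_self ht, mul_one]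
  have hx1 := inverted_eq_one_of_weak hH hw hp2 (hpd.trans (card_coreOrbit_dvd hH ht htH)) ht htH
    (SESolv.oc_le H (hPO hxP)) ((S.isPGroup'.map _).to_le (zpowers_le.2 hxP)) hinv
  refine hyt (mem_centralizer_singleton_iff.2 ?_)
  rw [hx, mul_eq_one_iff_eq_inv, Invol.inv_self ht, mul_inv_eq_iff_eq_mul] at hx1
  exact hx1

/-- In the weak situation, commuting modulo the odd core is commuting. -/
theorem comm_of_weak_of_commModCore (hH : Cfsg.IsStronglyEmbedded H)
    (hw : SETrans.Weak G (G ⧸ H) ((1 : G) : G ⧸ H)) (hc : CommModCore H) :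
    ∀ s t : G, s ∈ H → t ∈ H → orderOf s = 2 → orderOf t = 2 → s * t = t * s := by
  intro s t hs ht hs2 ht2
  set o := s * t * (s * t) with ho
  have hoO : o ∈ SESolv.oc H := hc s t hs ht hs2 ht2
  have hso : o * s = s * o := core_centralizes_of_weak hH hw hs2 hs hoO
  have htst : t * s * t = s * o := by
    rw [ho, show s * (s * t * (s * t)) = s * s * (t * s * t) by group, Invol.mul_self hs2, one_mul]
  have h1 : o * o = 1 := by
    calc o * o = s * s * (o * o) := by rw [Invol.mul_self hs2, one_mul]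
      _ = s * (s * o) * o := by group
      _ = s * (o * s) * o := by rw [hso]
      _ = (s * o) * (s * o) := by group
      _ = (t * s * t) * (t * s * t) := by rw [htst]
      _ = t * s * (t * t) * s * t := by group
      _ = 1 := by rw [Invol.mul_self ht2, mul_one, mul_assoc t s s, Invol.mul_self hs2, mul_one,
        Invol.mul_self ht2]
  have h2 : o = 1 := Invol.eq_one_of_sq_of_odd (SEBrick.odd_order (SESolv.oc_odd H) hoO)
    (by rw [pow_two, h1])
  rw [h2, mul_one] at htst
  calc s * t = t * s * t * t := by rw [htst]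
    _ = t * s * (t * t) := by group
    _ = t * s := by rw [Invol.mul_self ht2, mul_one]

end Cfsg.Agent.SEMain
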