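import Cfsg.Agent.Lib.SEMain.WTrans
import Cfsg.Agent.Lib.SEMain.GoodTrans
import Cfsg.Agent.Lib.SEMain.HypA
import Cfsg.Agent.Lib.SEMain.WeakCore
import Cfsg.Agent.Lib.SETrans.Main

/-!
# Assembly of the main statement on strongly embedded subgroups

The shapes exchanged between the parts of the proof, and the proof of `Stmt` from the parts that are
not yet theorems, taken as hypotheses.
-/

set_option autoImplicit false
set_option linter.style.haveILetI false
set_option linter.unusedSectionVars false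

namespace Cfsg.Agent.SEMain

open Subgroup MulAction

universe u

variable {G : Type u} [Group G] [Finite G] {H : Subgroup G}

/-- Some `Y` and `F` satisfy `HypA`. -/
def HasHypA (H : Subgroup G) : Prop := ∃ r Y F, r.Prime ∧ HypA H r Y F

/-- Some pair is good at an odd prime dividing the number of involutions. -/
def HasGoodPair (H : Subgroup G) : Prop :=
  ∃ (r : ℕ) (a b : G ⧸ H), r.Prime ∧ r ≠ 2 ∧ r ∣ numInv H ∧ GoodPair r a b

/-- A configuration as in the W-lemma. -/
def HasW (H : Subgroup G) : Prop :=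
  ∃ (p q : G ⧸ H) (W : Subgroup G) (t g : G), p ≠ q ∧ W ≠ ⊥ ∧ W ≤ stabilizer G p ∧
    pairStab p q ≤ normalizer (W : Set G) ∧ orderOf t = 2 ∧ t • p = p ∧
    t ∈ normalizer (W : Set G) ∧ g ∈ normalizer (W : Set G) ∧ g • p = q

/-- The setting of the induction step. -/
structure Setting (H : Subgroup G) : Prop where
  se : Cfsg.IsStronglyEmbedded H
  core : H.normalCore = ⊥
  below : Below.{u} (Nat.card G)
  pair : HasPair H

/-- The involutions of `H` commute. -/
def InvComm (H : Subgroup G) : Prop :=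
  ∀ s t : G, s ∈ H → t ∈ H → orderOf s = 2 → orderOf t = 2 → s * t = t * s

/-- Theorem A: `HypA` gives a W-configuration. -/
def TheoremA : Prop :=
  ∀ (G : Type u) [Group G] [Finite G] (H : Subgroup G), Setting H → HasHypA H → HasW H

/-- Without a good pair there is a `HypA` configuration. -/
def NoGood : Prop :=
  ∀ (G : Type u) [Group G] [Finite G] (H : Subgroup G), Setting H → ¬ HasGoodPair H → HasHypA H

/-- A failure of `SETrans.Weak` gives a `HypA` or a W-configuration. -/
def NoThree : Prop :=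
  ∀ (G : Type u) [Group G] [Finite G] (H : Subgroup G), Setting H → TwoTrans H →
    ¬ SETrans.Weak G (G ⧸ H) ((1 : G) : G ⧸ H) → HasHypA H ∨ HasW H

/-- In the weak situation the involutions commute. -/
def WeakComm : Prop :=
  ∀ (G : Type u) [Group G] [Finite G] (H : Subgroup G), Setting H → TwoTrans H →
    SETrans.Weak G (G ⧸ H) ((1 : G) : G ⧸ H) → InvComm H

/-- Commuting involutions have a centraliser of odd index. -/
def OddIndex : Prop :=
  ∀ (G : Type u) [Group G] [Finite G] (H : Subgroup G), Setting H → TwoTrans H →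
    SETrans.Weak G (G ⧸ H) ((1 : G) : G ⧸ H) → InvComm H → Odd ((SERegular.invCent H).relIndex H)

theorem HasPair.of_four (h : ∃ E, E ≤ H ∧ SEBrick.IsFour E) : HasPair H := by
  obtain ⟨E, hEH, hE⟩ := h
  haveI : Nontrivial E := Finite.one_lt_card_iff_nontrivial.1 (by have := hE.2; omega)
  obtain ⟨⟨s, hs⟩, hs1⟩ := exists_ne (1 : E)
  obtain ⟨t, ht, ht1, hts⟩ : ∃ t ∈ E, t ≠ 1 ∧ t ≠ s := by
    by_contra hno
    push Not at hno
    have hsub : (E : Set G) ⊆ {1, s} := fun x hx => by
      by_cases hx1 : x = 1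
      · exact Or.inl hx1
      · exact Or.inr (hno x hx hx1)
    have := Set.ncard_le_ncard hsub (Set.toFinite _)
    rw [← Nat.card_coe_set_eq] at this
    have h2 : ({1, s} : Set G).ncard ≤ 2 :=
      (Set.ncard_insert_le _ _).trans (by rw [Set.ncard_singleton])
    have h3 := hE.2
    change Nat.card E ≤ _ at this
    omega
  exact ⟨s, t, hEH hs, hEH ht, hE.order hs (fun e => hs1 (Subtype.ext e)), hE.order ht ht1,
    fun e => hts e.symm, hE.comm hs ht⟩

theorem HasW.commModCore (hS : Setting H) (h : HasW H) : CommModCore H := by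
  obtain ⟨p, q, W, t, g, hpq, h1, hWp, hDW, ht, htp, htW, hgW, hgpq⟩ := h
  exact commModCore_of_W hS.se hS.core hS.below hS.pair hpq h1 hWp hDW ht htp htW hgW hgpq

theorem HasW.invComm (hS : Setting H) (h2 : TwoTrans H) (h : HasW H) : InvComm H := by
  obtain ⟨p, q, W, t, g, hpq, h1, hWp, hDW, ht, htp, htW, hgW, hgpq⟩ := h
  exact fun x y => commute_of_W hS.se hS.core hS.below hS.pair h2 hpq h1 hWp hDW ht htp htW hgW hgpq

theorem hasGoodPair_of_commModCore (hS : Setting H) (hc : CommModCore H) : HasGoodPair H := by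
  obtain ⟨r, hr, hr2, hrm, b, R, hne, hR, hle, hcard, -, honly⟩ := exists_good_pair hS.se hS.pair hc
  haveI := Fact.mk hr
  exact ⟨r, _, b, hr, hr2, hrm, hne, R, pairSyl_of_card hR hle hcard, honly⟩

/-- A good pair gives two-fold transitivity. -/
theorem twoTrans_of_goodPair (hS : Setting H) (h : HasGoodPair H) : TwoTrans H := by
  obtain ⟨r, a, b, hr, hr2, -, hgood⟩ := h
  haveI := Fact.mk hr
  intro p q x hqp hxp
  exact exists_smul_pair hS.se hr2 hgood hqp.symm hxp.symm

theorem exists_goodPair (hA : TheoremA.{u}) (hN : NoGood.{u}) (hS : Setting H) : HasGoodPair H := by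
  by_contra hno
  exact hno (hasGoodPair_of_commModCore hS ((hA G H hS (hN G H hS hno)).commModCore hS))

theorem twoTrans_of (hA : TheoremA.{u}) (hN : NoGood.{u}) (hS : Setting H) :
    TwoTrans H :=
  twoTrans_of_goodPair hS (exists_goodPair hA hN hS)

theorem weak_of_comm (hS : Setting H) (hc : InvComm H) :
    SETrans.Weak G (G ⧸ H) ((1 : G) : G ⧸ H) := by
  obtain ⟨s, t, hs, ht, hs2, ht2, hne, -⟩ := hS.pair
  haveI : Nontrivial (G ⧸ H) := ⟨⟨_, _, (exists_ne_one hS.se).choose_spec⟩⟩
  exact (SETrans.hyp_of_se hS.se hc ⟨s, t, hs, ht, hs2, ht2, hne⟩).weak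

theorem invComm_of (hA : TheoremA.{u}) (hN : NoGood.{u}) (h3 : NoThree.{u})
    (hW : WeakComm.{u}) (hS : Setting H) : InvComm H := by
  have h2 := twoTrans_of hA hN hS
  by_cases hw : SETrans.Weak G (G ⧸ H) ((1 : G) : G ⧸ H)
  · exact hW G H hS h2 hw
  · exact ((h3 G H hS h2 hw).elim (hA G H hS) id).invComm hS h2

/-- For `WeakComm` it suffices that the involutions commute modulo the odd core. -/
theorem weakComm_of_modCore
    (h : ∀ (G : Type u) [Group G] [Finite G] (H : Subgroup G), Setting H → TwoTrans H →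
      SETrans.Weak G (G ⧸ H) ((1 : G) : G ⧸ H) → CommModCore H) : WeakComm.{u} :=
  fun G _ _ H hS h2 hw => comm_of_weak_of_commModCore hS.se hw (h G H hS h2 hw)

/-- The main statement from the open inputs. -/
theorem stmt_of_inputs (hA : TheoremA.{u}) (hN : NoGood.{u})
    (h3 : NoThree.{u}) (hW : WeakComm.{u}) (hO : OddIndex.{u}) : Stmt.{u} := by
  refine stmt_of_step fun G _ _ H ih hH hcore h4 => ?_
  have hS : Setting H := ⟨hH, hcore, ih, HasPair.of_four h4⟩
  have hc := invComm_of hA hN h3 hW hS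
  exact ⟨hc, hO G H hS (twoTrans_of hA hN hS) (weak_of_comm hS hc) hc⟩

end Cfsg.Agent.SEMain
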