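import Cfsg.Agent.Lib.SEMain.RankOne

/-!
First consequences of the main statement: transitivity, the odd core, centralisers of inverted elements.
-/

set_option autoImplicit false
set_option linter.style.haveILetI false
set_option linter.unusedSectionVars false

namespace Cfsg.Agent.SEMain

open Subgroup

universe u

variable {G : Type u} [Group G] [Finite G] {H : Subgroup G}

theorem exists_reg_quot (h : Stmt.{u}) (hH : Cfsg.IsStronglyEmbedded H) (hp : HasPair H)
    {N : Subgroup G} [N.Normal] (hNH : N ≤ H) (hN : Odd (Nat.card N)) (hc : H.normalCore ≤ N) :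
    ∃ Q, Reg (H.map (QuotientGroup.mk' N)) Q :=
  exists_reg h (se_map hNH hN hH) (core_map hNH hc) (pair_map hNH hN hp)

theorem normalCore_le_oddCore (hH : Cfsg.IsStronglyEmbedded H) : H.normalCore ≤ Cfsg.oddCore G :=
  SEBrick.le_oddCore H.normalCore_normal (SEBender.odd_normalCore hH)

/-- With a four-group the odd core lies in `H`. -/
theorem oddCore_eq_normalCore (h : Stmt.{u}) (hH : Cfsg.IsStronglyEmbedded H) (hp : HasPair H) :
    Cfsg.oddCore G = H.normalCore := by
  have hN := SEBender.odd_normalCore hH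
  obtain ⟨Q, hQ⟩ := exists_reg_quot h hH hp H.normalCore_le hN le_rfl
  have hbot := oddCore_eq_bot (se_map H.normalCore_le hN hH) (core_map H.normalCore_le le_rfl)
    (pair_map H.normalCore_le hN hp) hQ
  refine le_antisymm ?_ (normalCore_le_oddCore hH)
  haveI : (Cfsg.oddCore G).Normal := FittingCores.pPrimeCore_normal 2
  have h1 : (Cfsg.oddCore G).map (QuotientGroup.mk' H.normalCore) ≤ ⊥ := hbot ▸
    SEBrick.le_oddCore (Normal.map inferInstance _ (QuotientGroup.mk'_surjective _))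
      (SEBrick.oddCore_odd.of_dvd_nat (card_map_dvd _ _))
  intro x hx
  exact (QuotientGroup.eq_one_iff x).1 (mem_bot.1 (h1 ⟨x, hx, rfl⟩))

theorem S1220_of (h : Stmt.{u}) (hH : Cfsg.IsStronglyEmbedded H) :
    (∀ g₁ g₂ : G, g₁ ∉ H → g₂ ∉ H → ∃ k ∈ H, g₂⁻¹ * (k * g₁) ∈ H) ∨
      ((∀ S : Sylow 2 G, IsCyclic S ∨ ∃ m : ℕ, 1 ≤ m ∧
          Nonempty ((S : Subgroup G) ≃* QuaternionGroup (2 ^ m))) ∧ Cfsg.oddCore G ⊔ H = ⊤) := by
  by_cases hR : BrauerSuzuki.RankOne G
  · exact Or.inr ⟨sylow_rankOne hR, sup_eq_top hR hH⟩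
  refine Or.inl fun g₁ g₂ h₁ h₂ => ?_
  have hle := H.normalCore_le
  obtain ⟨Q, hQ⟩ :=
    exists_reg_quot h hH (exists_pair hH hR) hle (SEBender.odd_normalCore hH) le_rfl
  obtain ⟨w, hw, hmem⟩ := hQ.trans (g₁ : G ⧸ H.normalCore) g₂ (mt (mem_map_iff hle).1 h₁)
    (mt (mem_map_iff hle).1 h₂)
  induction w using QuotientGroup.induction_on with
  | _ k =>
    refine ⟨k, (mem_map_iff hle).1 (hQ.le hw), (mem_map_iff hle).1 ?_⟩
    exact hmem

theorem S1221_of (h : Stmt.{u}) (hH : Cfsg.IsStronglyEmbedded H) :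
    (Cfsg.oddCore H).map H.subtype ≤ Cfsg.oddCore G := by
  haveI : (Cfsg.oddCore G).Normal := FittingCores.pPrimeCore_normal 2
  haveI : (Cfsg.oddCore H).Normal := FittingCores.pPrimeCore_normal 2
  by_cases hR : BrauerSuzuki.RankOne G
  · let f : H →* G ⧸ Cfsg.oddCore G := (QuotientGroup.mk' _).comp H.subtype
    have hf : Function.Surjective f := fun x => by
      induction x using QuotientGroup.induction_on with
      | _ g =>
        obtain ⟨o, ho, k, hk, rfl⟩ : ∃ o ∈ Cfsg.oddCore G, ∃ k ∈ H, o * k = g := by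
          have : g ∈ ((Cfsg.oddCore G ⊔ H : Subgroup G) : Set G) := by
            rw [sup_eq_top hR hH]; exact Set.mem_univ g
          rw [Subgroup.normal_mul] at this
          exact this
        refine ⟨⟨k, hk⟩, ?_⟩
        show (k : G ⧸ Cfsg.oddCore G) = ((o * k : G) : G ⧸ Cfsg.oddCore G)
        rw [QuotientGroup.mk_mul, (QuotientGroup.eq_one_iff o).2 ho, one_mul]
    have h1 : (Cfsg.oddCore H).map f ≤ ⊥ :=
      (SEBrick.le_oddCore (Normal.map inferInstance f hf)
        (SEBrick.oddCore_odd.of_dvd_nat (card_map_dvd _ f))).trans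
        (FittingCores.pPrimeCore_quotient_eq_bot 2 _ rfl).le
    rintro x ⟨y, hy, rfl⟩
    exact (QuotientGroup.eq_one_iff _).1 (mem_bot.1 (h1 ⟨y, hy, rfl⟩))
  · have hle := H.normalCore_le
    have hN := SEBender.odd_normalCore hH
    obtain ⟨Q, hQ⟩ := exists_reg_quot h hH (exists_pair hH hR) hle hN le_rfl
    set X := ((Cfsg.oddCore H).map H.subtype).map (QuotientGroup.mk' H.normalCore) with hX
    have hbot : X = ⊥ := by
      refine hQ.odd_normal_eq_bot (core_map hle le_rfl) (map_mono (map_subtype_le _)) ?_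
        ((SEBrick.oddCore_odd.of_dvd_nat (card_map_dvd _ _)).of_dvd_nat (card_map_dvd _ _))
      rintro _ ⟨k, hk, rfl⟩ _ ⟨_, ⟨y, hy, rfl⟩, rfl⟩
      exact ⟨k * y * k⁻¹, ⟨⟨k, hk⟩ * y * ⟨k, hk⟩⁻¹,
        ‹(Cfsg.oddCore H).Normal›.conj_mem y hy _, rfl⟩, by simp⟩
    refine le_trans (fun x hx => ?_) (normalCore_le_oddCore hH)
    exact (QuotientGroup.eq_one_iff _).1 (mem_bot.1 (hbot ▸ (mem_map_of_mem _ hx : _ ∈ X)))

theorem S1223_of (h : Stmt.{u}) (hH : Cfsg.IsStronglyEmbedded H) (hcore : H.normalCore = ⊥) (u : G) (hu : orderOf u = 2)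
    (huH : u ∉ H) (j : G) (hj : j ∈ H ⊓ H.map (MulAut.conj u).toMonoidHom) (hj1 : j ≠ 1)
    (hinv : u * j * u⁻¹ = j⁻¹) : Odd (Nat.card (centralizer ({j} : Set G))) := by
  refine SEBrick.odd_card_of_orders fun w hwC hw => ?_
  have hjodd : Odd (orderOf j) := SEBrick.odd_order (hH.2.2 u huH) hj
  have hwj : w * j = j * w := mem_centralizer_singleton_iff.1 hwC
  have hne1 : u * j * u⁻¹ ≠ j := fun e => hj1 (Invol.eq_one_of_sq_of_odd hjodd (by
    rw [pow_two]; nth_rw 2 [← e]; rw [hinv, mul_inv_cancel]))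
  have hev : Even (orderOf (u * w)) := by
    rw [← Nat.not_odd_iff_even]
    intro hodd
    obtain ⟨k, hk, hke⟩ := Invol.conj_of_odd hu hw hodd
    have hcases : k * j * k⁻¹ = j ∨ k * j * k⁻¹ = j⁻¹ := by
      clear hke
      induction hk using Subgroup.closure_induction with
      | mem x hx =>
        rcases hx with rfl | rfl
        · exact Or.inr hinv
        · exact Or.inl (mul_inv_eq_iff_eq_mul.2 hwj)
      | one => exact Or.inl (by simp)
      | mul a b _ _ ha hb =>
        have e : a * b * j * (a * b)⁻¹ = a * (b * j * b⁻¹) * a⁻¹ := by group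
        have ei : a * j⁻¹ * a⁻¹ = (a * j * a⁻¹)⁻¹ := by group
        rcases hb with hb | hb <;> rcases ha with ha | ha <;> rw [e, hb]
        · exact Or.inl ha
        · exact Or.inr ha
        · rw [ei, ha]; exact Or.inr rfl
        · rw [ei, ha, inv_inv]; exact Or.inl rfl
      | inv a _ ha =>
        rcases ha with ha | ha
        · exact Or.inl (by nth_rw 1 [← ha]; group)
        · refine Or.inr ?_
          have e : a⁻¹ * (a * j * a⁻¹)⁻¹ * a = j⁻¹ := by group
          rw [ha, inv_inv] at e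
          simpa using e
    refine hne1 ?_
    have hu' : u = k⁻¹ * w * k := by rw [← hke]; group
    have e : u * j * u⁻¹ = k⁻¹ * (w * (k * j * k⁻¹) * w⁻¹) * k := by rw [hu']; group
    rw [e]
    have hw' : w * (k * j * k⁻¹) * w⁻¹ = k * j * k⁻¹ := by
      rcases hcases with hc | hc <;> rw [hc, mul_inv_eq_iff_eq_mul]
      · exact hwj
      · exact (Commute.inv_right hwj).eq
    rw [hw']; group
  set z := (u * w) ^ (orderOf (u * w) / 2)
  have hz : orderOf z = 2 := Invol.half_order hu hw hev (orderOf_pos _)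
  obtain ⟨hzu, hzw⟩ := Invol.half_commute hu hw hev
  obtain ⟨y, hyH, hy⟩ := Invol.exists_invol hH.2.1
  obtain ⟨g, hg⟩ := isConj_iff.1 (Invol.se_isConj hH hz hy)
  set φ := MulAut.conj g
  have hφz : φ z = y := hg
  have ho : ∀ {x : G}, orderOf x = 2 → orderOf (φ x) = 2 := fun {x} hx => by
    rw [MulEquiv.orderOf_eq, hx]
  have hC := Invol.se_centralizer_le hH hy hyH
  have hu' : φ u ∈ H := hC (mem_centralizer_singleton_iff.2 (by
    rw [← hφz, ← map_mul, ← map_mul, hzu.eq]))
  have hw' : φ w ∈ H := hC (mem_centralizer_singleton_iff.2 (by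
    rw [← hφz, ← map_mul, ← map_mul, hzw.eq]))
  have hj' : φ j ∈ H := Invol.se_centralizer_le hH (ho hw) hw'
    (mem_centralizer_singleton_iff.2 (by rw [← map_mul, ← map_mul, hwj]))
  by_cases hR : BrauerSuzuki.RankOne G
  · have h1 : z = u := hR z u hz hu hzu
    have h2 : z = w := hR z w hz hw hzw
    refine hne1 (mul_inv_eq_iff_eq_mul.2 ?_)
    rw [← h1, h2]; exact hwj
  · obtain ⟨hcomm, -⟩ := h G H hH hcore (exists_pair hH hR).exists_four
    have hv : orderOf (φ (j * u * j⁻¹)) = 2 := ho ((Invol.order_conj j u).trans hu)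
    have hvH : φ (j * u * j⁻¹) ∈ H := by
      rw [map_mul, map_mul, map_inv]; exact mul_mem (mul_mem hj' hu') (inv_mem hj')
    have hc := hcomm _ _ hvH hu' hv (ho hu)
    rw [← map_mul, ← map_mul] at hc
    replace hc := φ.injective hc
    have e1 : j * u * j⁻¹ = j * j * u := by
      have : u * j⁻¹ = j * u := by
        calc u * j⁻¹ = u * (u * j * u⁻¹) := by rw [hinv]
          _ = u * u * j * u⁻¹ := by group
          _ = _ := by rw [Invol.mul_self hu, one_mul, Invol.inv_self hu]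
      rw [mul_assoc, this, mul_assoc]
    rw [e1, mul_assoc, Invol.mul_self hu, mul_one] at hc
    have e2 : u * (j * j * u) = (j * j)⁻¹ := by
      calc u * (j * j * u) = (u * j * u⁻¹) * (u * j * u⁻¹) * (u * u) := by group
        _ = _ := by rw [hinv, Invol.mul_self hu, mul_one, mul_inv_rev]
    rw [e2] at hc
    have hsq : (j * j) ^ 2 = 1 := by
      rw [pow_two]; nth_rw 2 [hc]; exact mul_inv_cancel _
    have h2 : j * j = 1 := Invol.eq_one_of_sq_of_odd
      (hjodd.of_dvd_nat (by rw [← pow_two]; exact orderOf_pow_dvd 2)) hsq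
    exact hj1 (Invol.eq_one_of_sq_of_odd hjodd (by rw [pow_two, h2]))

end Cfsg.Agent.SEMain
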