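import Cfsg.Agent.Lib.SEMain.Points
import Cfsg.Agent.Lib.PStable.Involved

/-!
# Counting tools for the local argument

Frattini in a subgroup, lifting a four-group, and stability when the 2-elements square to one.
-/

set_option autoImplicit false
set_option linter.style.haveILetI false
set_option linter.unusedSectionVars false

namespace Cfsg.Agent.SEMain

open Subgroup

universe u

variable {G : Type u} [Group G] [Finite G]

/-- The order of a product of subgroups, one normalised by the other. -/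
theorem card_sup_mul_inf {A B : Subgroup G} (h : A ≤ normalizer (B : Set G)) :
    Nat.card (A ⊔ B : Subgroup G) * Nat.card (A ⊓ B : Subgroup G) = Nat.card A * Nat.card B := by
  set L := A ⊔ B with hL
  have hLN : L ≤ normalizer (B : Set G) := sup_le h le_normalizer
  haveI : (B.subgroupOf L).Normal := normal_subgroupOf_of_le_normalizer hLN
  have h1 : (B.subgroupOf L).relIndex (A.subgroupOf L ⊔ B.subgroupOf L) =
      (B.subgroupOf L).relIndex (A.subgroupOf L) := relIndex_sup_right _ _
  rw [← subgroupOf_sup le_sup_left le_sup_right, relIndex_subgroupOf le_rfl,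
    relIndex_subgroupOf le_sup_left] at h1
  have h2 : Nat.card L = Nat.card B * B.relIndex L := by
    rw [← relIndex_bot_left, ← relIndex_bot_left, relIndex_mul_relIndex _ _ _ bot_le le_sup_right]
  have h3 : Nat.card A = Nat.card (A ⊓ B : Subgroup G) * B.relIndex A := by
    rw [← inf_relIndex_right B A, inf_comm B A, ← relIndex_bot_left, ← relIndex_bot_left,
      relIndex_mul_relIndex _ _ _ bot_le inf_le_left]
  rw [h2, h3, h1]
  ring

/-- The normaliser of a Sylow subgroup of a normal subgroup covers the quotient. -/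
theorem frattini_local {L K : Subgroup G} (hn : L ≤ normalizer (K : Set G)) {r : ℕ}
    [Fact r.Prime] (P : Sylow r K) {x : G} (hx : x ∈ L) :
    ∃ k ∈ K, k⁻¹ * x ∈ normalizer ((P : Subgroup K).map K.subtype : Set G) := by
  set P' := (P : Subgroup K).map K.subtype with hP'
  have hle : P'.map (MulAut.conj x).toMonoidHom ≤ K := by
    rintro _ ⟨z, hz, rfl⟩
    exact SEBrick.conj_mem_of (hn hx) (map_subtype_le _ hz)
  obtain ⟨Q, hQ⟩ := CoprimeAct.exists_sylow_of_card (p := r) hle (by
    rw [card_map_of_injective (MulAut.conj x).injective, hP', CoprimeAct.card_map_sylow])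
  obtain ⟨k, hk⟩ := MulAction.exists_smul_eq K P Q
  refine ⟨k, k.2, SEBrick.mem_normalizer_of fun z hz => ?_⟩
  have hmem : x * z * x⁻¹ ∈ P'.map (MulAut.conj x).toMonoidHom := ⟨z, hz, rfl⟩
  rw [← hQ] at hmem
  obtain ⟨w, hw, hwe⟩ := hmem
  rw [← hk] at hw
  replace hw : w ∈ ((MulAut.conj k • P : Sylow r K) : Subgroup K) := hw
  rw [Sylow.pointwise_smul_def, mem_pointwise_smul_iff_inv_smul_mem] at hw
  refine ⟨_, hw, ?_⟩
  have hwe' : (w : G) = x * z * x⁻¹ := hwe
  simp [hwe', mul_assoc]

/-- Frattini as an identity of orders. -/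
theorem frattini_card {L K : Subgroup G} (hKL : K ≤ L) (hn : L ≤ normalizer (K : Set G)) {r : ℕ}
    [Fact r.Prime] (P : Sylow r K) :
    Nat.card L * Nat.card (L ⊓ normalizer ((P : Subgroup K).map K.subtype : Set G) ⊓ K : Subgroup G) =
      Nat.card (L ⊓ normalizer ((P : Subgroup K).map K.subtype : Set G) : Subgroup G) * Nat.card K := by
  set M := L ⊓ normalizer ((P : Subgroup K).map K.subtype : Set G) with hM
  have hsup : M ⊔ K = L := le_antisymm (sup_le inf_le_left hKL) fun x hx => by
    obtain ⟨k, hk, hkx⟩ := frattini_local hn P hx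
    rw [show x = k * (k⁻¹ * x) by group]
    exact mul_mem (mem_sup_right hk) (mem_sup_left (mem_inf.2 ⟨mul_mem (inv_mem (hKL hk)) hx, hkx⟩))
  have h := card_sup_mul_inf (A := M) (B := K) (inf_le_left.trans hn)
  rwa [hsup] at h

theorem factorization_le_of_dvd {m n : ℕ} (hn : n ≠ 0) (h : m ∣ n) (l : ℕ) :
    m.factorization l ≤ n.factorization l := by
  rcases Nat.eq_zero_or_pos m with rfl | hm
  · simp
  · exact (Nat.factorization_le_iff_dvd hm.ne' hn).2 h l

/-- The part prime to what `N(P)` misses in `K` survives in the normaliser. -/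
theorem frattini_part {L K : Subgroup G} (hKL : K ≤ L) (hn : L ≤ normalizer (K : Set G)) {r : ℕ}
    [Fact r.Prime] (P : Sylow r K) (l : ℕ) (hl : l = r ∨ ¬ l ∣ Nat.card K) :
    (Nat.card (L ⊓ normalizer ((P : Subgroup K).map K.subtype : Set G) : Subgroup G)).factorization l =
      (Nat.card L).factorization l := by
  set P' := (P : Subgroup K).map K.subtype with hP'
  set M := L ⊓ normalizer (P' : Set G) with hM
  have h := congrArg (fun n : ℕ => n.factorization l) (frattini_card hKL hn P)
  simp only [← hP', ← hM] at h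
  rw [Nat.factorization_mul Nat.card_pos.ne' Nat.card_pos.ne',
    Nat.factorization_mul Nat.card_pos.ne' Nat.card_pos.ne', Finsupp.add_apply, Finsupp.add_apply] at h
  have heq : (Nat.card (M ⊓ K : Subgroup G)).factorization l = (Nat.card K).factorization l := by
    refine le_antisymm (factorization_le_of_dvd Nat.card_pos.ne' (card_dvd_of_le inf_le_right) l) ?_
    rcases hl with rfl | hl
    · have hP : P' ≤ M ⊓ K :=
        le_inf (le_inf ((map_subtype_le _).trans hKL) le_normalizer) (map_subtype_le _)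
      have h1 := factorization_le_of_dvd Nat.card_pos.ne' (card_dvd_of_le hP) l
      rwa [CoprimeAct.card_map_sylow, Nat.Prime.factorization_pow (Fact.out : l.Prime),
        Finsupp.single_eq_same] at h1
    · rw [Nat.factorization_eq_zero_of_not_dvd hl]
      exact Nat.zero_le _
  omega

/-- A four-group is conjugate into a subgroup with the full 2-part. -/
theorem exists_four_le {L M E : Subgroup G} (hML : M ≤ L) (hEL : E ≤ L) (hE : SEBrick.IsFour E)
    (h2 : (Nat.card M).factorization 2 = (Nat.card L).factorization 2) :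
    ∃ F : Subgroup G, F ≤ M ∧ SEBrick.IsFour F := by
  haveI : Fact (Nat.Prime 2) := ⟨Nat.prime_two⟩
  obtain ⟨S⟩ : Nonempty (Sylow 2 M) := inferInstance
  obtain ⟨T, hT⟩ := CoprimeAct.exists_sylow_of_card (K := L) (p := 2)
    (S := (S : Subgroup M).map M.subtype) ((map_subtype_le _).trans hML)
    (by rw [CoprimeAct.card_map_sylow, h2])
  obtain ⟨U, hU⟩ := (hE.isPGroup.comap_subtype : IsPGroup 2 (E.subgroupOf L)).exists_le_sylow
  obtain ⟨l, hl⟩ := MulAction.exists_smul_eq L U T
  refine ⟨E.map (MulAut.conj (l : G)).toMonoidHom, ?_, hE.conj (l : G)⟩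
  rintro _ ⟨e, he, rfl⟩
  refine map_subtype_le (S : Subgroup M) (hT ▸ ⟨l * ⟨e, hEL he⟩ * l⁻¹, ?_, by simp⟩)
  rw [← hl]
  show _ ∈ ((MulAut.conj l • U : Sylow 2 L) : Subgroup L)
  rw [Sylow.pointwise_smul_def]
  exact ⟨⟨e, hEL he⟩, hU he, rfl⟩

/-- Stability when the elements of order dividing four square to one. -/
theorem isQuad_of_exponent_two {p : ℕ} [Fact p.Prime] (hp2 : p ≠ 2)
    (h : ∀ S : Sylow 2 G, ∀ s ∈ (S : Subgroup G), s * s = 1) : ZJ.IsQuad p G := by
  refine PStable.isQuad_of_not_involves_sl2 hp2 fun hinv => ?_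
  obtain ⟨K, ψ, hψ⟩ := PStable.exists_surjective_of_involves hinv
  haveI : Fact (Nat.Prime 2) := ⟨Nat.prime_two⟩
  obtain ⟨T⟩ : Nonempty (Sylow 2 K) := inferInstance
  let w : Matrix.SpecialLinearGroup (Fin 2) (ZMod p) :=
    ⟨!![0, 1; -1, 0], by simp [Matrix.det_fin_two]⟩
  have hw2 : w * w = -1 := Subtype.ext (by
    ext i j
    rw [Matrix.SpecialLinearGroup.coe_mul, Matrix.SpecialLinearGroup.coe_neg, Matrix.SpecialLinearGroup.coe_one]
    fin_cases i <;> fin_cases j <;> simp [w, Matrix.mul_apply, Fin.sum_univ_two])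
  have hw4 : w ^ (2 ^ 2) = 1 := by
    rw [show (2 : ℕ) ^ 2 = 2 * 2 from rfl, pow_mul, pow_two w, hw2]
    simp
  have hwP : IsPGroup 2 (zpowers w) := fun z => by
    obtain ⟨z, hz⟩ := z
    obtain ⟨k, rfl⟩ := mem_zpowers_iff.1 hz
    refine ⟨2, Subtype.ext ?_⟩
    rw [SubgroupClass.coe_pow, ← zpow_natCast, ← zpow_mul, mul_comm, zpow_mul, zpow_natCast, hw4, one_zpow,
      OneMemClass.coe_one]
  obtain ⟨U, hU⟩ := hwP.exists_le_sylow
  obtain ⟨g, hg⟩ := MulAction.exists_smul_eq (Matrix.SpecialLinearGroup (Fin 2) (ZMod p)) U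
    (T.mapSurjective hψ)
  have hgw : g * w * g⁻¹ ∈ (T.mapSurjective hψ : Subgroup (Matrix.SpecialLinearGroup (Fin 2) (ZMod p))) := by
    rw [← hg]
    show _ ∈ ((MulAut.conj g • U : Sylow 2 _) : Subgroup (Matrix.SpecialLinearGroup (Fin 2) (ZMod p)))
    rw [Sylow.pointwise_smul_def]
    exact ⟨w, hU (mem_zpowers w), rfl⟩
  obtain ⟨t, ht, hte⟩ := hgw
  obtain ⟨S, hS⟩ := (T.isPGroup'.map K.subtype).exists_le_sylow
  have htt : t * t = 1 := Subtype.ext (h S _ (hS ⟨t, ht, rfl⟩))
  have h1 : g * (w * w) * g⁻¹ = 1 := by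
    rw [show g * (w * w) * g⁻¹ = (g * w * g⁻¹) * (g * w * g⁻¹) by group, ← hte, ← map_mul, htt, map_one]
  rw [hw2, mul_inv_eq_one, mul_eq_left] at h1
  exact PStable.neg_one_ne_one hp2 h1

end Cfsg.Agent.SEMain
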