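import Cfsg.Agent.Lib.SEMain.Points
import Cfsg.Agent.Lib.SESolv.Points

/-!
# The inversion lemma

`S` is an odd subgroup normalised by a four-group fixing `c` and holding `u`, and `[S, u] ≠ 1`: then
the normaliser of `[S, u]` fixes `c`, and so does every odd subgroup of order prime to `S` normalised
by `S` and `u`.
-/

set_option autoImplicit false
set_option linter.style.haveILetI false
set_option linter.unusedSectionVars false

namespace Cfsg.Agent.SEMain

open Subgroup MulAction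
open scoped commutatorElement

universe u

variable {G : Type u} [Group G]

theorem normalizer_commutator_of {A B : Subgroup G} {g : G} (hA : g ∈ normalizer (A : Set G))
    (hB : g ∈ normalizer (B : Set G)) : g ∈ normalizer ((⁅A, B⁆ : Subgroup G) : Set G) := by
  have key : ∀ h : G, h ∈ normalizer (A : Set G) → h ∈ normalizer (B : Set G) →
      ∀ z ∈ ⁅A, B⁆, h * z * h⁻¹ ∈ ⁅A, B⁆ := by
    intro h hA hB
    suffices hle : ⁅A, B⁆ ≤ (⁅A, B⁆).comap (MulAut.conj h).toMonoidHom from fun z hz => by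
      simpa using hle hz
    rw [Subgroup.commutator_le]
    intro a ha b hb
    show h * ⁅a, b⁆ * h⁻¹ ∈ ⁅A, B⁆
    have e : h * ⁅a, b⁆ * h⁻¹ = ⁅h * a * h⁻¹, h * b * h⁻¹⁆ := by
      simp only [commutatorElement_def]; group
    rw [e]
    exact commutator_mem_commutator ((mem_normalizer_iff.1 hA a).1 ha) ((mem_normalizer_iff.1 hB b).1 hb)
  rw [mem_normalizer_iff]
  refine fun z => ⟨key g hA hB z, fun hz => ?_⟩
  simpa [mul_assoc] using key g⁻¹ (inv_mem hA) (inv_mem hB) _ hz

/-- An involution inverts `[S, u]` modulo its commutator subgroup. -/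
theorem inverts_mod_derived {S : Subgroup G} {u : G} (hu : orderOf u = 2)
    (huN : u ∈ normalizer (S : Set G)) {z : G} (hz : z ∈ ⁅S, zpowers u⁆) :
    u * z * u⁻¹ * z ∈ ⁅⁅S, zpowers u⁆, ⁅S, zpowers u⁆⁆ := by
  set Z := ⁅S, zpowers u⁆ with hZ
  have huZ : u ∈ normalizer (Z : Set G) := normalizer_commutator_of huN (le_normalizer (mem_zpowers u))
  have hZn : Z ≤ normalizer ((⁅Z, Z⁆ : Subgroup G) : Set G) := fun a ha =>
    normalizer_commutator_of (le_normalizer ha) (le_normalizer ha)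
  have huD : u ∈ normalizer ((⁅Z, Z⁆ : Subgroup G) : Set G) := normalizer_commutator_of huZ huZ
  rw [hZ, Subgroup.commutator_def] at hz
  induction hz using Subgroup.closure_induction with
  | mem x hx =>
    obtain ⟨s, -, w, hw, rfl⟩ := hx
    have hw' : w = 1 ∨ w = u := by
      obtain ⟨k, rfl⟩ := hw
      show u ^ k = 1 ∨ u ^ k = u
      rcases Int.emod_two_eq_zero_or_one k with h | h <;>
        rw [← zpow_mod_orderOf, hu, show ((2 : ℕ) : ℤ) = 2 from rfl, h]
      · exact Or.inl (zpow_zero u)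
      · exact Or.inr (zpow_one u)
    rcases hw' with rfl | rfl
    · simp
    · have h2 := Invol.mul_self hu
      rw [commutatorElement_def, Invol.inv_self hu]
      rw [show w * (s * w * s⁻¹ * w) * w * (s * w * s⁻¹ * w) = w * s * w * s⁻¹ * (w * w) * s * w * s⁻¹ * w by
        group, h2, mul_one, show w * s * w * s⁻¹ * s * w * s⁻¹ * w = w * s * (w * w) * s⁻¹ * w by group,
        h2, mul_one, show w * s * s⁻¹ * w = w * w by group, h2]
      exact one_mem _
  | one => simp
  | mul a b hac hbc ha hb =>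
    have haZ : a ∈ Z := by rw [hZ, Subgroup.commutator_def]; exact hac
    have hbZ : b ∈ Z := by rw [hZ, Subgroup.commutator_def]; exact hbc
    have e : u * (a * b) * u⁻¹ * (a * b) =
        u * a * u⁻¹ * a * (a⁻¹ * (u * b * u⁻¹ * b) * a) * ⁅a⁻¹, b⁻¹⁆ := by
      rw [commutatorElement_def]; group
    rw [e]
    exact mul_mem (mul_mem ha ((mem_normalizer_iff''.1 (hZn haZ) _).1 hb))
      (commutator_mem_commutator (inv_mem haZ) (inv_mem hbZ))
  | inv a hac ha =>
    have haZ : a ∈ Z := by rw [hZ, Subgroup.commutator_def]; exact hac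
    have e : u * a⁻¹ * u⁻¹ * a⁻¹ = a * (u * a * u⁻¹ * a)⁻¹ * a⁻¹ := by group
    rw [e]
    exact (mem_normalizer_iff.1 (hZn haZ) _).1 (inv_mem ha)

variable [Finite G] {H : Subgroup G}

theorem exists_third {E : Subgroup G} (hE : SEBrick.IsFour E) (u : G) :
    ∃ e ∈ E, e ≠ 1 ∧ e ≠ u := by
  by_contra h
  push Not at h
  have h2 : (E : Set G).ncard ≤ 2 :=
    (Set.ncard_le_ncard (t := {1, u}) (fun x hx => by
      by_cases hx1 : x = 1
      · exact Or.inl hx1
      · exact Or.inr (h x hx hx1)) (Set.toFinite _)).trans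
      ((Set.ncard_insert_le _ _).trans (by rw [Set.ncard_singleton]))
  rw [← Nat.card_coe_set_eq] at h2
  exact absurd (hE.2.trans h2) (by norm_num)

variable (hH : Cfsg.IsStronglyEmbedded H)
include hH

/-- INV: the normaliser of `[S, u]` fixes the point of the four-group. -/
theorem normalizer_commutator_le {c : G ⧸ H} {E S : Subgroup G} (hE : SEBrick.IsFour E)
    (hEc : E ≤ stabilizer G c) (hS : Odd (Nat.card S)) (hES : E ≤ normalizer (S : Set G)) {u : G}
    (huE : u ∈ E) (hu : orderOf u = 2) (hne : ⁅S, zpowers u⁆ ≠ ⊥) :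
    normalizer ((⁅S, zpowers u⁆ : Subgroup G) : Set G) ≤ stabilizer G c := by
  set Z := ⁅S, zpowers u⁆ with hZ
  set N := normalizer (Z : Set G) with hN
  by_contra hNc
  have hEN : E ≤ N := fun e he => normalizer_commutator_of (hES he) (by
    rw [mem_normalizer_iff]
    intro x
    have hcomm : ∀ k : ℤ, e * u ^ k * e⁻¹ = u ^ k := fun k =>
      mul_inv_eq_iff_eq_mul.2 ((Commute.zpow_right (hE.comm he huE : Commute e u) k).eq)
    refine ⟨?_, fun hx => ?_⟩
    · intro hx
      obtain ⟨k, rfl⟩ := mem_zpowers_iff.1 hx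
      exact mem_zpowers_iff.2 ⟨k, (hcomm k).symm⟩
    · obtain ⟨k, hk'⟩ := mem_zpowers_iff.1 hx
      exact mem_zpowers_iff.2 ⟨k, by
        exact mul_left_cancel (a := e) (mul_right_cancel (b := e⁻¹) (by rw [hcomm k, hk']))⟩)
  have hse : Cfsg.IsStronglyEmbedded ((stabilizer G c).subgroupOf N) :=
    SESolv.se_sub (se_stab hH c) hu (hEc huE) (hEN huE) hNc
  obtain ⟨e, he, he1, heu⟩ := exists_third hE u
  have hoe := hE.order he he1
  obtain ⟨n, hn⟩ := isConj_iff.1 (Invol.se_isConj hse (a := (⟨u, hEN huE⟩ : N)) (b := ⟨e, hEN he⟩)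
    (by rwa [Subgroup.orderOf_mk]) (by rwa [Subgroup.orderOf_mk]))
  have hn' : (n : G) * u * (n : G)⁻¹ = e := congrArg Subtype.val hn
  have huS : u ∈ normalizer (S : Set G) := hES huE
  have hZS : Z ≤ S := commutator_le.2 fun s hs w hw => by
    rw [commutatorElement_def]
    have hw' : w ∈ normalizer (S : Set G) := zpowers_le.2 huS hw
    rw [show s * w * s⁻¹ * w⁻¹ = s * (w * s⁻¹ * w⁻¹) by group]
    exact mul_mem hs ((mem_normalizer_iff.1 hw' _).1 (inv_mem hs))
  have huD : u ∈ normalizer ((⁅Z, Z⁆ : Subgroup G) : Set G) := normalizer_commutator_of (hEN huE) (hEN huE)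
  have hnD : (n : G) ∈ normalizer ((⁅Z, Z⁆ : Subgroup G) : Set G) := normalizer_commutator_of n.2 n.2
  have hZle : Z ≤ ⁅Z, Z⁆ := fun z hz => by
    have h1 := inverts_mod_derived hu huS hz
    have hz' : (n : G)⁻¹ * z * n ∈ Z := (mem_normalizer_iff''.1 n.2 z).1 hz
    have h2 : e * z * e⁻¹ * z ∈ ⁅Z, Z⁆ := by
      have h := (mem_normalizer_iff.1 hnD _).1 (inverts_mod_derived hu huS hz')
      rw [← hn']
      convert h using 1
      group
    have hf : u * e ∈ E := mul_mem huE he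
    have hf1 : u * e ≠ 1 := fun h => heu (by rw [← inv_eq_of_mul_eq_one_right h, Invol.inv_self hu])
    obtain ⟨n', hn''⟩ := isConj_iff.1 (Invol.se_isConj hse (a := (⟨u, hEN huE⟩ : N))
      (b := ⟨u * e, hEN hf⟩) (by rwa [Subgroup.orderOf_mk])
      (by rw [Subgroup.orderOf_mk]; exact hE.order hf hf1))
    have hn3 : (n' : G) * u * (n' : G)⁻¹ = u * e := congrArg Subtype.val hn''
    have hn'D : (n' : G) ∈ normalizer ((⁅Z, Z⁆ : Subgroup G) : Set G) := normalizer_commutator_of n'.2 n'.2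
    have h3 : u * e * z * (u * e)⁻¹ * z ∈ ⁅Z, Z⁆ := by
      have h := (mem_normalizer_iff.1 hn'D _).1
        (inverts_mod_derived hu huS ((mem_normalizer_iff''.1 n'.2 z).1 hz))
      rw [← hn3]
      convert h using 1
      group
    -- `u e` also centralises `z` modulo the commutator subgroup
    have h4 : z⁻¹ * (u * e * z * (u * e)⁻¹) ∈ ⁅Z, Z⁆ := by
      have ha : u * (e * z * e⁻¹ * z) * u⁻¹ ∈ ⁅Z, Z⁆ := (mem_normalizer_iff.1 huD _).1 h2
      have e1 : z⁻¹ * (u * e * z * (u * e)⁻¹) =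
          z⁻¹ * (u * (e * z * e⁻¹ * z) * u⁻¹) * z * (u * z * u⁻¹ * z)⁻¹ := by group
      rw [e1]
      exact mul_mem ((mem_normalizer_iff''.1
        (normalizer_commutator_of (le_normalizer hz) (le_normalizer hz)) _).1 ha) (inv_mem h1)
    have hsq : z ^ 2 ∈ ⁅Z, Z⁆ := by
      have e1 : z ^ 2 = z * (z⁻¹ * (u * e * z * (u * e)⁻¹))⁻¹ * z⁻¹ * (u * e * z * (u * e)⁻¹ * z) := by
        rw [pow_two]; group
      rw [e1]
      exact mul_mem ((mem_normalizer_iff.1 (normalizer_commutator_of (le_normalizer hz) (le_normalizer hz)) _).1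
        (inv_mem h4)) h3
    obtain ⟨k, hk⟩ := Invol.exists_sqrt (SEBrick.odd_order hS (hZS hz))
    have h5 : (z ^ 2) ^ k ∈ ⁅Z, Z⁆ := pow_mem hsq k
    rwa [← pow_mul, mul_comm, pow_mul, hk] at h5
  haveI : Group.IsSolvable Z := OddChar.oddSolvable _ (SEBrick.odd_of_le hS hZS)
  haveI : Nontrivial Z := (nontrivial_iff_ne_bot Z).2 hne
  refine (Group.IsSolvable.commutator_lt_top_of_nontrivial Z).ne ?_
  have h := Subgroup.map_subtype_commutator Z
  refine map_injective Z.subtype_injective ?_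
  rw [h, ← MonoidHom.range_eq_map, Subgroup.range_subtype]
  exact le_antisymm (CoprimeAct.commutator_le_left le_normalizer) hZle

/-- INV': an odd subgroup of order prime to `S`, normalised by `S` and `u`, fixes the point. -/
theorem le_stab_of_inv {c : G ⧸ H} {E S V : Subgroup G} (hE : SEBrick.IsFour E)
    (hEc : E ≤ stabilizer G c) (hS : Odd (Nat.card S)) (hES : E ≤ normalizer (S : Set G)) {u : G}
    (huE : u ∈ E) (hu : orderOf u = 2) (hne : ⁅S, zpowers u⁆ ≠ ⊥) (hV : Odd (Nat.card V))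
    (hSV : S ≤ normalizer (V : Set G)) (huV : u ∈ normalizer (V : Set G))
    (hcop : (Nat.card S).Coprime (Nat.card V)) : V ≤ stabilizer G c := by
  set X := stabilizer G c with hX
  set Z := ⁅S, zpowers u⁆ with hZ
  have hSX : S ≤ X := SESolv.odd_fix_of_four hH hS hE hEc hES
  have huX : u ∈ X := hEc huE
  have huS : u ∈ normalizer (S : Set G) := hES huE
  have hZS : Z ≤ S := commutator_le.2 fun s hs w hw => by
    rw [commutatorElement_def]
    have hw' : w ∈ normalizer (S : Set G) := zpowers_le.2 huS hw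
    rw [show s * w * s⁻¹ * w⁻¹ = s * (w * s⁻¹ * w⁻¹) by group]
    exact mul_mem hs ((mem_normalizer_iff.1 hw' _).1 (inv_mem hs))
  have hNX : normalizer (Z : Set G) ≤ X := normalizer_commutator_le hH hE hEc hS hES huE hu hne
  suffices key : ∀ (k : ℕ) (L : Subgroup G), Nat.card L = k → L ≤ V → S ≤ normalizer (L : Set G) →
      u ∈ normalizer (L : Set G) → L ≤ X from key _ V rfl le_rfl hSV huV
  intro k
  induction k using Nat.strong_induction_on with
  | _ k ih =>
  intro L hk hLV hSL huL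
  by_cases hL1 : L = ⊥
  · rw [hL1]; exact bot_le
  have hLodd := SEBrick.odd_of_le hV hLV
  haveI : Group.IsSolvable L := OddChar.oddSolvable _ hLodd
  haveI : Nontrivial L := (nontrivial_iff_ne_bot L).2 hL1
  have hLL : ⁅L, L⁆ ≤ L := CoprimeAct.commutator_le_left le_normalizer
  have hlt : Nat.card (⁅L, L⁆ : Subgroup G) < k := by
    rw [← hk]
    refine lt_of_le_of_ne (card_le_of_le hLL) fun e => ?_
    refine (Group.IsSolvable.commutator_lt_top_of_nontrivial L).ne (map_injective L.subtype_injective ?_)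
    rw [map_subtype_commutator, ← MonoidHom.range_eq_map, range_subtype]
    exact eq_of_le_of_card_ge hLL e.ge
  have hD : ⁅L, L⁆ ≤ X := ih _ hlt _ rfl (hLL.trans hLV)
    (fun s hs => normalizer_commutator_of (hSL hs) (hSL hs)) (normalizer_commutator_of huL huL)
  set M := L ⊓ X with hM
  have hDM : ⁅L, L⁆ ≤ M := le_inf hLL hD
  have hLM : L ≤ normalizer (M : Set G) := fun l hl => SEBrick.mem_normalizer_of fun m hm => by
    have h1 : ⁅l, m⁆ ∈ M := hDM (commutator_mem_commutator hl (mem_inf.1 hm).1)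
    simpa [commutatorElement_def] using mul_mem h1 hm
  have hnorm : ∀ g ∈ normalizer (L : Set G), g ∈ X → ∀ m ∈ M, g * m * g⁻¹ ∈ M := fun g hg hgX m hm =>
    mem_inf.2 ⟨(mem_normalizer_iff.1 hg m).1 (mem_inf.1 hm).1,
      mul_mem (mul_mem hgX (mem_inf.1 hm).2) (inv_mem hgX)⟩
  -- `u` inverts `L` modulo `M`
  have hinv : ∀ y ∈ L, u * y * u⁻¹ * y ∈ M := by
    intro y hy
    set x := y⁻¹ * (u * y * u⁻¹) with hx
    have hxL : x ∈ L := mul_mem (inv_mem hy) ((mem_normalizer_iff.1 huL y).1 hy)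
    have hxinv : u * x * u⁻¹ = x⁻¹ := by
      rw [hx, Invol.inv_self hu]
      calc u * (y⁻¹ * (u * y * u)) * u = u * y⁻¹ * u * y * (u * u) := by group
        _ = (y⁻¹ * (u * y * u))⁻¹ := by
          rw [Invol.mul_self hu, mul_one, mul_inv_rev, mul_inv_rev, mul_inv_rev, inv_inv,
            Invol.inv_self hu]
          group
    obtain ⟨j, hj⟩ := Invol.exists_sqrt (SEBrick.odd_order hLodd hxL)
    set r := x ^ j with hr
    have hrL : r ∈ L := pow_mem hxL j
    have hrinv : u * r * u⁻¹ = r⁻¹ := Invol.conj_pow hxinv j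
    have hfix : u * (y * r) * u⁻¹ = y * r := by
      calc u * (y * r) * u⁻¹ = u * y * u⁻¹ * (u * r * u⁻¹) := by group
        _ = y * x * r⁻¹ := by rw [hrinv, hx]; group
        _ = y * r := by rw [← hj]; group
    have hcM : y * r ∈ M := by
      refine mem_inf.2 ⟨mul_mem hy hrL, mem_stabilizer_iff.2 (Invol.se_fix_unique hH hu ?_ huX)⟩
      rw [← mul_smul, mul_inv_eq_iff_eq_mul.1 hfix, mul_smul, huX]
    have e : u * y * u⁻¹ * y = y * r * (r * (y * r) * r⁻¹) := by
      have h1 : u * y * u⁻¹ = y * r * r := by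
        rw [mul_assoc y r r, ← pow_two, hr, hj, hx]; group
      rw [h1]; group
    rw [e]
    exact mul_mem hcM ((mem_normalizer_iff.1 (hLM hrL) _).1 hcM)
  -- so `[S, u]` acts trivially on `L` modulo `M`
  have hrel : ∀ z ∈ Z, z ∈ normalizer (L : Set G) ∧ ∀ y ∈ L, z * y * z⁻¹ * y⁻¹ ∈ M := by
    intro z hz
    rw [hZ, Subgroup.commutator_def] at hz
    induction hz using Subgroup.closure_induction with
    | mem x hx =>
      obtain ⟨s, hs, w, hw, rfl⟩ := hx
      have hwL : w ∈ normalizer (L : Set G) := zpowers_le.2 huL hw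
      have hsL := hSL hs
      have hmem : ⁅s, w⁆ ∈ normalizer (L : Set G) := by
        rw [commutatorElement_def]
        exact mul_mem (mul_mem (mul_mem hsL hwL) (inv_mem hsL)) (inv_mem hwL)
      refine ⟨hmem, fun y hy => ?_⟩
      have hw' : w = 1 ∨ w = u := by
        obtain ⟨k, rfl⟩ := hw
        show u ^ k = 1 ∨ u ^ k = u
        rcases Int.emod_two_eq_zero_or_one k with h | h <;>
          rw [← zpow_mod_orderOf, hu, show ((2 : ℕ) : ℤ) = 2 from rfl, h]
        · exact Or.inl (zpow_zero u)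
        · exact Or.inr (zpow_one u)
      rcases hw' with rfl | rfl
      · simp [one_mem]
      · rw [commutatorElement_def, Invol.inv_self hu]
        -- four congruences modulo `M`
        set y₁ := w * y * w⁻¹ with hy₁
        have hy₁L : y₁ ∈ L := (mem_normalizer_iff.1 huL y).1 hy
        have hm₁ : y₁ * y ∈ M := hinv y hy
        set y₂ := s⁻¹ * y * s with hy₂
        have hy₂L : y₂ ∈ L := (mem_normalizer_iff''.1 hsL y).1 hy
        have hm₂ : w * y₂ * w⁻¹ * y₂ ∈ M := hinv y₂ hy₂L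
        have hsX := hSX hs
        have a1 : w * (s⁻¹ * (y₁ * y) * s) * w⁻¹ ∈ M := hnorm w huL huX _ (by
          have := hnorm s⁻¹ (inv_mem hsL) (inv_mem hsX) _ hm₁
          simpa using this)
        have a2 : s * (w * (s⁻¹ * (y₁ * y) * s) * w⁻¹ * (y₂ * (w * y₂ * w⁻¹ * y₂)⁻¹ * y₂⁻¹)) * s⁻¹ ∈ M :=
          hnorm s hsL hsX _ (mul_mem a1 ((mem_normalizer_iff.1 (hLM hy₂L) _).1 (inv_mem hm₂)))
        have e : s * w * s⁻¹ * (w * y * w⁻¹) * (s * w⁻¹ * s⁻¹) * y⁻¹ =
            s * (w * (s⁻¹ * (y₁ * y) * s) * w⁻¹ * (y₂ * (w * y₂ * w⁻¹ * y₂)⁻¹ * y₂⁻¹)) * s⁻¹ := by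
          rw [hy₂, hy₁]; group
        have e' : s * w * s⁻¹ * w * y * (s * w * s⁻¹ * w)⁻¹ * y⁻¹ =
            s * w * s⁻¹ * (w * y * w⁻¹) * (s * w⁻¹ * s⁻¹) * y⁻¹ := by
          simp only [mul_inv_rev, inv_inv, mul_assoc]
        rw [e', e]; exact a2
    | one => exact ⟨one_mem _, fun y _ => by simp [one_mem]⟩
    | mul a b _ _ ha hb =>
      refine ⟨mul_mem ha.1 hb.1, fun y hy => ?_⟩
      have e : a * b * y * (a * b)⁻¹ * y⁻¹ =
          a * (b * y * b⁻¹) * a⁻¹ * (b * y * b⁻¹)⁻¹ * (b * y * b⁻¹ * y⁻¹) := by group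
      rw [e]
      exact mul_mem (ha.2 _ ((mem_normalizer_iff.1 hb.1 y).1 hy)) (hb.2 y hy)
    | inv a _ ha =>
      refine ⟨inv_mem ha.1, fun y hy => ?_⟩
      have hy' : a⁻¹ * y * a ∈ L := (mem_normalizer_iff''.1 ha.1 y).1 hy
      have e : a⁻¹ * y * a⁻¹⁻¹ * y⁻¹ = (a * (a⁻¹ * y * a) * a⁻¹ * (a⁻¹ * y * a)⁻¹)⁻¹ := by group
      rw [e]
      exact inv_mem (ha.2 _ hy')
  have hZL : Z ≤ normalizer (L : Set G) := fun z hz => (hrel z hz).1
  have hZX : Z ≤ X := hZS.trans hSX
  intro y hy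
  obtain ⟨d, hd, hyd⟩ := CoprimeAct.exists_mem_centralizer hZL
    ((hcop.coprime_dvd_left (card_dvd_of_le hZS)).coprime_dvd_right (card_dvd_of_le hLV))
    (Or.inr inferInstance) (inf_le_left : M ≤ L) hLM
    (fun z hz => SEBrick.mem_normalizer_of (hnorm z (hZL hz) (hZX hz))) hy (fun z hz => (hrel z hz).2 y hy)
  have hdX : d ∈ X := hNX (SEBrick.mem_normalizer_of fun z hz => by
    have hc := mem_centralizer_iff.1 (mem_inf.1 hd).2 z hz
    rwa [← hc, mul_inv_cancel_right])
  have := mul_mem hdX (inv_mem (mem_inf.1 hyd).2)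
  simpa using this

end Cfsg.Agent.SEMain
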