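import Cfsg.Agent.Lib.SEMain.Dichotomy
import Cfsg.Agent.Lib.SEMain.Inv
import Cfsg.Agent.Lib.Classification.Transitivity
import Cfsg.Agent.Lib.PLocal.ZJ
import Cfsg.Agent.Lib.PStable.Involved

/-!
# Kernel configurations

An `r`-group of a two-point stabiliser, normalised but not centralised by the swapper of a four-group,
pushes the `r'`-core of the two-point stabiliser into the stabiliser of the centre. For a pair-maximal
`r`-group with a four-group in its normaliser this gives a non-trivial normal subgroup of a two-point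
stabiliser normalised by a swapper and by an involution fixing a point.
-/

set_option autoImplicit false
set_option linter.style.haveILetI false
set_option linter.unusedSectionVars false

namespace Cfsg.Agent.SEMain

open Subgroup MulAction

universe u

variable {G : Type u} [Group G] [Finite G] {H : Subgroup G}

/-- The `r'`-core of a two-point stabiliser. -/
def coreOf (r : ℕ) (p q : G ⧸ H) : Subgroup G :=
  (Cfsg.pPrimeCore r (pairStab p q)).map (pairStab p q).subtype

theorem coreOf_le {r : ℕ} (p q : G ⧸ H) : coreOf r p q ≤ pairStab p q := map_subtype_le _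

theorem coreOf_coprime {r : ℕ} (p q : G ⧸ H) : (Nat.card (coreOf r p q)).Coprime r :=
  AxB.coprime_card_pPrimeCoreOf r _

theorem pairStab_le_normalizer_coreOf {r : ℕ} (p q : G ⧸ H) :
    pairStab p q ≤ normalizer (coreOf r p q : Set G) :=
  SESolv.le_normalizer_map (FittingCores.pPrimeCore_normal r)

/-- A swapper normalises the two-point stabiliser. -/
theorem conj_mem_pairStab {v : G} {p q : G ⧸ H} (hp : v • p = q) (hq : v • q = p) {x : G}
    (hx : x ∈ pairStab p q) : v * x * v⁻¹ ∈ pairStab p q := by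
  obtain ⟨h1, h2⟩ := mem_pairStab.1 hx
  have e1 := conj_smul_eq (g := v) h1
  have e2 := conj_smul_eq (g := v) h2
  rw [hp] at e1
  rw [hq] at e2
  exact mem_pairStab.2 ⟨e2, e1⟩

/-- What normalises the two-point stabiliser normalises its `r'`-core. -/
theorem mem_normalizer_coreOf {r : ℕ} {p q : G ⧸ H} {g : G}
    (hg : g ∈ normalizer (pairStab p q : Set G)) : g ∈ normalizer (coreOf r p q : Set G) := by
  refine SEBrick.mem_normalizer_of fun x hx => ?_
  have hle : (coreOf r p q).map (MulAut.conj g).toMonoidHom ≤ pairStab p q := by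
    rintro _ ⟨y, hy, rfl⟩
    simpa using SEBrick.conj_mem_of hg (coreOf_le p q hy)
  refine AxB.le_pPrimeCoreOf hle (fun d hd => SEBrick.mem_normalizer_of ?_) ?_
    (show g * x * g⁻¹ ∈ (coreOf r p q).map (MulAut.conj g).toMonoidHom from ⟨x, hx, by simp⟩)
  · rintro _ ⟨y, hy, rfl⟩
    refine ⟨g⁻¹ * d * g * y * (g⁻¹ * d * g)⁻¹, SEBrick.conj_mem_of
      (pairStab_le_normalizer_coreOf p q ?_) hy, ?_⟩
    · simpa using SEBrick.conj_mem_of (inv_mem hg) hd
    · simp only [MulEquiv.coe_toMonoidHom, MulAut.conj_apply]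
      group
  · rw [card_map_of_injective (MulAut.conj g).injective]
    exact coreOf_coprime p q

theorem swapper_mem_normalizer_coreOf {r : ℕ} {v : G} {p q : G ⧸ H} (hv : orderOf v = 2)
    (hp : v • p = q) : v ∈ normalizer (coreOf r p q : Set G) :=
  mem_normalizer_coreOf (SEBrick.mem_normalizer_of fun _ hx => conj_mem_pairStab hp (swap_back hv hp) hx)

theorem coprime_of_pGroup {r : ℕ} [Fact r.Prime] {Y : Subgroup G} (hY : IsPGroup r Y) {n : ℕ}
    (hn : n.Coprime r) : (Nat.card Y).Coprime n := by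
  obtain ⟨k, hk⟩ := IsPGroup.iff_card.1 hY
  rw [hk]
  exact (hn.pow_right k).symm

theorem odd_of_pGroup {r : ℕ} [Fact r.Prime] (hr2 : r ≠ 2) {Y : Subgroup G} (hY : IsPGroup r Y) :
    Odd (Nat.card Y) := by
  obtain ⟨k, hk⟩ := IsPGroup.iff_card.1 hY
  rw [hk]
  exact ((Fact.out : r.Prime).odd_of_ne_two hr2).pow

/-- An `r`-group of `G_pq` normalised but not centralised by the swapper of a four-group at `c`: the
`r'`-core of `G_pq` fixes `c`. -/
theorem coreOf_le_stab (hH : Cfsg.IsStronglyEmbedded H) {r : ℕ} [Fact r.Prime] (hr2 : r ≠ 2)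
    {p q c : G ⧸ H} (hpq : p ≠ q) {Y E : Subgroup G} (hY : IsPGroup r Y) (hYD : Y ≤ pairStab p q)
    (hE : SEBrick.IsFour E) (hEc : E ≤ stabilizer G c) (hEY : E ≤ normalizer (Y : Set G)) {u : G}
    (huE : u ∈ E) (hu : orderOf u = 2) (hup : u • p = q)
    (hne : ¬ Y ≤ centralizer ({u} : Set G)) : coreOf r p q ≤ stabilizer G c := by
  refine le_stab_of_inv hH hE hEc (odd_of_pGroup hr2 hY) hEY huE hu (fun h => hne ?_)
    (SEBrick.odd_of_le (pairStab_odd hH hpq) (coreOf_le p q))
    (hYD.trans (pairStab_le_normalizer_coreOf p q)) (swapper_mem_normalizer_coreOf hu hup)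
    (coprime_of_pGroup hY (coreOf_coprime p q))
  intro y hy
  exact mem_centralizer_singleton_iff.2
    (mem_centralizer_iff.1 (commutator_eq_bot_iff_le_centralizer.1 h hy) u (mem_zpowers u)).symm

/-- A four-group containing two commuting involutions, inside a subgroup containing both. -/
theorem exists_four_pair {X : Subgroup G} {s t : G} (hs : orderOf s = 2) (ht : orderOf t = 2)
    (hsX : s ∈ X) (htX : t ∈ X) (hne : s ≠ t) (hst : s * t = t * s) :
    ∃ E, E ≤ X ∧ SEBrick.IsFour E ∧ s ∈ E := by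
  obtain ⟨E, hE, hsE, htE⟩ := BrauerSuzuki.exists_klein hs ht hst hne
  haveI := hE
  have hsq : ∀ e ∈ E, e * e = 1 := fun e he =>
    congrArg Subtype.val (IsKleinFour.mul_self (⟨e, he⟩ : E))
  have h4 : Nat.card E = 4 := IsKleinFour.card_four
  have hsub : ({1, s, t} : Set G) ⊆ (E ⊓ X : Subgroup G) := by
    rintro x (rfl | rfl | rfl)
    exacts [one_mem _, ⟨hsE, hsX⟩, ⟨htE, htX⟩]
  have h3 := Set.ncard_le_ncard hsub (Set.toFinite _)
  rw [Set.ncard_insert_of_notMem (by
      simp [(Invol.ne_one hs).symm, (Invol.ne_one ht).symm]) (Set.toFinite _),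
    Set.ncard_pair hne, ← Nat.card_coe_set_eq] at h3
  have h : Nat.card (E ⊓ X : Subgroup G) = 4 := by
    have hd : Nat.card (E ⊓ X : Subgroup G) ∣ 4 := h4 ▸ card_dvd_of_le inf_le_left
    have := Nat.le_of_dvd (by norm_num) hd
    have h3' : 3 ≤ Nat.card (E ⊓ X : Subgroup G) := h3
    interval_cases hcd : Nat.card (E ⊓ X : Subgroup G) <;> simp_all
  refine ⟨E, inf_eq_left.1 (eq_of_le_of_card_ge inf_le_left (by omega)),
    ⟨⟨.of_setLike_mul_comm fun a ha b hb => ?_, fun a ha => ?_⟩, h4.ge⟩, hsE⟩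
  · calc a * b = (a * b)⁻¹ := (inv_eq_of_mul_eq_one_right (hsq _ (mul_mem ha hb))).symm
      _ = b * a := by
        rw [mul_inv_rev, inv_eq_of_mul_eq_one_right (hsq a ha), inv_eq_of_mul_eq_one_right (hsq b hb)]
  · rw [pow_two]; exact hsq a ha

/-- **A pair-maximal `r`-group of rank two.** A non-trivial normal subgroup of some `G_pq` is
normalised by a swapper and by an involution fixing `p`. -/
theorem exists_normal_of_rank_two (hH : Cfsg.IsStronglyEmbedded H) {r : ℕ} [Fact r.Prime] (hr2 : r ≠ 2)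
    {Y : Subgroup G} (hY : IsPGroup r Y) (hmax : PairMaximal H r Y) {p q : G ⧸ H} (hpq : p ≠ q)
    (hYp : Y ≤ stabilizer G p) (hYq : Y ≤ stabilizer G q)
    (hrk : ¬ BrauerSuzuki.RankOne (normalizer (Y : Set G))) {u : G} (hu : orderOf u = 2)
    (huY : u ∈ normalizer (Y : Set G)) (hne : ¬ Y ≤ centralizer ({u} : Set G)) :
    ∃ (e : G ⧸ H) (W : Subgroup G) (t v : G), e ≠ p ∧ Y ≤ stabilizer G e ∧ W ≠ ⊥ ∧
      W ≤ pairStab p e ∧ pairStab p e ≤ normalizer (W : Set G) ∧
      orderOf t = 2 ∧ t • p = p ∧ t ∈ normalizer (W : Set G) ∧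
      orderOf v = 2 ∧ v • p = e ∧ v ∈ normalizer (W : Set G) := by
  set X := normalizer (Y : Set G) with hX
  have hYodd : Odd (Nat.card Y) := odd_of_pGroup hr2 hY
  -- the centre of a swapper of two fixed points is a fixed point
  have hcen : ∀ a b : G ⧸ H, a ≠ b → Y ≤ stabilizer G a → Y ≤ stabilizer G b →
      ∃ (c : G ⧸ H) (E : Subgroup G) (v : G), orderOf v = 2 ∧ v ∈ X ∧ v • a = b ∧ v • b = a ∧
        v • c = c ∧ c ≠ a ∧ v ∈ E ∧ SEBrick.IsFour E ∧ E ≤ stabilizer G c ∧ E ≤ X ∧
        Y ≤ stabilizer G c := by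
    intro a b hab hYa hYb
    obtain ⟨v, hv, hvX, hva, hvb⟩ := exists_normalizing_swapper hH hY hmax hab hYa hYb
    obtain ⟨w, hw, hwv, hvw⟩ := exists_commuting hrk (u := (⟨v, hvX⟩ : X))
      (by rw [Subgroup.orderOf_mk]; exact hv)
    rw [← Subgroup.orderOf_coe] at hw
    obtain ⟨E, hEX, hE, hvE⟩ := exists_four_pair hv hw hvX w.2
      (fun e => hwv (Subtype.ext e.symm)) (congrArg Subtype.val hvw)
    obtain ⟨c, hEc⟩ := SESolv.exists_fix_four hH hE
    have hvc : v • c = c := hEc hvE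
    refine ⟨c, E, v, hv, hvX, hva, hvb, hvc, fun e => hab ?_, hvE, hE, hEc, hEX,
      SESolv.odd_fix_of_four hH hYodd hE hEc hEX⟩
    rw [← hva, ← e, hvc]
  -- all involutions of the normaliser move `Y`
  have hmove : ∀ v : G, orderOf v = 2 → v ∈ X → ¬ Y ≤ centralizer ({v} : Set G) := by
    intro v hv hvX hc
    obtain ⟨c, E, v₀, hv₀, hv₀X, hv₀p, -, hv₀c, hcp, -⟩ := hcen p q hpq hYp hYq
    have hXc : ¬ X ≤ stabilizer G c := by
      intro hle
      obtain ⟨c', E', v', hv', hv'X, hv'p, -⟩ := hcen p c hcp.symm hYp (le_normalizer.trans hle)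
      exact hcp (MulAction.injective v' (hv'p.trans (hle hv'X).symm)).symm
    have hse : Cfsg.IsStronglyEmbedded ((stabilizer G c).subgroupOf X) :=
      SESolv.se_sub (se_stab hH c) hv₀ hv₀c hv₀X hXc
    obtain ⟨n, hn⟩ := isConj_iff.1 (Invol.se_isConj hse (a := (⟨v, hvX⟩ : X)) (b := ⟨u, huY⟩)
      (by rwa [Subgroup.orderOf_mk]) (by rwa [Subgroup.orderOf_mk]))
    have hn' : (n : G) * v * (n : G)⁻¹ = u := congrArg Subtype.val hn
    refine hne fun y hy => mem_centralizer_singleton_iff.2 ?_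
    have h1 : (n : G)⁻¹ * y * n ∈ Y := (mem_normalizer_iff''.1 n.2 y).1 hy
    have h2 := mem_centralizer_singleton_iff.1 (hc h1)
    rw [← hn']
    calc y * ((n : G) * v * (n : G)⁻¹) = n * (((n : G)⁻¹ * y * n) * v) * (n : G)⁻¹ := by group
      _ = n * (v * ((n : G)⁻¹ * y * n)) * (n : G)⁻¹ := by rw [h2]
      _ = (n : G) * v * (n : G)⁻¹ * y := by group
  -- take the partner with the largest core
  obtain ⟨q₀, hq₀, hq₀max⟩ := Set.exists_max_image {x : G ⧸ H | x ≠ p ∧ Y ≤ stabilizer G x}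
    (fun x => Nat.card (coreOf r p x)) (Set.toFinite _) ⟨q, hpq.symm, hYq⟩
  obtain ⟨e, E, v, hv, hvX, hvp, hvq, hve, hep, hvE, hE, hEe, hEX, hYe⟩ :=
    hcen p q₀ hq₀.1.symm hYp hq₀.2
  obtain ⟨f, E', v', hv', hv'X, hv'p, hv'e, hv'f, -⟩ := hcen p e hep.symm hYp hYe
  have hle : coreOf r p q₀ ≤ stabilizer G e :=
    coreOf_le_stab hH hr2 hq₀.1.symm hY (le_inf hYp hq₀.2) hE hEe hEX hvE hv hvp (hmove v hv hvX)
  have hodd : Odd (Nat.card (pairStab p e)) := pairStab_odd hH hep.symm
  haveI : Group.IsSolvable (pairStab p e) := OddChar.oddSolvable _ hodd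
  have hYD : Y ≤ pairStab p e := le_inf hYp hYe
  have heq : coreOf r p q₀ = coreOf r p e := by
    have hle2 : coreOf r p q₀ ≤ pairStab p e :=
      le_inf ((coreOf_le p q₀).trans inf_le_left) hle
    have h1 : coreOf r p q₀ ≤ coreOf r p e := by
      intro x hx
      refine ⟨⟨x, hle2 hx⟩, CTransitivity.le_pPrimeCore_of_invariant (p := r) hr2
        (A := Y.subgroupOf (pairStab p e)) (D := (coreOf r p q₀).subgroupOf (pairStab p e))
        hY.comap_subtype ?_ ?_ ?_ (mem_subgroupOf.2 hx), rfl⟩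
      · intro y hy hk
        rw [mem_subgroupOf]
        have hyc : (y : G) ∈ normalizer (Y : Set G) := SEBrick.mem_normalizer_of fun z hz => by
          have := congrArg Subtype.val (mem_centralizer_iff.1 hy ⟨z, hYD hz⟩ (mem_subgroupOf.2 hz))
          simp only [Subgroup.coe_mul] at this
          rw [← this, mul_inv_cancel_right]
          exact hz
        have hpg : IsPGroup r (zpowers (y : G)) := by
          obtain ⟨k, hk⟩ := hk
          refine IsPGroup.iff_card.2 ⟨k, ?_⟩
          rw [Nat.card_zpowers, Subgroup.orderOf_coe, hk]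
        have h2 := hmax p e hep.symm hYD (Y ⊔ zpowers (y : G))
          (hY.to_sup_of_normal_left' hpg (zpowers_le.2 hyc)) le_sup_left
          (sup_le hYD (zpowers_le.2 y.2))
        exact h2.le (mem_sup_right (mem_zpowers _))
      · rw [Nat.card_congr (subgroupOfEquivOfLe hle2).toEquiv]
        exact coreOf_coprime p q₀
      · intro y hy
        refine SEBrick.mem_normalizer_of fun z hz => mem_subgroupOf.2 ?_
        exact SEBrick.conj_mem_of (pairStab_le_normalizer_coreOf p q₀
          ((le_inf hYp hq₀.2 : Y ≤ pairStab p q₀) (mem_subgroupOf.1 hy))) (mem_subgroupOf.1 hz)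
    exact eq_of_le_of_card_ge h1 (hq₀max e ⟨hep, hYe⟩)
  set t := v' * v * v'⁻¹ with ht
  have hto : orderOf t = 2 := (Invol.order_conj v' v).trans hv
  have htp : t • p = p := by
    rw [ht, mul_smul, mul_smul, Invol.inv_self hv', hv'p, hve, hv'e]
  by_cases hM : coreOf r p e = ⊥
  swap
  · have hvM : v ∈ normalizer (coreOf r p e : Set G) := heq ▸ swapper_mem_normalizer_coreOf hv hvp
    have hv'M : v' ∈ normalizer (coreOf r p e : Set G) := swapper_mem_normalizer_coreOf hv' hv'p
    exact ⟨e, _, t, v', hep, hYe, hM, coreOf_le p e, pairStab_le_normalizer_coreOf p e, hto, htp,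
      mul_mem (mul_mem hv'M hvM) (inv_mem hv'M), hv', hv'p, hv'M⟩
  -- no core: the centre of the Thompson subgroup of `Y`
  set Z := ZJ.zCore r False Y with hZ
  have hY1 : Y ≠ ⊥ := fun h => hne (h ▸ bot_le)
  have hbot : Cfsg.pPrimeCore r (pairStab p e) = ⊥ :=
    (Subgroup.map_eq_bot_iff_of_injective _ (pairStab p e).subtype_injective).1 hM
  obtain ⟨S, hS⟩ := (hY.comap_subtype : IsPGroup r (Y.subgroupOf (pairStab p e))).exists_le_sylow
  have hSeq : (S : Subgroup (pairStab p e)).map (pairStab p e).subtype = Y :=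
    hmax p e hep.symm hYD _ (S.isPGroup'.map _) (fun y hy => ⟨⟨y, hYD hy⟩, hS hy, rfl⟩)
      (map_subtype_le _)
  have hZn : pairStab p e ≤ normalizer (Z : Set G) := by
    have h1 := ZJ.zCore_normal hr2 (PStable.isQuad_of_odd hr2 hodd)
      (FittingCores.centralizer_pCore_le Fact.out hbot) S False
    have h2 := SESolv.le_normalizer_map h1
    rwa [ZJ.zCore_map (pairStab p e).subtype (pairStab p e).subtype_injective.injOn, hSeq] at h2
  have hXZ : X ≤ normalizer (Z : Set G) :=
    (ZJ.normalizer_le_normalizer_zJ Y).trans (ZJ.normalizer_zJ_le_normalizer_zCore Y)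
  exact ⟨e, Z, t, v', hep, hYe, ZJ.zCore_ne_bot hY hY1,
    ((ZJ.zCore_le_zJ Y).trans (ZJ.zJ_le Y)).trans hYD, hZn, hto, htp,
    hXZ (mul_mem (mul_mem hv'X hvX) (inv_mem hv'X)), hv', hv'p, hXZ hv'X⟩

end Cfsg.Agent.SEMain
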