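import Cfsg.Agent.Lib.Char.Induction

/-!
Induction from a subgroup controlling a TI set is an isometry on the class functions supported on it.
-/

set_option autoImplicit false
set_option linter.style.haveILetI false
set_option linter.unusedSectionVars false

namespace Cfsg.Agent.SEMain

open Cfsg.Agent.Char
open scoped ComplexConjugate

universe u

variable {G : Type u} [Group G] [Fintype G] (D : Subgroup G) (A : Set G)

/-- `D` controls `A`: any element carrying a member of `A` into `A` lies in `D`. -/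
def Controls : Prop := ∀ g : G, ∀ a ∈ A, g * a * g⁻¹ ∈ A → g ∈ D

variable {D A}

/-- On `A` the induced function restricts to the original. -/
theorem indFun_eq_on (hA : Controls D A) (ψ : D → ℂ) (hψ : Cfsg.IsClassFunction D ψ)
    (hψA : ∀ x : D, (x : G) ∉ A → ψ x = 0) (t : D) (ht : (t : G) ∈ A) :
    Cfsg.indFun D ψ t = ψ t := by
  classical
  have key : ∀ x : G, Cfsg.extendByZero D ψ (x⁻¹ * t * x) = if x ∈ D then ψ t else 0 := by
    intro x
    split_ifs with hx
    · have hx' : x⁻¹ * t * x ∈ D := D.mul_mem (D.mul_mem (D.inv_mem hx) t.2) hx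
      rw [extendByZero_mem D ψ hx', ← hψ t ⟨x⁻¹, D.inv_mem hx⟩]
      congr 1
      ext
      simp
    · by_cases hc : x⁻¹ * t * x ∈ D
      · rw [extendByZero_mem D ψ hc]
        exact hψA _ fun hT => hx (by simpa using D.inv_mem (hA x⁻¹ t ht (by simpa using hT)))
      · exact extendByZero_not_mem D ψ hc
  rw [indFun_apply, Finset.sum_congr rfl fun x _ => key x, Finset.sum_ite, Finset.sum_const_zero,
    add_zero, Finset.sum_const, nsmul_eq_mul, ← Fintype.card_subtype, ← Nat.card_eq_fintype_card,
    ← mul_assoc, inv_mul_cancel₀ (Nat.cast_ne_zero.mpr Nat.card_pos.ne'), one_mul]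

/-- Outside the conjugates of `A` the induced function vanishes. -/
theorem indFun_eq_zero_off (ψ : D → ℂ) (hψA : ∀ x : D, (x : G) ∉ A → ψ x = 0) {g : G}
    (hg : ∀ x : G, x⁻¹ * g * x ∉ A) : Cfsg.indFun D ψ g = 0 := by
  classical
  have key : ∀ x : G, Cfsg.extendByZero D ψ (x⁻¹ * g * x) = 0 := fun x => by
    by_cases hc : x⁻¹ * g * x ∈ D
    · rw [extendByZero_mem D ψ hc]; exact hψA _ (hg x)
    · exact extendByZero_not_mem D ψ hc
  rw [indFun_apply, Finset.sum_eq_zero fun x _ => key x, mul_zero]

/-- Induction is an isometry. -/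
theorem classInner_indFun [Fintype D] (hA : Controls D A) (ψ θ : D → ℂ)
    (hθ : Cfsg.IsClassFunction D θ) (hψA : ∀ x : D, (x : G) ∉ A → ψ x = 0)
    (hθA : ∀ x : D, (x : G) ∉ A → θ x = 0) :
    Cfsg.classInner (Cfsg.indFun D ψ) (Cfsg.indFun D θ) = Cfsg.classInner ψ θ := by
  rw [classInner_indFun_left _ _ (isClassFunction_indFun _ _)]
  simp only [Cfsg.classInner]
  congr 1
  refine Finset.sum_congr rfl fun x _ => ?_
  by_cases hx : (x : G) ∈ A
  · rw [indFun_eq_on hA θ hθ hθA x hx]
  · simp [hψA x hx]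

end Cfsg.Agent.SEMain
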