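import Cfsg.Agent.Lib.SEMain.Odd
import Cfsg.Agent.Lib.SEMain.Isometry
import Cfsg.Agent.Lib.SESolv.Points
import Cfsg.Agent.Lib.Char.TwoTrans
import Cfsg.Agent.Lib.Char.FrobeniusSchur
import Cfsg.Agent.Lib.Perm.CharPerm

/-!
The permutation character on the involutions of a strongly embedded subgroup: if its non-principal
constituents are not real no two involutions are swapped, and a controlled set on which the restricted
constituents differ makes it irreducible or free of real constituents.
-/

set_option autoImplicit false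
set_option linter.style.haveILetI false
set_option linter.unusedSectionVars false

namespace Cfsg.Agent.SEMain

open Cfsg.Agent.Char Cfsg.Agent.CharPerm
open scoped ComplexConjugate

universe u v

/-- Conjugating an induced function. -/
theorem conj_indFun_eq {X : Type u} [Group X] [Fintype X] (D : Subgroup X) (ψ : D → ℂ) (g : X) :
    conj (Cfsg.indFun D ψ g) = Cfsg.indFun D (fun t => conj (ψ t)) g := by
  rw [indFun_apply, indFun_apply, map_mul, map_inv₀, map_natCast, map_sum]
  congr 1
  refine Finset.sum_congr rfl fun x _ => ?_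
  by_cases h : x⁻¹ * g * x ∈ D
  · rw [extendByZero_mem D _ h, extendByZero_mem D _ h]
  · rw [extendByZero_not_mem D _ h, extendByZero_not_mem D _ h, map_zero]

section Kind

variable {X : Type u} [Group X] [Fintype X] {D : Subgroup X} [Fintype D] {A : Set X} {f : X → ℂ}

/-- A character whose restriction to `D` consists of non-real irreducible characters of multiplicity one
which differ on `A` only is irreducible or has no real constituent. -/
theorem irr_or_no_real (hf : Cfsg.IsCharacter X f) (hA : Controls D A)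
    (hone : ∀ ψ : Cfsg.IrrCharacter D, Cfsg.classInner (fun x : D => f x) ψ ≠ 0 →
      Cfsg.classInner (fun x : D => f x) ψ = 1 ∧ ∃ x, conj ((ψ : D → ℂ) x) ≠ (ψ : D → ℂ) x)
    (hoff : ∀ ψ φ : Cfsg.IrrCharacter D, Cfsg.classInner (fun x : D => f x) ψ ≠ 0 →
      Cfsg.classInner (fun x : D => f x) φ ≠ 0 → ∀ x : D, (x : X) ∉ A → (ψ : D → ℂ) x = (φ : D → ℂ) x)
    (h1A : (1 : X) ∉ A) :
    Cfsg.classInner f f = 1 ∨ ∀ χ : Cfsg.IrrCharacter X, Cfsg.classInner f χ ≠ 0 →
      ∃ g, conj ((χ : X → ℂ) g) ≠ (χ : X → ℂ) g := by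
  classical
  refine or_iff_not_imp_right.2 fun hcon => ?_
  simp only [not_forall, not_exists, not_not] at hcon
  obtain ⟨χ, hχ0, hχr⟩ := hcon
  obtain ⟨n, hn⟩ := IsCharacter.exists_decomp hf
  have hnc : ∀ ξ : Cfsg.IrrCharacter X, Cfsg.classInner f ξ = n ξ := fun ξ => by
    rw [hn, classInner_combination]
  have hres : ∀ ξ : Cfsg.IrrCharacter X, Cfsg.IsCharacter D (fun x : D => (ξ : X → ℂ) x) :=
    fun ξ => IsCharacter.restrict (IsIrrCharacter.isCharacter ξ.2) D
  choose k hk using fun (ξ : Cfsg.IrrCharacter X) (ψ : Cfsg.IrrCharacter D) =>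
    IsCharacter.exists_classInner_nat (hres ξ) (IsIrrCharacter.isCharacter ψ.2)
  have hfres : (fun x : D => f x) = ∑ ξ, (n ξ : ℂ) • (fun x : D => (ξ : X → ℂ) x) := by
    funext x
    rw [hn]
    simp
  have htot : ∀ ψ : Cfsg.IrrCharacter D, Cfsg.classInner (fun x : D => f x) ψ = ((∑ ξ, n ξ * k ξ ψ : ℕ) : ℂ) := fun ψ => by
    rw [hfres, classInner_sum_left, Nat.cast_sum]
    exact Finset.sum_congr rfl fun ξ _ => by rw [classInner_smul_left, hk, Nat.cast_mul]
  have hS : ∀ (ξ : Cfsg.IrrCharacter X) (ψ : Cfsg.IrrCharacter D), n ξ ≠ 0 → k ξ ψ ≠ 0 → Cfsg.classInner (fun x : D => f x) ψ ≠ 0 := by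
    intro ξ ψ hξ hψ
    rw [htot, Nat.cast_ne_zero]
    intro h0
    rcases mul_eq_zero.1 (Finset.sum_eq_zero_iff.1 h0 ξ (Finset.mem_univ ξ)) with h | h
    exacts [hξ h, hψ h]
  have hle : ∀ (ξ : Cfsg.IrrCharacter X) (ψ : Cfsg.IrrCharacter D), n ξ ≠ 0 → k ξ ψ ≠ 0 → ∑ η, n η * k η ψ = 1 := by
    intro ξ ψ hξ hψ
    have h := (hone ψ (hS ξ ψ hξ hψ)).1
    rw [htot] at h
    exact_mod_cast h
  have hcons : ∀ ξ : Cfsg.IrrCharacter X, ∃ ψ, k ξ ψ ≠ 0 := by
    intro ξ
    by_contra hno
    push Not at hno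
    have h0 : (fun x : D => (ξ : X → ℂ) x) = 0 := by
      rw [IsCharacter.eq_sum (hres ξ)]
      simp [hk, hno]
    exact IsIrrCharacter.one_ne_zero ξ.2 (congrFun h0 1)
  have hχn : n χ ≠ 0 := fun e => hχ0 (by rw [hnc, e, Nat.cast_zero])
  -- the constituents on `D` of `χ` are all those of `f`
  have hall : ∀ ψ : Cfsg.IrrCharacter D, Cfsg.classInner (fun x : D => f x) ψ ≠ 0 → k χ ψ ≠ 0 := by
    by_contra hsome
    simp only [not_forall, not_not] at hsome
    obtain ⟨p, hp, hpk⟩ := hsome
    obtain ⟨o, ho⟩ := hcons χ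
    have hoS := hS χ o hχn ho
    have ho1 : k χ o = 1 := by
      have h := Finset.single_le_sum (fun η _ => Nat.zero_le (n η * k η o)) (Finset.mem_univ χ)
      rw [hle χ o hχn ho] at h
      have h1 : 1 ≤ n χ * k χ o := Nat.one_le_iff_ne_zero.2 (mul_ne_zero hχn ho)
      exact Nat.eq_one_of_mul_eq_one_left (le_antisymm h h1)
    -- complex conjugates
    let o' : Cfsg.IrrCharacter D := ⟨_, IsIrrCharacter.conj o.2⟩
    let p' : Cfsg.IrrCharacter D := ⟨_, IsIrrCharacter.conj p.2⟩
    have hkconj : ∀ ψ : Cfsg.IrrCharacter D, k χ ⟨_, IsIrrCharacter.conj ψ.2⟩ = k χ ψ := by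
      intro ψ
      have h : conj (Cfsg.classInner (fun x : D => (χ : X → ℂ) x) ψ) =
          Cfsg.classInner (fun x : D => (χ : X → ℂ) x) (fun x => conj ((ψ : D → ℂ) x)) := by
        simp only [Cfsg.classInner, map_mul, map_inv₀, map_natCast, map_sum, hχr]
      have h2 := hk χ ⟨_, IsIrrCharacter.conj ψ.2⟩
      rw [← h, hk χ ψ, map_natCast] at h2
      exact_mod_cast h2.symm
    have hop : o ≠ p := fun e => ho (e ▸ hpk)
    have hoo : o ≠ o' := fun e => by
      obtain ⟨x, hx⟩ := (hone o hoS).2
      exact hx (congrFun (congrArg Subtype.val e) x).symm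
    have hpp : p ≠ p' := fun e => by
      obtain ⟨x, hx⟩ := (hone p hp).2
      exact hx (congrFun (congrArg Subtype.val e) x).symm
    have hop' : o ≠ p' := fun e => ho (by rw [e, hkconj, hpk])
    have hpo' : p ≠ o' := fun e => ho ((hkconj o).symm.trans ((congrArg (k χ) e).symm.trans hpk))
    set θ : D → ℂ := (o : D → ℂ) - (p : D → ℂ) with hθ
    set θ' : D → ℂ := fun x => conj (θ x) with hθ'
    have hθ'e : θ' = (o' : D → ℂ) - (p' : D → ℂ) := by
      funext x
      simp [hθ', hθ, o', p']
    have hθA : ∀ x : D, (x : X) ∉ A → θ x = 0 := fun x hx => by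
      rw [hθ, Pi.sub_apply, hoff o p hoS hp x hx, sub_self]
    have hθ'A : ∀ x : D, (x : X) ∉ A → θ' x = 0 := fun x hx => by
      simp only [hθ', hθA x hx, map_zero]
    have hcl : Cfsg.IsClassFunction D θ :=
      IsClassFunction.sub (IsCharacter.isClassFunction (IsIrrCharacter.isCharacter o.2))
        (IsCharacter.isClassFunction (IsIrrCharacter.isCharacter p.2))
    have hcl' : Cfsg.IsClassFunction D θ' := by
      rw [hθ'e]
      exact IsClassFunction.sub (IsCharacter.isClassFunction (IsIrrCharacter.isCharacter o'.2))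
        (IsCharacter.isClassFunction (IsIrrCharacter.isCharacter p'.2))
    set Γ := Cfsg.indFun D θ with hΓ
    have hgen : Cfsg.IsGeneralizedCharacter X Γ :=
      IsGeneralizedCharacter.indFun D ⟨_, _, IsIrrCharacter.isCharacter o.2, IsIrrCharacter.isCharacter p.2, rfl⟩
    have hΓ1 : Γ 1 = 0 := by
      rw [hΓ, indFun_one_apply, hθA 1 (by rw [Subgroup.coe_one]; exact h1A), mul_zero]
    have hirr : ∀ {ψ φ : Cfsg.IrrCharacter D}, ψ ≠ φ → Cfsg.classInner (ψ : D → ℂ) φ = 0 :=
      fun {ψ φ} h => classInner_irr_of_ne ψ.2 φ.2 fun e => h (Subtype.ext e)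
    have hΓ2 : Cfsg.classInner Γ Γ = 2 := by
      rw [hΓ, classInner_indFun hA θ θ hcl hθA hθA, hθ, classInner_sub_left, classInner_sub_right,
        classInner_sub_right, classInner_self_irr o.2, classInner_self_irr p.2, hirr hop, hirr hop.symm]
      norm_num
    have hΓΓ : Cfsg.classInner Γ (fun g => conj (Γ g)) = 0 := by
      rw [show (fun g => conj (Γ g)) = Cfsg.indFun D θ' from funext fun g => conj_indFun_eq D θ g,
        hΓ, classInner_indFun hA θ θ' hcl' hθA hθ'A, hθ, hθ'e, classInner_sub_left, classInner_sub_right,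
        classInner_sub_right, hirr hoo, hirr hop', hirr hpo', hirr hpp]
      norm_num
    obtain ⟨μ, ν, hμν, hΓe⟩ := IsGeneralizedCharacter.of_norm_two hgen hΓ2 hΓ1
    have hΓχ : Cfsg.classInner Γ χ = 1 := by
      rw [hΓ, classInner_indFun_left D θ (IsCharacter.isClassFunction (IsIrrCharacter.isCharacter χ.2)),
        hθ, classInner_sub_left, classInner_comm_of_isCharacter (IsIrrCharacter.isCharacter o.2) (hres χ),
        classInner_comm_of_isCharacter (IsIrrCharacter.isCharacter p.2) (hres χ), hk, hk, ho1, hpk]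
      norm_num
    have hμ : μ = χ := by
      by_contra hne
      rw [hΓe, classInner_sub_left, classInner_irr_of_ne μ.2 χ.2 fun e => hne (Subtype.ext e),
        classInner_irr ν.2 χ.2] at hΓχ
      split_ifs at hΓχ <;> norm_num at hΓχ
    subst hμ
    let ν' : Cfsg.IrrCharacter X := ⟨_, IsIrrCharacter.conj ν.2⟩
    have hconj : (fun g => conj (Γ g)) = (μ : X → ℂ) - (ν' : X → ℂ) := by
      funext g
      simp [hΓe, ν', hχr g]
    have hμν' : (μ : X → ℂ) ≠ ν' := fun e => hμν (Subtype.ext (funext fun g => by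
      have h := congrArg conj (congrFun e g)
      simpa [ν', hχr g] using h))
    rw [hconj, hΓe, classInner_sub_left, classInner_sub_right, classInner_sub_right,
      classInner_self_irr μ.2, classInner_irr_of_ne μ.2 ν'.2 hμν',
      classInner_irr_of_ne ν.2 μ.2 fun e => hμν (Subtype.ext e).symm, classInner_irr ν.2 ν'.2] at hΓΓ
    split_ifs at hΓΓ <;> norm_num at hΓΓ
  -- so `f = χ`
  have hsingle : ∀ ξ, ξ ≠ χ → n ξ = 0 := by
    intro ξ hne
    by_contra hξ
    obtain ⟨ψ, hψ⟩ := hcons ξ
    have h1 := hle ξ ψ hξ hψ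
    have hsub := Finset.sum_le_sum_of_subset (f := fun η => n η * k η ψ) (Finset.subset_univ {ξ, χ})
    rw [Finset.sum_pair hne, h1] at hsub
    have h2 := Nat.one_le_iff_ne_zero.2 (mul_ne_zero hξ hψ)
    have h3 := Nat.one_le_iff_ne_zero.2 (mul_ne_zero hχn (hall ψ (hS ξ ψ hξ hψ)))
    omega
  obtain ⟨o, ho⟩ := hcons χ
  have hχ1 : n χ = 1 := by
    have h := hle χ o hχn ho
    rw [Finset.sum_eq_single χ (fun η _ hne => by rw [hsingle η hne, zero_mul])
      (fun h => absurd (Finset.mem_univ _) h)] at h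
    exact Nat.eq_one_of_mul_eq_one_right h
  have hfχ : f = (χ : X → ℂ) := by
    rw [hn, Finset.sum_eq_single χ (fun η _ hne => by rw [hsingle η hne, Nat.cast_zero, zero_smul])
      (fun h => absurd (Finset.mem_univ _) h), hχ1, Nat.cast_one, one_smul]
  rw [hfχ, classInner_self_irr χ.2]

end Kind

section Perm

variable {X : Type u} [Group X] [Fintype X] {Ω : Type v} [Fintype Ω] [MulAction X Ω]
  [MulAction.IsPretransitive X Ω]

/-- The permutation character without the principal constituent. -/
theorem isCharacter_permChar_sub [Nonempty Ω] :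
    Cfsg.IsCharacter X (permChar X Ω - fun _ => 1) := by
  refine isCharacter_of_classInner
    (IsClassFunction.sub (IsCharacter.isClassFunction isCharacter_permChar)
      (IsCharacter.isClassFunction isCharacter_one)) fun ψ => ?_
  obtain ⟨m, hm⟩ := IsCharacter.exists_classInner_nat (isCharacter_permChar (G := X) (Ω := Ω))
    (IsIrrCharacter.isCharacter ψ.2)
  by_cases hψ : (ψ : X → ℂ) = fun _ => 1
  · refine ⟨0, ?_⟩
    rw [classInner_sub_left, hψ, classInner_permChar_one, classInner_self_irr isIrrCharacter_one]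
    norm_num
  · exact ⟨m, by rw [classInner_sub_left, hm, classInner_irr_of_ne isIrrCharacter_one ψ.2 (Ne.symm hψ), sub_zero]⟩

/-- Without real non-principal constituents no two points are swapped. -/
theorem no_swap_of_no_real [Nonempty Ω]
    (h : ∀ χ : Cfsg.IrrCharacter X, Cfsg.classInner (permChar X Ω - fun _ => 1) χ ≠ 0 →
      ∃ g, conj ((χ : X → ℂ) g) ≠ (χ : X → ℂ) g)
    (g : X) (p q : Ω) (hpq : g • p = q) (hqp : g • q = p) : p = q := by
  classical
  have hf := isCharacter_permChar_sub (X := X) (Ω := Ω)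
  have hsum : ∑ y : X, (permChar X Ω - fun _ => 1 : X → ℂ) (y * y) = 0 := by
    rw [IsCharacter.eq_sum hf]
    simp only [Finset.sum_apply, Pi.smul_apply, smul_eq_mul]
    rw [Finset.sum_comm]
    refine Finset.sum_eq_zero fun χ _ => ?_
    rw [← Finset.mul_sum]
    by_cases hc : Cfsg.classInner (permChar X Ω - fun _ => 1) χ = 0
    · rw [hc, zero_mul]
    · rcases FSchur.irr_indicator χ with ⟨-, h0⟩ | ⟨hr, -⟩
      · rw [(mul_eq_zero.1 h0).resolve_left (inv_ne_zero (Nat.cast_ne_zero.2 Nat.card_pos.ne')), mul_zero]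
      · obtain ⟨y, hy⟩ := h χ hc
        exact absurd (hr y) hy
  simp only [Pi.sub_apply, Finset.sum_sub_distrib, Finset.sum_const, Finset.card_univ, nsmul_eq_mul,
    mul_one, sub_eq_zero, permChar] at hsum
  have hnat : ∑ y : X, Nat.card (MulAction.fixedBy Ω (y * y)) = Fintype.card X := by exact_mod_cast hsum
  have horb : ∑ y : X, Nat.card (MulAction.fixedBy Ω y) = Fintype.card X := by
    rw [sum_natCard_fixedBy, ← Nat.card_eq_fintype_card]
    haveI : Subsingleton (Quotient (MulAction.orbitRel X Ω)) := ⟨fun a b => by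
      induction a using Quotient.inductionOn with
      | h x =>
        induction b using Quotient.inductionOn with
        | h y => exact Quotient.sound (MulAction.exists_smul_eq X y x)⟩
    haveI : Nonempty (Quotient (MulAction.orbitRel X Ω)) := ⟨⟦Classical.arbitrary Ω⟧⟩
    rw [Nat.card_eq_one_iff_unique.2 ⟨inferInstance, inferInstance⟩, one_mul]
  have hle : ∀ y : X, MulAction.fixedBy Ω y ⊆ MulAction.fixedBy Ω (y * y) := fun y x hx => by
    rw [MulAction.mem_fixedBy] at hx ⊢
    rw [mul_smul, hx, hx]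
  have hcard : ∀ y : X, Nat.card (MulAction.fixedBy Ω y) ≤ Nat.card (MulAction.fixedBy Ω (y * y)) :=
    fun y => Nat.card_mono (Set.toFinite _) (hle y)
  have heq := (Finset.sum_eq_sum_iff_of_le fun y _ => hcard y).1 (horb.trans hnat.symm) g (Finset.mem_univ g)
  have hset : MulAction.fixedBy Ω g = MulAction.fixedBy Ω (g * g) :=
    Set.eq_of_subset_of_ncard_le (hle g) (by rw [← Nat.card_coe_set_eq, ← Nat.card_coe_set_eq, heq])
  have hp : p ∈ MulAction.fixedBy Ω (g * g) := by rw [MulAction.mem_fixedBy, mul_smul, hpq, hqp]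
  rw [← hset, MulAction.mem_fixedBy, hpq] at hp
  exact hp.symm

/-- An irreducible remainder means that a point stabiliser moves any other point to any other. -/
theorem trans_of_norm_one (a : Ω) (h : Cfsg.classInner (permChar X Ω - fun _ => 1) (permChar X Ω - fun _ => 1) = 1)
    {p q : Ω} (hp : p ≠ a) (hq : q ≠ a) : ∃ g : X, g • a = a ∧ g • p = q := by
  haveI : Nonempty Ω := ⟨a⟩
  have h1 := classInner_comm_of_isCharacter (isCharacter_permChar (G := X) (Ω := Ω)) isCharacter_one
  rw [classInner_sub_left, classInner_sub_right, classInner_sub_right, classInner_permChar_one,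
    ← h1, classInner_permChar_one, classInner_self_irr isIrrCharacter_one, classInner_permChar_self a] at h
  have h2 : (Nat.card (MulAction.orbitRel.Quotient (MulAction.stabilizer X a) Ω) : ℂ) = (2 : ℕ) := by
    push_cast; linear_combination h
  obtain ⟨g, hg⟩ := (card_orbits_eq_two (fun x : Ω => x = a) (a := a) (b := p)
    (fun g x => ⟨fun e => by rw [← inv_smul_smul (g : X) x, show ((g : X) • x : Ω) = a from e]
                             exact inv_smul_eq_iff.2 g.2.symm,
      fun e => by subst e; exact g.2⟩) rfl hp).1 (Nat.cast_injective h2) p q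
    ⟨fun e => absurd e hp, fun e => absurd e hq⟩
  exact ⟨g, g.2, hg⟩

end Perm

section Frobenius

/-- The irreducible characters of a finite commutative group are homomorphisms. -/
theorem exists_hom_of_comm {T : Type u} [Group T] [Finite T] (hab : ∀ x y : T, x * y = y * x)
    (ξ : Cfsg.IrrCharacter T) : ∃ l : T →* ℂˣ, (ξ : T → ℂ) = fun t => (l t : ℂ) := by
  classical
  haveI := Fintype.ofFinite T
  have hcard : Nat.card (Cfsg.IrrCharacter T) = Nat.card T := by
    rw [card_irrCharacter]
    refine (Nat.card_eq_of_bijective ConjClasses.mk ⟨fun x y h => ?_, ConjClasses.mk_surjective⟩).symm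
    obtain ⟨c, hc⟩ := isConj_iff.1 (ConjClasses.mk_eq_mk_iff_isConj.1 h)
    rwa [hab c x, mul_inv_cancel_right] at hc
  have hlin : Nat.card {χ : Cfsg.IrrCharacter T // (χ : T → ℂ) 1 = 1} = Nat.card T := by
    rw [card_linear, show commutator T = ⊥ by
      rw [commutator_def, eq_bot_iff, Subgroup.commutator_le]
      intro x _ y _
      rw [Subgroup.mem_bot, commutatorElement_eq_one_iff_mul_comm]
      exact hab x y, Subgroup.index_bot]
  haveI : Finite (Cfsg.IrrCharacter T) := Nat.finite_of_card_ne_zero (by rw [hcard]; exact Nat.card_pos.ne')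
  haveI : Finite {χ : Cfsg.IrrCharacter T // (χ : T → ℂ) 1 = 1} := Subtype.finite
  obtain ⟨⟨η, hη⟩, e⟩ := ((Nat.bijective_iff_injective_and_card
    (Subtype.val : {χ : Cfsg.IrrCharacter T // (χ : T → ℂ) 1 = 1} → Cfsg.IrrCharacter T)).2
      ⟨Subtype.val_injective, hlin.trans hcard.symm⟩).2 ξ
  subst e
  exact exists_hom_of_degree_one (IsIrrCharacter.isCharacter η.2) hη

/-- A group with a subgroup `D` of odd order and an abelian normal subgroup `T` of `D`, regular on the points,
without centralisers in `D` outside `T` and controlled by `D`, is transitive on the other points or swaps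
no two of them. -/
theorem trans_or_no_swap {X : Type u} [Group X] [Fintype X] {Ω : Type v} [Fintype Ω] [MulAction X Ω] (a : Ω)
    {D T : Subgroup X} (hTD : T ≤ D) (hDodd : Odd (Nat.card D))
    (hn : ∀ d ∈ D, ∀ x ∈ T, d * x * d⁻¹ ∈ T) (hab : ∀ x ∈ T, ∀ y ∈ T, x * y = y * x)
    (hfix : ∀ d ∈ D, d ∉ T → ∀ x ∈ T, d * x = x * d → x = 1)
    (hctrl : ∀ g : X, ∀ x ∈ T, x ≠ 1 → g * x * g⁻¹ ∈ T → g ∈ D)
    (hfree : ∀ x ∈ T, x ≠ 1 → ∀ p : Ω, x • p ≠ p) (htr : ∀ p : Ω, ∃ x ∈ T, x • a = p) :
    (∀ p q : Ω, p ≠ a → q ≠ a → ∃ g : X, g • a = a ∧ g • p = q) ∨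
      (∀ (g : X) (p q : Ω), g • p = q → g • q = p → p = q) := by
  classical
  haveI : Nonempty Ω := ⟨a⟩
  haveI : MulAction.IsPretransitive X Ω := ⟨fun p q => by
    obtain ⟨x, -, hx⟩ := htr p
    obtain ⟨y, -, hy⟩ := htr q
    exact ⟨y * x⁻¹, by rw [mul_smul, ← hx, inv_smul_smul, hy]⟩⟩
  haveI := Fintype.ofFinite D
  set N : Subgroup D := T.subgroupOf D with hN
  haveI : N.Normal := ⟨fun x hx d => by
    rw [hN, Subgroup.mem_subgroupOf] at hx ⊢
    exact hn d d.2 x hx⟩
  haveI := Fintype.ofFinite N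
  have hNcard : Nat.card N = Fintype.card Ω := by
    rw [hN, Nat.card_congr (Subgroup.subgroupOfEquivOfLe hTD).toEquiv, ← Nat.card_eq_fintype_card]
    refine Nat.card_eq_of_bijective (fun x : T => (x : X) • a) ⟨fun x y e => ?_, fun p => ?_⟩
    · by_contra hne
      refine hfree _ (T.mul_mem (T.inv_mem y.2) x.2) (fun h => hne (Subtype.ext (inv_mul_eq_one.1 h).symm)) a ?_
      rw [mul_smul]
      exact inv_smul_eq_iff.2 e
    · obtain ⟨x, hx, hxa⟩ := htr p
      exact ⟨⟨x, hx⟩, hxa⟩
  set f : X → ℂ := permChar X Ω - fun _ => 1 with hfdef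
  have hf : Cfsg.IsCharacter X f := isCharacter_permChar_sub
  set fD : D → ℂ := fun x => f x with hfD
  set fN : N → ℂ := fun x => fD x with hfN
  have hfDc : Cfsg.IsCharacter D fD := IsCharacter.restrict hf D
  have hfN_eq : fN = (fun x : N => if x = 1 then (Nat.card N : ℂ) else 0) - fun _ => 1 := by
    funext x
    simp only [hfN, hfD, hfdef, Pi.sub_apply, permChar]
    congr 1
    split_ifs with hx
    · subst hx
      rw [hNcard, Nat.cast_inj, ← Nat.card_eq_fintype_card]
      exact Nat.card_congr ⟨Subtype.val, fun p => ⟨p, by rw [MulAction.mem_fixedBy]; exact one_smul X p⟩,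
        fun _ => rfl, fun _ => rfl⟩
    · haveI : IsEmpty (MulAction.fixedBy Ω ((x : D) : X)) := ⟨fun p => hfree _ (Subgroup.mem_subgroupOf.1 x.2)
        (fun h => hx (Subtype.ext (Subtype.ext h))) p p.2⟩
      rw [Nat.card_of_isEmpty, Nat.cast_zero]
  have hinner : ∀ l : N →* ℂˣ, Cfsg.classInner fN (fun t => (l t : ℂ)) = if l = 1 then 0 else 1 := by
    intro l
    have hδ : Cfsg.classInner (fun x : N => if x = 1 then (Nat.card N : ℂ) else 0) (fun t => (l t : ℂ)) = 1 := by
      simp only [Cfsg.classInner, ite_mul, zero_mul, Finset.sum_ite_eq', Finset.mem_univ, if_true]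
      rw [map_one, Units.val_one, map_one, mul_one, inv_mul_cancel₀ (Nat.cast_ne_zero.2 Nat.card_pos.ne')]
    rw [hfN_eq, classInner_sub_left, hδ]
    split_ifs with hl
    · subst hl
      have h1 : (fun t : N => (((1 : N →* ℂˣ) t : ℂˣ) : ℂ)) = fun _ => (1 : ℂ) := funext fun t => by simp
      rw [h1, classInner_self_irr isIrrCharacter_one, sub_self]
    · rw [classInner_irr_of_ne isIrrCharacter_one (isIrrCharacter_linear l) fun e => hl (MonoidHom.ext fun t =>
        Units.ext (by simpa using (congrFun e t).symm)), sub_zero]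
  -- the constituents on `D`
  have hkey : ∀ ψ : Cfsg.IrrCharacter D, Cfsg.classInner fD ψ ≠ 0 → ∃ l : N →* ℂˣ, l ≠ 1 ∧
      (ψ : D → ℂ) = Cfsg.indFun N (fun t => (l t : ℂ)) ∧
      Cfsg.classInner (Cfsg.indFun N fun t => (l t : ℂ)) (Cfsg.indFun N fun t => (l t : ℂ)) = 1 := by
    intro ψ hψ
    have hψN : Cfsg.IsCharacter N (fun t : N => (ψ : D → ℂ) t) :=
      IsCharacter.restrict (IsIrrCharacter.isCharacter ψ.2) N
    obtain ⟨ξ, hξ⟩ := IsCharacter.exists_constituent hψN fun h0 =>
      IsIrrCharacter.one_ne_zero ψ.2 (congrFun h0 1)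
    have hcomm : ∀ x y : N, x * y = y * x := fun x y => Subtype.ext (Subtype.ext
      (hab _ (Subgroup.mem_subgroupOf.1 x.2) _ (Subgroup.mem_subgroupOf.1 y.2)))
    obtain ⟨l, hl⟩ := exists_hom_of_comm hcomm ξ
    obtain ⟨c, hc⟩ := IsCharacter.exists_decomp hfDc
    have hcψ : c ψ ≠ 0 := fun e => hψ (by rw [hc, classInner_combination, e, Nat.cast_zero])
    choose e he using fun η : Cfsg.IrrCharacter D => IsCharacter.exists_classInner_nat
      (IsCharacter.restrict (IsIrrCharacter.isCharacter η.2) N) (IsIrrCharacter.isCharacter ξ.2)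
    have hfξ : Cfsg.classInner fN ξ = ((∑ η, c η * e η : ℕ) : ℂ) := by
      have hres : fN = ∑ η, (c η : ℂ) • (fun t : N => (η : D → ℂ) t) := by
        funext t; simp [hfN, hc]
      rw [hres, classInner_sum_left, Nat.cast_sum]
      exact Finset.sum_congr rfl fun η _ => by rw [classInner_smul_left, he, Nat.cast_mul]
    have hl1 : l ≠ 1 := by
      intro h1
      rw [hl, hinner l, if_pos h1, eq_comm, Nat.cast_eq_zero] at hfξ
      have h0 := Finset.sum_eq_zero_iff.1 hfξ ψ (Finset.mem_univ ψ)
      exact mul_ne_zero hcψ (fun h => hξ (by rw [he, h, Nat.cast_zero])) h0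
    set lf : N → ℂ := fun t => (l t : ℂ) with hlf
    have hθ : Cfsg.IsCharacter D (Cfsg.indFun N lf) :=
      isCharacter_indFun N (IsIrrCharacter.isCharacter (isIrrCharacter_linear l))
    have hnorm : Cfsg.classInner (Cfsg.indFun N lf) (Cfsg.indFun N lf) = 1 := by
      rw [classInner_indFun_left N lf (isClassFunction_indFun N lf)]
      let cj : D → (N →* ℂˣ) := fun d => l.comp (MulAut.conjNormal d⁻¹).toMonoidHom
      have hres : (fun t : N => Cfsg.indFun N lf (t : D)) =
          (Nat.card N : ℂ)⁻¹ • ∑ d : D, (fun t : N => (cj d t : ℂ)) := by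
        funext t
        rw [indFun_apply, Pi.smul_apply, Finset.sum_apply, smul_eq_mul]
        congr 1
        refine Finset.sum_congr rfl fun d _ => ?_
        rw [extendByZero_mem N lf (by simpa using Subgroup.Normal.conj_mem ‹N.Normal› (t : D) t.2 d⁻¹)]
        simp only [hlf, cj, MonoidHom.comp_apply]
        congr 2
        exact Subtype.ext (by simp)
      have hcj : ∀ d : D, cj d = l ↔ d ∈ N := by
        intro d
        constructor
        · intro h
          by_contra hd
          let φ : N →* N :=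
            { toFun := fun t => MulAut.conjNormal d⁻¹ t * t⁻¹
              map_one' := by simp
              map_mul' := fun x y => by
                rw [map_mul, mul_inv_rev, hcomm y⁻¹ x⁻¹]
                simp only [mul_assoc]
                congr 1
                rw [← mul_assoc, hcomm (MulAut.conjNormal d⁻¹ y) x⁻¹, mul_assoc] }
          have hφ : Function.Injective φ := (injective_iff_map_eq_one φ).2 fun t ht => by
            have h2 : MulAut.conjNormal d⁻¹ t = t := mul_inv_eq_one.1 ht
            have h3 := congrArg (fun z : N => ((z : D) : X)) h2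
            simp only [MulAut.conjNormal_apply, inv_inv, Subgroup.coe_mul, Subgroup.coe_inv] at h3
            refine Subtype.ext (Subtype.ext (hfix _ d.2 (fun h => hd (Subgroup.mem_subgroupOf.2 h)) _
              (Subgroup.mem_subgroupOf.1 t.2) ?_))
            calc (d : X) * ((t : D) : X) = (d : X) * ((d : X)⁻¹ * ((t : D) : X) * (d : X)) := by rw [h3]
              _ = ((t : D) : X) * (d : X) := by group
          refine hl1 (MonoidHom.ext fun t => ?_)
          obtain ⟨x, rfl⟩ := (Finite.injective_iff_surjective.1 hφ) t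
          show l (MulAut.conjNormal d⁻¹ x * x⁻¹) = 1
          rw [map_mul, show l (MulAut.conjNormal d⁻¹ x) = l x from DFunLike.congr_fun h x, map_inv,
            mul_inv_cancel]
        · intro hd
          refine MonoidHom.ext fun t => congrArg l (Subtype.ext ?_)
          show ((MulAut.conjNormal d⁻¹ t : N) : D) = t
          rw [MulAut.conjNormal_apply, inv_inv, mul_assoc, show (t : D) * d = d * t from
            congrArg Subtype.val (hcomm t ⟨d, hd⟩), inv_mul_cancel_left]
      rw [hres, classInner_smul_right, classInner_sum_right, map_inv₀, map_natCast]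
      have hterm : ∀ d : D, Cfsg.classInner lf (fun t : N => (cj d t : ℂ)) = if d ∈ N then 1 else 0 := by
        intro d
        split_ifs with hd
        · rw [(hcj d).2 hd, classInner_self_irr (isIrrCharacter_linear l)]
        · exact classInner_irr_of_ne (isIrrCharacter_linear l) (isIrrCharacter_linear (cj d)) fun e =>
            hd ((hcj d).1 (MonoidHom.ext fun t => Units.ext (congrFun e t).symm))
      rw [Finset.sum_congr rfl fun d _ => hterm d, Finset.sum_boole, ← Fintype.card_subtype,
        ← Nat.card_eq_fintype_card, inv_mul_cancel₀ (Nat.cast_ne_zero.2 Nat.card_pos.ne')]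
    have hirr := IsCharacter.isIrr_of_norm_one hθ hnorm
    refine ⟨l, hl1, ?_, hnorm⟩
    by_contra hne
    refine hξ ?_
    rw [hl, ← classInner_conj_symm, ← classInner_indFun_left N lf
      (IsCharacter.isClassFunction (IsIrrCharacter.isCharacter ψ.2)),
      classInner_irr_of_ne hirr ψ.2 (Ne.symm hne), map_zero]
  have hA : Controls D {x | x ∈ T ∧ x ≠ 1} := fun g x hx hgx => hctrl g x hx.1 hx.2 hgx.1
  have hor : Cfsg.classInner f f = 1 ∨ ∀ χ : Cfsg.IrrCharacter X, Cfsg.classInner f χ ≠ 0 →
      ∃ g, conj ((χ : X → ℂ) g) ≠ (χ : X → ℂ) g := by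
    refine irr_or_no_real hf hA (fun ψ hψ => ?_) (fun ψ φ hψ hφ x hx => ?_) fun h => h.2 rfl
    · obtain ⟨l, hl1, hψe, hnorm⟩ := hkey ψ hψ
      refine ⟨?_, ?_⟩
      · show Cfsg.classInner fD ψ = 1
        rw [← classInner_conj_symm, hψe, classInner_indFun_left N _ (IsCharacter.isClassFunction hfDc),
          ← classInner_conj_symm, Complex.conj_conj]
        rw [show (fun h : N => fD h) = fN from rfl, hinner l, if_neg hl1]
      · by_contra hreal
        push Not at hreal
        set lf : N → ℂ := fun t => (l t : ℂ) with hlf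
        -- some conjugate of `l` is its inverse
        obtain ⟨d, hd⟩ : ∃ d : D, ∀ t : N, (l (MulAut.conjNormal d⁻¹ t))⁻¹ = l t := by
          by_contra hno
          push Not at hno
          refine one_ne_zero (α := ℂ) ?_
          rw [← hnorm]
          conv_lhs => arg 2; rw [show Cfsg.indFun N lf = fun x => conj (Cfsg.indFun N lf x) from
            funext fun x => by rw [← hψe, hreal x]]
          rw [show (fun x => conj (Cfsg.indFun N lf x)) = Cfsg.indFun N (fun t => conj (lf t)) from
            funext fun x => conj_indFun_eq N lf x, classInner_indFun_left N lf (isClassFunction_indFun N _)]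
          have hres : (fun t : N => Cfsg.indFun N (fun t => conj (lf t)) (t : D)) =
              (Nat.card N : ℂ)⁻¹ •
                ∑ d : D, (fun t : N => ((l.comp (MulAut.conjNormal d⁻¹).toMonoidHom)⁻¹ t : ℂ)) := by
            funext t
            rw [indFun_apply, Pi.smul_apply, Finset.sum_apply, smul_eq_mul]
            congr 1
            refine Finset.sum_congr rfl fun d _ => ?_
            rw [extendByZero_mem N _ (by simpa using Subgroup.Normal.conj_mem ‹N.Normal› (t : D) t.2 d⁻¹)]
            simp only [hlf, MonoidHom.inv_apply, MonoidHom.comp_apply, Units.val_inv_eq_inv_val]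
            rw [← Complex.inv_eq_conj (norm_eq_one_of_pow Fintype.card_ne_zero (by
              rw [← Units.val_pow_eq_pow_val, ← map_pow, pow_card_eq_one, map_one, Units.val_one]))]
            congr 3
            exact Subtype.ext (by simp)
          rw [hres, classInner_smul_right, classInner_sum_right, Finset.sum_eq_zero fun d _ => ?_, mul_zero]
          refine classInner_irr_of_ne (isIrrCharacter_linear l) (isIrrCharacter_linear _) fun e => ?_
          obtain ⟨t, ht⟩ := hno d
          exact ht (Units.ext (congrFun e t).symm)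
        have hdd : ∀ t : N, l (MulAut.conjNormal (d * d)⁻¹ t) = l t := fun t => by
          rw [mul_inv_rev, map_mul, MulAut.mul_apply, ← inv_inj, hd, ← inv_inv (l (MulAut.conjNormal d⁻¹ t)), hd]
        have hconjN : ∀ y : D, (∀ t : N, l (MulAut.conjNormal y⁻¹ t) = l t) → y ∈ N := by
          intro y hy
          by_contra hyN
          have hcomm : ∀ x z : N, x * z = z * x := fun x z => Subtype.ext (Subtype.ext
            (hab _ (Subgroup.mem_subgroupOf.1 x.2) _ (Subgroup.mem_subgroupOf.1 z.2)))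
          have hinj : Function.Injective fun t : N => MulAut.conjNormal y⁻¹ t * t⁻¹ := by
            intro s t hst
            simp only at hst
            have h1 : MulAut.conjNormal y⁻¹ (t⁻¹ * s) = t⁻¹ * s := by
              rw [map_mul, map_inv]
              calc (MulAut.conjNormal y⁻¹ t)⁻¹ * MulAut.conjNormal y⁻¹ s
                  = (MulAut.conjNormal y⁻¹ t)⁻¹ * (MulAut.conjNormal y⁻¹ s * s⁻¹) * s := by group
                _ = (MulAut.conjNormal y⁻¹ t)⁻¹ * (MulAut.conjNormal y⁻¹ t * t⁻¹) * s := by rw [hst]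
                _ = t⁻¹ * s := by group
            set w := t⁻¹ * s with hw
            have h3 := congrArg (fun z : N => ((z : D) : X)) h1
            simp only [MulAut.conjNormal_apply, inv_inv, Subgroup.coe_mul, Subgroup.coe_inv] at h3
            have hw1 : ((w : D) : X) = 1 := hfix _ y.2 (fun h => hyN (Subgroup.mem_subgroupOf.2 h)) _
              (Subgroup.mem_subgroupOf.1 w.2) (by
                calc (y : X) * ((w : D) : X) = (y : X) * ((y : X)⁻¹ * ((w : D) : X) * (y : X)) := by rw [h3]
                  _ = ((w : D) : X) * (y : X) := by group)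
            exact (inv_mul_eq_one.1 (hw ▸ (Subtype.ext (Subtype.ext hw1) : w = 1))).symm
          refine hl1 (MonoidHom.ext fun t => ?_)
          obtain ⟨x, rfl⟩ := (Finite.injective_iff_surjective.1 hinj) t
          show l (MulAut.conjNormal y⁻¹ x * x⁻¹) = 1
          rw [map_mul, hy x, map_inv, mul_inv_cancel]
        have hdN : d ∈ N := by
          obtain ⟨j, hj⟩ : Odd (orderOf d) := hDodd.of_dvd_nat (orderOf_dvd_natCard d)
          have h : d = ((d * d) ^ (j + 1)) := by
            rw [← pow_two, ← pow_mul, show 2 * (j + 1) = orderOf d + 1 by omega, pow_succ, pow_orderOf_eq_one,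
              one_mul]
          rw [h]
          exact N.pow_mem (hconjN _ hdd) _
        refine hl1 (MonoidHom.ext fun t => ?_)
        have h2 : (l t)⁻¹ = l t := by
          have h := hd t
          rwa [show MulAut.conjNormal d⁻¹ t = t from Subtype.ext (by
            rw [MulAut.conjNormal_apply, inv_inv, mul_assoc, show (t : D) * d = d * t from Subtype.ext
              (hab _ (Subgroup.mem_subgroupOf.1 t.2) _ (Subgroup.mem_subgroupOf.1 hdN)), inv_mul_cancel_left])]
            at h
        obtain ⟨j, hj⟩ : Odd (orderOf t) :=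
          hDodd.of_dvd_nat ((orderOf_dvd_natCard t).trans (Subgroup.card_subgroup_dvd_card N))
        have h3 : l t ^ orderOf t = 1 := by rw [← map_pow, pow_orderOf_eq_one, map_one]
        rw [hj, pow_succ, pow_mul, pow_two, mul_eq_one_iff_eq_inv.2 h2.symm, one_pow, one_mul] at h3
        exact h3
    · obtain ⟨l, -, hle, -⟩ := hkey ψ hψ
      obtain ⟨l', -, hl'e, -⟩ := hkey φ hφ
      rw [hle, hl'e]
      by_cases hxN : x ∈ N
      · have hx1 : x = 1 := by
          by_contra h1
          exact hx ⟨Subgroup.mem_subgroupOf.1 hxN, fun h => h1 (Subtype.ext h)⟩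
        subst hx1
        rw [indFun_one_apply, indFun_one_apply, map_one, map_one]
      · rw [indFun_eq_zero_of_not_mem N _ hxN, indFun_eq_zero_of_not_mem N _ hxN]
  exact hor.imp (fun h p q hp hq => trans_of_norm_one a h hp hq) fun h => no_swap_of_no_real h

end Frobenius

section SE

variable {G : Type u} [Group G] [Finite G] {H : Subgroup G}

/-- The involutions of `H`. -/
abbrev InvolIn (H : Subgroup G) : Type u := {t : H // orderOf t = 2}

/-- Conjugation of the involutions of `H`. -/
instance : MulAction H (InvolIn H) where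
  smul g t := ⟨g * t.1 * g⁻¹, (Invol.order_conj g t.1).trans t.2⟩
  one_smul t := Subtype.ext (show (1 : H) * t.1 * 1⁻¹ = t.1 by simp)
  mul_smul g h t := Subtype.ext (show g * h * t.1 * (g * h)⁻¹ = g * (h * t.1 * h⁻¹) * g⁻¹ by group)

/-- The involutions commute if the two-point stabiliser has an abelian normal subgroup, regular on them,
semiregular outside the two points, without centralisers outside it; their centraliser then has odd
index unless `H` is doubly transitive on them. -/
theorem comm_of_frobenius (hH : Cfsg.IsStronglyEmbedded H) (hp : HasPair H) {b : G ⧸ H}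
    (hb : b ≠ SESolv.base H) {T : Subgroup G} (hTD : T ≤ SESolv.twoPt H b)
    (hn : ∀ d ∈ SESolv.twoPt H b, ∀ x ∈ T, d * x * d⁻¹ ∈ T) (hab : ∀ x ∈ T, ∀ y ∈ T, x * y = y * x)
    (hfix : ∀ d ∈ SESolv.twoPt H b, d ∉ T → ∀ x ∈ T, d * x = x * d → x = 1)
    (hsemi : ∀ x ∈ T, x ≠ 1 → ∀ p : G ⧸ H, x • p = p → p = SESolv.base H ∨ p = b)
    (hfree : ∀ x ∈ T, ∀ t ∈ H, orderOf t = 2 → x * t = t * x → x = 1)
    (htr : ∀ s t : G, s ∈ H → t ∈ H → orderOf s = 2 → orderOf t = 2 → ∃ x ∈ T, x * s * x⁻¹ = t) :
    (∀ s t : G, s ∈ H → t ∈ H → orderOf s = 2 → orderOf t = 2 → s * t = t * s) ∧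
      (Odd ((SERegular.invCent H).relIndex H) ∨
        ∀ s p q : InvolIn H, p ≠ s → q ≠ s → ∃ g : H, g • s = s ∧ g • p = q) := by
  classical
  haveI := Fintype.ofFinite H
  haveI := Fintype.ofFinite (InvolIn H)
  have hTH : T ≤ H := hTD.trans inf_le_left
  have htr' : ∀ s p : InvolIn H, ∃ x ∈ T.subgroupOf H, x • s = p := by
    intro s p
    obtain ⟨x, hx, he⟩ := htr (s.1 : G) (p.1 : G) s.1.2 p.1.2 (by rw [Subgroup.orderOf_coe]; exact s.2)
      (by rw [Subgroup.orderOf_coe]; exact p.2)
    exact ⟨⟨x, hTH hx⟩, Subgroup.mem_subgroupOf.2 hx, Subtype.ext (Subtype.ext he)⟩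
  have key : ∀ s : InvolIn H, (∀ p q : InvolIn H, p ≠ s → q ≠ s → ∃ g : H, g • s = s ∧ g • p = q) ∨
      (∀ (g : H) (p q : InvolIn H), g • p = q → g • q = p → p = q) := fun s =>
    trans_or_no_swap s (D := (SESolv.twoPt H b).subgroupOf H) (T := T.subgroupOf H)
      (Subgroup.comap_mono hTD)
      (by rw [Nat.card_congr (Subgroup.subgroupOfEquivOfLe (show SESolv.twoPt H b ≤ H from inf_le_left)).toEquiv]
          exact SESolv.twoPt_odd hH hb)
      (fun d hd x hx => Subgroup.mem_subgroupOf.2 (hn d hd x hx))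
      (fun x hx y hy => Subtype.ext (hab x hx y hy))
      (fun d hd hdT x hx e => Subtype.ext (hfix d hd (fun h => hdT (Subgroup.mem_subgroupOf.2 h)) x hx
        (congrArg Subtype.val e)))
      (fun g x hx hx1 hgx => by
        refine Subgroup.mem_subgroupOf.2 ⟨g.2, ?_⟩
        have h1 : ((g : G) * x * (g : G)⁻¹) • b = b := (hTD hgx).2
        have h2 : (x : G) • (g : G)⁻¹ • b = (g : G)⁻¹ • b := by
          rw [eq_inv_smul_iff, ← mul_smul, ← mul_smul]; exact h1
        have hga : (g : G) • SESolv.base H = SESolv.base H := SESolv.mem_stab_base.2 g.2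
        rcases hsemi _ hx (fun h => hx1 (Subtype.ext h)) _ h2 with e | e
        · rw [inv_smul_eq_iff, hga] at e; exact absurd e hb
        · exact (inv_smul_eq_iff.1 e).symm)
      (fun x hx hx1 p he => hx1 (Subtype.ext (hfree x hx (p.1 : G) p.1.2
        (by rw [Subgroup.orderOf_coe]; exact p.2)
        (mul_inv_eq_iff_eq_mul.1 (congrArg (fun z : InvolIn H => ((z.1 : H) : G)) he)))))
      (htr' s)
  by_cases hns : ∀ (g : H) (p q : InvolIn H), g • p = q → g • q = p → p = q
  · obtain ⟨h1, h2⟩ := stmt_of_no_swap (H := H) fun g hg s t hs ht hs2 ht2 hgs hgt =>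
      congrArg (fun z : InvolIn H => ((z.1 : H) : G))
        (hns ⟨g, hg⟩ ⟨⟨s, hs⟩, by rw [Subgroup.orderOf_mk]; exact hs2⟩
          ⟨⟨t, ht⟩, by rw [Subgroup.orderOf_mk]; exact ht2⟩ (Subtype.ext (Subtype.ext hgs))
          (Subtype.ext (Subtype.ext hgt)))
    exact ⟨h1, Or.inl h2⟩
  · have h2t := fun s => (key s).resolve_right hns
    refine ⟨fun s t hs ht hs2 ht2 => ?_, Or.inr h2t⟩
    by_cases hst : s = t
    · rw [hst]
    obtain ⟨s₀, t₀, hs₀, ht₀, hs₀2, ht₀2, hne, hcomm⟩ := hp
    let S₀ : InvolIn H := ⟨⟨s₀, hs₀⟩, by rw [Subgroup.orderOf_mk]; exact hs₀2⟩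
    let T₀ : InvolIn H := ⟨⟨t₀, ht₀⟩, by rw [Subgroup.orderOf_mk]; exact ht₀2⟩
    let S₁ : InvolIn H := ⟨⟨s, hs⟩, by rw [Subgroup.orderOf_mk]; exact hs2⟩
    let T₁ : InvolIn H := ⟨⟨t, ht⟩, by rw [Subgroup.orderOf_mk]; exact ht2⟩
    obtain ⟨x, -, hx⟩ := htr' S₀ S₁
    have hxT : x • T₀ ≠ S₁ := fun e => hne (congrArg (fun z : InvolIn H => ((z.1 : H) : G))
      (MulAction.injective x (hx.trans e.symm)))
    obtain ⟨g, hgs, hgt⟩ := h2t S₁ (x • T₀) T₁ hxT (fun e => hst (congrArg (fun z : InvolIn H => ((z.1 : H) : G)) e).symm)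
    have e1 : (g * x) • S₀ = S₁ := by rw [mul_smul, hx, hgs]
    have e2 : (g * x) • T₀ = T₁ := by rw [mul_smul, hgt]
    have d1 : ((g * x : H) : G) * s₀ * ((g * x : H) : G)⁻¹ = s := congrArg (fun z : InvolIn H => ((z.1 : H) : G)) e1
    have d2 : ((g * x : H) : G) * t₀ * ((g * x : H) : G)⁻¹ = t := congrArg (fun z : InvolIn H => ((z.1 : H) : G)) e2
    rw [← d1, ← d2]
    generalize ((g * x : H) : G) = y
    calc y * s₀ * y⁻¹ * (y * t₀ * y⁻¹) = y * (s₀ * t₀) * y⁻¹ := by group
      _ = y * (t₀ * s₀) * y⁻¹ := by rw [hcomm]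
      _ = _ := by group

end SE

end Cfsg.Agent.SEMain
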