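import Cfsg.Agent.Lib.SEBrick.Basic
import Cfsg.Agent.Lib.SEBender.Outcome
import Cfsg.Agent.Lib.SERegular.FromSE
import Cfsg.Agent.Lib.BrauerSuzuki.Sylow
import Cfsg.Agent.Lib.OddChar.OddTheorem

/-!
The main statement on strongly embedded subgroups, the passage to the quotient by an odd normal
subgroup, and the regular normal 2-subgroup it gives.
-/

set_option autoImplicit false
set_option linter.style.haveILetI false
set_option linter.unusedSectionVars false

namespace Cfsg.Agent.SEMain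

open Subgroup

universe u

/-- A strongly embedded subgroup with a four-group and trivial core has commuting involutions, with a
centraliser of odd index. -/
def Stmt : Prop :=
  ∀ (G : Type u) [Group G] [Finite G] (H : Subgroup G), Cfsg.IsStronglyEmbedded H → H.normalCore = ⊥ →
    (∃ E, E ≤ H ∧ SEBrick.IsFour E) →
    (∀ s t : G, s ∈ H → t ∈ H → orderOf s = 2 → orderOf t = 2 → s * t = t * s) ∧
      Odd ((SERegular.invCent H).relIndex H)

variable {G : Type u} [Group G] [Finite G] {H : Subgroup G}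

/-- Two distinct commuting involutions in `H`. -/
def HasPair (H : Subgroup G) : Prop :=
  ∃ s t : G, s ∈ H ∧ t ∈ H ∧ orderOf s = 2 ∧ orderOf t = 2 ∧ s ≠ t ∧ s * t = t * s

theorem exists_not_mem (hH : Cfsg.IsStronglyEmbedded H) : ∃ g : G, g ∉ H := by
  by_contra h
  push Not at h
  exact hH.1 (eq_top_iff.2 fun g _ => h g)

theorem exists_pair (hH : Cfsg.IsStronglyEmbedded H) (hR : ¬ BrauerSuzuki.RankOne G) : HasPair H := by
  simp only [BrauerSuzuki.RankOne, not_forall] at hR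
  obtain ⟨a, b, ha, hb, hab, hne⟩ := hR
  obtain ⟨z, hzH, hz⟩ := Invol.exists_invol hH.2.1
  obtain ⟨g, hg⟩ := isConj_iff.1 (Invol.se_isConj hH ha hz)
  have hc : g * b * g⁻¹ * (g * a * g⁻¹) = g * a * g⁻¹ * (g * b * g⁻¹) := by
    calc g * b * g⁻¹ * (g * a * g⁻¹) = g * (b * a) * g⁻¹ := by group
      _ = g * (a * b) * g⁻¹ := by rw [hab.eq]
      _ = _ := by group
  rw [hg] at hc
  exact ⟨z, g * b * g⁻¹, hzH,
    Invol.se_centralizer_le hH hz hzH (mem_centralizer_singleton_iff.2 hc), hz,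
    (Invol.order_conj g b).trans hb, fun e => hne (by rw [← hg] at e; simpa using e), hc.symm⟩

theorem HasPair.exists_four (hp : HasPair H) : ∃ E, E ≤ H ∧ SEBrick.IsFour E := by
  obtain ⟨s, t, hsH, htH, hs, ht, hne, hst⟩ := hp
  obtain ⟨E, hE, hsE, htE⟩ := BrauerSuzuki.exists_klein hs ht hst hne
  haveI := hE
  have hsq : ∀ e ∈ E, e * e = 1 := fun e he =>
    congrArg Subtype.val (IsKleinFour.mul_self (⟨e, he⟩ : E))
  have h4 : Nat.card E = 4 := IsKleinFour.card_four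
  have hle : E ≤ H := by
    have hd : Nat.card (E ⊓ H : Subgroup G) ∣ 4 := h4 ▸ card_dvd_of_le inf_le_left
    have h3 : 2 < Nat.card (E ⊓ H : Subgroup G) := by
      have hsub : ({1, s, t} : Set G) ⊆ (E ⊓ H : Subgroup G) := by
        rintro x (rfl | rfl | rfl)
        exacts [one_mem _, ⟨hsE, hsH⟩, ⟨htE, htH⟩]
      have := Set.ncard_le_ncard hsub (Set.toFinite _)
      rw [Set.ncard_insert_of_notMem (by
          simp [(Invol.ne_one hs).symm, (Invol.ne_one ht).symm]) (Set.toFinite _),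
        Set.ncard_pair hne, ← Nat.card_coe_set_eq] at this
      exact this
    have h : Nat.card (E ⊓ H : Subgroup G) = 4 := by
      have := Nat.le_of_dvd (by norm_num) hd
      interval_cases hcd : Nat.card (E ⊓ H : Subgroup G) <;> simp_all
    exact inf_eq_left.1 (eq_of_le_of_card_ge inf_le_left (by omega))
  refine ⟨E, hle, ⟨⟨.of_setLike_mul_comm fun a ha b hb => ?_, fun a ha => ?_⟩, h4.ge⟩⟩
  · calc a * b = (a * b)⁻¹ := (inv_eq_of_mul_eq_one_right (hsq _ (mul_mem ha hb))).symm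
      _ = b * a := by
        rw [mul_inv_rev, inv_eq_of_mul_eq_one_right (hsq a ha), inv_eq_of_mul_eq_one_right (hsq b hb)]
  · rw [pow_two]; exact hsq a ha

/-! ### The quotient by an odd normal subgroup -/

section Quotient

variable {N : Subgroup G} [N.Normal] (hNH : N ≤ H)
include hNH

theorem mem_map_iff {x : G} : (x : G ⧸ N) ∈ H.map (QuotientGroup.mk' N) ↔ x ∈ H := by
  refine ⟨fun h => ?_, fun h => ⟨x, h, rfl⟩⟩
  obtain ⟨y, hy, e⟩ := h
  rw [QuotientGroup.mk'_apply, QuotientGroup.eq] at e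
  simpa using mul_mem hy (hNH e)

theorem order_mk (hN : Odd (Nat.card N)) {x : G} (hx : orderOf x = 2) : orderOf (x : G ⧸ N) = 2 := by
  refine Invol.order_two_of_sq ?_ fun h => ?_
  · rw [← QuotientGroup.mk_mul, Invol.mul_self hx, QuotientGroup.mk_one]
  · exact Nat.not_even_iff_odd.2 hN
      (Invol.even_of_invol_mem hx ((QuotientGroup.eq_one_iff x).1 h))

theorem se_map (hN : Odd (Nat.card N)) (hH : Cfsg.IsStronglyEmbedded H) :
    Cfsg.IsStronglyEmbedded (H.map (QuotientGroup.mk' N)) := by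
  refine ⟨fun h => ?_, ?_, fun g hg => ?_⟩
  · obtain ⟨g, hg⟩ := exists_not_mem hH
    exact hg ((mem_map_iff hNH).1 (h ▸ mem_top _))
  · obtain ⟨z, hzH, hz⟩ := Invol.exists_invol hH.2.1
    exact Invol.even_of_invol_mem (order_mk hNH hN hz) ⟨z, hzH, rfl⟩
  · induction g using QuotientGroup.induction_on with
    | _ g =>
      have hgH : g ∉ H := fun h => hg ((mem_map_iff hNH).2 h)
      refine Odd.of_dvd_nat (hH.2.2 g hgH) (dvd_trans (card_dvd_of_le ?_)
        (card_map_dvd (H := H ⊓ H.map (MulAut.conj g).toMonoidHom) (QuotientGroup.mk' N)))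
      intro x hx
      obtain ⟨h1, h2⟩ := mem_inf.1 hx
      induction x using QuotientGroup.induction_on with
      | _ x =>
        rw [Invol.mem_conj_map, ← QuotientGroup.mk_inv, ← QuotientGroup.mk_mul,
          ← QuotientGroup.mk_mul, mem_map_iff hNH] at h2
        exact ⟨x, mem_inf.2 ⟨(mem_map_iff hNH).1 h1, Invol.mem_conj_map.2 h2⟩, rfl⟩

theorem core_map (hc : H.normalCore ≤ N) : (H.map (QuotientGroup.mk' N)).normalCore = ⊥ := by
  rw [eq_bot_iff]
  intro x hx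
  induction x using QuotientGroup.induction_on with
  | _ x =>
    rw [mem_bot, QuotientGroup.eq_one_iff]
    refine hc fun b => ?_
    have h := hx (b : G ⧸ N)
    rwa [← QuotientGroup.mk_inv, ← QuotientGroup.mk_mul, ← QuotientGroup.mk_mul,
      mem_map_iff hNH] at h

theorem pair_map (hN : Odd (Nat.card N)) (hp : HasPair H) : HasPair (H.map (QuotientGroup.mk' N)) := by
  obtain ⟨s, t, hsH, htH, hs, ht, hne, hst⟩ := hp
  refine ⟨s, t, ⟨s, hsH, rfl⟩, ⟨t, htH, rfl⟩, order_mk hNH hN hs, order_mk hNH hN ht, fun e => ?_, ?_⟩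
  · rw [QuotientGroup.eq, Invol.inv_self hs] at e
    refine Nat.not_even_iff_odd.2 hN (Invol.even_of_invol_mem (Invol.order_two_of_sq ?_ fun h => hne ?_) e)
    · rw [show s * t * (s * t) = s * (t * s) * t by group, ← hst,
        show s * (s * t) * t = s * s * (t * t) by group, Invol.mul_self hs, Invol.mul_self ht, mul_one]
    · calc s = s * (t * t) := by rw [Invol.mul_self ht, mul_one]
        _ = t := by rw [← mul_assoc, h, one_mul]
  · rw [← QuotientGroup.mk_mul, ← QuotientGroup.mk_mul, hst]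

end Quotient

/-! ### The regular normal 2-subgroup -/

/-- A normal 2-subgroup of `H` regular on the other cosets. -/
structure Reg (H Q : Subgroup G) : Prop where
  le : Q ≤ H
  norm : (Q.subgroupOf H).Normal
  two : IsPGroup 2 Q
  trans : ∀ g₁ g₂ : G, g₁ ∉ H → g₂ ∉ H → ∃ u ∈ Q, g₂⁻¹ * (u * g₁) ∈ H
  reg : ∀ g : G, g ∉ H → ∀ u ∈ Q, g⁻¹ * (u * g) ∈ H → u = 1

theorem exists_reg (h : Stmt.{u}) (hH : Cfsg.IsStronglyEmbedded H) (hcore : H.normalCore = ⊥)
    (hp : HasPair H) : ∃ Q, Reg H Q := by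
  obtain ⟨hcomm, hodd⟩ := h G H hH hcore hp.exists_four
  obtain ⟨s, t, hsH, htH, hs, ht, hne, -⟩ := hp
  obtain ⟨Q, h1, h2, h3, h4, h5⟩ :=
    SERegular.exists_regular_of_se hH hcore hcomm ⟨s, t, hsH, htH, hs, ht, hne⟩ hodd
  exact ⟨Q, h1, h2, h3, h4, h5⟩

theorem exists_bender (h : Stmt.{u}) (hH : Cfsg.IsStronglyEmbedded H) (hcore : H.normalCore = ⊥)
    (hp : HasPair H) : ∃ L : Subgroup G, L.Normal ∧ Odd L.index ∧ SEBender.IsBender L := by
  obtain ⟨hcomm, hodd⟩ := h G H hH hcore hp.exists_four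
  obtain ⟨s, t, hsH, htH, hs, ht, hne, -⟩ := hp
  haveI : FaithfulSMul G (G ⧸ H) := by
    refine ⟨fun {g g'} he => ?_⟩
    have hker : g'⁻¹ * g ∈ (MulAction.toPermHom G (G ⧸ H)).ker := by
      rw [MonoidHom.mem_ker]
      refine Equiv.ext fun x => ?_
      show (g'⁻¹ * g) • x = x
      rw [mul_smul, he x, inv_smul_smul]
    rw [← normalCore_eq_ker, hcore, mem_bot, inv_mul_eq_one] at hker
    exact hker.symm
  obtain ⟨g, hg⟩ := exists_not_mem hH
  exact SEBender.bender_of_cfg (SERegular.cfg_of_se hH hcomm ⟨s, t, hsH, htH, hs, ht, hne⟩ hodd)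
    ⟨(g : G ⧸ H), fun e => hg (by rw [QuotientGroup.eq, mul_one, inv_mem_iff] at e; exact e)⟩

namespace Reg

variable {Q : Subgroup G} (hQ : Reg H Q)
include hQ

theorem conj_mem {h q : G} (hh : h ∈ H) (hq : q ∈ Q) : h * q * h⁻¹ ∈ Q :=
  hQ.norm.conj_mem ⟨q, hQ.le hq⟩ hq ⟨h, hh⟩

theorem odd_index (hH : Cfsg.IsStronglyEmbedded H) : Odd (Q.subgroupOf H).index := by
  haveI := hQ.norm
  obtain ⟨g, hg⟩ := exists_not_mem hH
  let f : ↥(H ⊓ H.map (MulAut.conj g).toMonoidHom) →* H ⧸ Q.subgroupOf H :=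
    (QuotientGroup.mk' _).comp (inclusion inf_le_left)
  refine (hH.2.2 g hg).of_dvd_nat (Subgroup.card_dvd_of_surjective f fun x => ?_)
  induction x using QuotientGroup.induction_on with
  | _ h =>
    obtain ⟨u, hu, he⟩ := hQ.trans g ((h : G) * g) hg fun hm => hg (by
      simpa using H.mul_mem (H.inv_mem h.2) hm)
    have hd : g⁻¹ * (u⁻¹ * (h : G)) * g ∈ H := by simpa [mul_assoc] using H.inv_mem he
    refine ⟨⟨u⁻¹ * h, mem_inf.2 ⟨mul_mem (inv_mem (hQ.le hu)) h.2, Invol.mem_conj_map.2 hd⟩⟩, ?_⟩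
    show ((⟨u⁻¹ * (h : G), _⟩ : H) : H ⧸ Q.subgroupOf H) = (h : H ⧸ Q.subgroupOf H)
    rw [QuotientGroup.eq, mem_subgroupOf]
    simpa [mul_assoc] using hQ.conj_mem (inv_mem h.2) hu

theorem mem_of_two (hH : Cfsg.IsStronglyEmbedded H) {x : G} (hx : x ∈ H)
    (h2 : ∃ k : ℕ, orderOf x = 2 ^ k) : x ∈ Q := by
  haveI := hQ.norm
  obtain ⟨k, hk⟩ := h2
  have h1 : orderOf ((⟨x, hx⟩ : H) : H ⧸ Q.subgroupOf H) ∣ 2 ^ k := by
    rw [← hk, ← Subgroup.orderOf_mk x hx]
    exact orderOf_map_dvd (QuotientGroup.mk' _) _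
  have h3 : orderOf ((⟨x, hx⟩ : H) : H ⧸ Q.subgroupOf H) ∣ (Q.subgroupOf H).index := orderOf_dvd_natCard _
  have h4 := Nat.eq_one_of_dvd_coprimes
    (Nat.Coprime.pow_left k (Nat.coprime_two_left.2 (hQ.odd_index hH))) h1 h3
  rw [orderOf_eq_one_iff, QuotientGroup.eq_one_iff] at h4
  exact h4

theorem invol_mem (hH : Cfsg.IsStronglyEmbedded H) {x : G} (hx : x ∈ H) (h2 : orderOf x = 2) : x ∈ Q :=
  hQ.mem_of_two hH hx ⟨1, h2⟩

theorem ne_bot (hH : Cfsg.IsStronglyEmbedded H) : Q ≠ ⊥ := fun e => by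
  obtain ⟨z, hzH, hz⟩ := Invol.exists_invol hH.2.1
  exact Invol.ne_one hz (mem_bot.1 (e ▸ hQ.invol_mem hH hzH hz))

theorem isSolvable (hH : Cfsg.IsStronglyEmbedded H) : Group.IsSolvable H := by
  haveI := hQ.norm
  haveI : Fact (Nat.Prime 2) := ⟨Nat.prime_two⟩
  haveI : Group.IsSolvable (H ⧸ Q.subgroupOf H) := OddChar.oddSolvable _ (hQ.odd_index hH)
  haveI : Group.IsNilpotent (Q.subgroupOf H) :=
    (hQ.two.of_equiv (subgroupOfEquivOfLe hQ.le).symm).isNilpotent
  exact Group.isSolvable_of_ker_le_range (Q.subgroupOf H).subtype (QuotientGroup.mk' (Q.subgroupOf H))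
    (by simp)

/-- An odd normal subgroup of `H` is trivial when the core is. -/
theorem odd_normal_eq_bot (hcore : H.normalCore = ⊥) {X : Subgroup G}
    (hXH : X ≤ H) (hXn : ∀ h ∈ H, ∀ x ∈ X, h * x * h⁻¹ ∈ X) (hX : Odd (Nat.card X)) : X = ⊥ := by
  have hQX : ∀ x ∈ X, ∀ q ∈ Q, q * x = x * q := fun x hx q hq => by
    have h1 : q * x * q⁻¹ * x⁻¹ ∈ X := mul_mem (hXn q (hQ.le hq) x hx) (inv_mem hx)
    have h2 : q * x * q⁻¹ * x⁻¹ ∈ Q := by
      rw [mul_assoc, mul_assoc, ← mul_assoc x]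
      exact mul_mem hq (hQ.conj_mem (hXH hx) (inv_mem hq))
    obtain ⟨k, hk⟩ := hQ.two ⟨_, h2⟩
    have hk' : (q * x * q⁻¹ * x⁻¹) ^ 2 ^ k = 1 := congrArg Subtype.val hk
    have h3 : q * x * q⁻¹ * x⁻¹ = 1 := orderOf_eq_one_iff.1 (Nat.eq_one_of_dvd_coprimes
      (Nat.Coprime.pow_left k (Nat.coprime_two_left.2 hX)) (orderOf_dvd_of_pow_eq_one hk')
      (orderOf_dvd_natCard X h1))
    exact mul_inv_eq_iff_eq_mul.1 (mul_inv_eq_one.1 h3)
  rw [eq_bot_iff]
  intro x hx
  have hgen : ∀ g : G, g⁻¹ * x * g ∈ H := fun g => by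
    by_cases hg : g ∈ H
    · exact mul_mem (mul_mem (inv_mem hg) (hXH hx)) hg
    obtain ⟨u, hu, he⟩ := hQ.trans g (x * g) hg fun hm => hg (by
      simpa using H.mul_mem (H.inv_mem (hXH hx)) hm)
    have hy : g⁻¹ * (x⁻¹ * u) * g ∈ H := by simpa [mul_assoc] using he
    have hcu : Commute u x := hQX x hx u hu
    have hpow := pow_mem hy (orderOf x)
    have e : (g⁻¹ * (x⁻¹ * u) * g) ^ orderOf x = g⁻¹ * (u ^ orderOf x * g) := by
      have := conj_pow (a := g⁻¹) (b := x⁻¹ * u) (i := orderOf x)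
      rw [inv_inv] at this
      rw [this, hcu.symm.inv_left.mul_pow, inv_pow, pow_orderOf_eq_one, inv_one, one_mul, mul_assoc]
    rw [e] at hpow
    have hu1 : u ^ orderOf x = 1 := hQ.reg g hg _ (pow_mem hu _) hpow
    obtain ⟨k, hk⟩ := hQ.two ⟨u, hu⟩
    have hk' : u ^ 2 ^ k = 1 := congrArg Subtype.val hk
    have hu2 : u = 1 := orderOf_eq_one_iff.1 (Nat.eq_one_of_dvd_coprimes
      (Nat.Coprime.pow_left k (Nat.coprime_two_left.2 (SEBrick.odd_order hX hx)))
      (orderOf_dvd_of_pow_eq_one hk') (orderOf_dvd_of_pow_eq_one hu1))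
    rw [hu2, mul_one] at hy
    simpa [mul_assoc] using H.inv_mem hy
  rw [mem_bot, ← mem_bot (G := G), ← hcore]
  intro b
  simpa using hgen b⁻¹

end Reg

/-- No odd normal subgroup when the core is trivial. -/
theorem oddCore_eq_bot (hH : Cfsg.IsStronglyEmbedded H) (hcore : H.normalCore = ⊥) (hp : HasPair H)
    {Q : Subgroup G} (hQ : Reg H Q) : Cfsg.oddCore G = ⊥ := by
  haveI : (Cfsg.oddCore G).Normal := FittingCores.pPrimeCore_normal 2
  set O := Cfsg.oddCore G with hOdef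
  have hO : Odd (Nat.card O) := SEBrick.oddCore_odd
  have hOH : O ⊓ H = ⊥ := hQ.odd_normal_eq_bot hcore inf_le_right
    (fun h hh x hx => mem_inf.2 ⟨‹O.Normal›.conj_mem x hx.1 h,
      mul_mem (mul_mem hh (mem_inf.1 hx).2) (inv_mem hh)⟩)
    (SEBrick.odd_of_le hO inf_le_left)
  have hinv : ∀ t ∈ H, orderOf t = 2 → ∀ y ∈ O, t * y * t = y⁻¹ := by
    intro t htH ht y hy
    have hti := Invol.inv_self ht
    let f : O → O := fun x => ⟨(x : G)⁻¹ * (t * x * t⁻¹), mul_mem (inv_mem x.2) (‹O.Normal›.conj_mem x x.2 t)⟩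
    have hf : Function.Injective f := fun a b e => by
      have e1 : (a : G)⁻¹ * (t * a * t⁻¹) = (b : G)⁻¹ * (t * b * t⁻¹) := congrArg Subtype.val e
      have hc : (b : G) * (a : G)⁻¹ * t = t * ((b : G) * (a : G)⁻¹) := by
        calc (b : G) * (a : G)⁻¹ * t = b * ((a : G)⁻¹ * (t * a * t⁻¹)) * (t * (a : G)⁻¹) := by group
          _ = b * ((b : G)⁻¹ * (t * b * t⁻¹)) * (t * (a : G)⁻¹) := by rw [e1]
          _ = _ := by group
      have h1 : (b : G) * (a : G)⁻¹ ∈ O ⊓ H := mem_inf.2 ⟨mul_mem b.2 (inv_mem a.2),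
        Invol.se_centralizer_le hH ht htH (mem_centralizer_singleton_iff.2 hc)⟩
      rw [hOH, mem_bot, mul_inv_eq_one] at h1
      exact Subtype.ext h1.symm
    obtain ⟨x, hx⟩ := Finite.surjective_of_injective hf ⟨y, hy⟩
    have hx' : (x : G)⁻¹ * (t * x * t⁻¹) = y := congrArg Subtype.val hx
    rw [← hx']
    calc t * ((x : G)⁻¹ * (t * x * t⁻¹)) * t = t * (x : G)⁻¹ * t * x := by group
      _ = t * (x : G)⁻¹ * t⁻¹ * x := by rw [hti]
      _ = _ := by group
  obtain ⟨s, t, hsH, htH, hs, ht, hne, hst⟩ := hp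
  have hst2 : orderOf (s * t) = 2 := by
    refine Invol.order_two_of_sq ?_ fun h => hne ?_
    · rw [show s * t * (s * t) = s * (t * s) * t by group, ← hst,
        show s * (s * t) * t = s * s * (t * t) by group, Invol.mul_self hs, Invol.mul_self ht, mul_one]
    · calc s = s * (t * t) := by rw [Invol.mul_self ht, mul_one]
        _ = t := by rw [← mul_assoc, h, one_mul]
  rw [eq_bot_iff]
  intro y hy
  have h1 := hinv (s * t) (mul_mem hsH htH) hst2 y hy
  have h2 : s * t * y * (s * t) = y := by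
    nth_rw 2 [hst]
    rw [show s * t * y * (t * s) = s * (t * y * t) * s by group, hinv t htH ht y hy,
      hinv s hsH hs _ (inv_mem hy), inv_inv]
  rw [h2] at h1
  exact mem_bot.2 (Invol.eq_one_of_sq_of_odd (SEBrick.odd_order hO hy)
    (by rw [pow_two]; nth_rw 1 [h1]; exact inv_mul_cancel y))

end Cfsg.Agent.SEMain
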