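import Cfsg.Agent.Lib.SEMain.GoodTrans
import Cfsg.Agent.Lib.SEMain.HypA
import Cfsg.Agent.Lib.SEMain.Main

/-!
The world without good pairs gives a centred set of fixed points.
-/

set_option autoImplicit false
set_option linter.style.haveILetI false
set_option linter.unusedSectionVars false

namespace Cfsg.Agent.SEMain

open Subgroup MulAction

universe u

variable {G : Type u} [Group G] [Finite G] {H : Subgroup G} {r : ℕ} [Fact r.Prime]
variable (hH : Cfsg.IsStronglyEmbedded H)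
include hH

/-- An `r`-group maximal among those fixing three points is pair-maximal without good pairs. -/
theorem exists_hypA_of_not_good (hr2 : r ≠ 2) (hrm : r ∣ numInv H)
    (hno : ∀ p q : G ⧸ H, ¬ GoodPair r p q) :
    ∃ (Y : Subgroup G) (F : Set (G ⧸ H)), HypA H r Y F ∧ ∀ x : G ⧸ H, x ∈ F ↔ Y ≤ stabilizer G x := by
  have hthree : ∀ {P : Subgroup G} {p q : G ⧸ H}, p ≠ q → PairSyl r P p q →
      ∃ f, f ≠ p ∧ f ≠ q ∧ P ≤ stabilizer G f := by
    intro P p q hne hP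
    by_contra hcon
    push Not at hcon
    refine hno p q ⟨hne, P, hP, fun f hf => ?_⟩
    by_contra hf'
    exact hcon f (fun e => hf' (Or.inl e)) (fun e => hf' (Or.inr e)) hf
  obtain ⟨b₀, hab⟩ := exists_ne_one hH
  obtain ⟨R, -, hR⟩ := exists_pairSyl (IsPGroup.of_bot (G := G) (p := r))
    (p := ((1 : G) : G ⧸ H)) (q := b₀) bot_le
  obtain ⟨f, hf1, hf2, hRf⟩ := hthree hab hR
  obtain ⟨Y, -, ⟨hY, a, b, c, hne1, hne2, hne3, hYa, hYb, hYc⟩, hmax⟩ := Finite.exists_le_maximal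
    (p := fun S : Subgroup G => IsPGroup r S ∧ ∃ a b c : G ⧸ H, a ≠ b ∧ a ≠ c ∧ b ≠ c ∧
      S ≤ stabilizer G a ∧ S ≤ stabilizer G b ∧ S ≤ stabilizer G c)
    (a := R) ⟨hR.1, _, b₀, f, hab, hf1.symm, hf2.symm, hR.2.1.trans inf_le_left,
      hR.2.1.trans inf_le_right, hRf⟩
  have hPM : PairMaximal H r Y := fun p q hpq hYpq P hP hle hPD => by
    obtain ⟨P', hPP', hP'⟩ := exists_pairSyl hP hPD
    obtain ⟨f', h1, h2, h3⟩ := hthree hpq hP'
    exact le_antisymm (hPP'.trans (hmax ⟨hP'.1, p, q, f', hpq, h1.symm, h2.symm,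
      hP'.2.1.trans inf_le_left, hP'.2.1.trans inf_le_right, h3⟩ (hle.trans hPP'))) hle
  exact ⟨Y, _, HypA.of_pairMaximal hH hr2 hrm hY hPM hYa hYb hYc hne1 hne3 hne2, fun _ => Iff.rfl⟩

/-- A normalising swapper moves exactly the `r`-part of `m` of a centred group. -/
theorem HypA.card_centralizer {Y : Subgroup G} {F : Set (G ⧸ H)} (h : HypA H r Y F) {x y : G ⧸ H}
    (hx : x ∈ F) (hy : y ∈ F) (hxy : x ≠ y) {v : G} (hv : orderOf v = 2)
    (hvY : v ∈ normalizer (Y : Set G)) (hvx : v • x = y) :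
    r ^ (numInv H).factorization r * Nat.card (Y ⊓ centralizer {v} : Subgroup G) = Nat.card Y := by
  have hle : Y ≤ stabTwo x y := le_inf (h.fix x hx) (h.fix y hy)
  obtain ⟨S, hS⟩ := (pairSyl_of_card h.pgroup hle (h.sylow x hx y hy hxy)).exists_sylow
  have hm : numInv H ≠ 0 := (numInv_pos hH).ne'
  rw [(pairSyl_of_card h.pgroup hle (h.sylow x hx y hy hxy)).card_eq, card_stabTwo_swap hH hxy hv hvx,
    ← numInv, Nat.factorization_mul hm Nat.card_pos.ne', Finsupp.add_apply, pow_add]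
  refine congrArg (r ^ (numInv H).factorization r * ·) (le_antisymm ?_ ?_)
  · obtain ⟨Q, hQ⟩ := ((h.pgroup.to_le inf_le_left).comap_subtype : IsPGroup r
      ((Y ⊓ centralizer {v}).subgroupOf (stabTwo x y ⊓ centralizer {v}))).exists_le_sylow
    rw [← CoprimeAct.card_map_sylow Q]
    exact Subgroup.card_le_of_le fun z hz => ⟨⟨z, ⟨hle hz.1, hz.2⟩⟩, hQ hz, rfl⟩
  · obtain ⟨Q⟩ : Nonempty (Sylow r (stabTwo x y ⊓ centralizer {v} : Subgroup G)) := inferInstance
    rw [← CoprimeAct.card_map_sylow Q, ← hS]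
    exact card_inf_centralizer_ge hH hxy hv (swapper_mem_normalizer hH hv hvx) S (hS.symm ▸ hvY)
      (Q.isPGroup'.map _) (map_subtype_le _)

omit hH in
/-- The assembly's input on the world without good pairs. -/
theorem noGood : NoGood.{u} := by
  intro G _ _ H hS hno
  obtain ⟨t, htH, ht⟩ := Invol.exists_invol hS.se.2.1
  obtain ⟨r, hr, hlt⟩ := exists_prime_not_le hS.se hS.pair ht htH
  haveI := Fact.mk hr
  obtain ⟨b₀, hb₀⟩ := exists_ne_one hS.se
  have hrm : r ∣ numInv H := Nat.dvd_of_factorization_pos (by omega)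
  have hr2 : r ≠ 2 := fun e => Nat.not_even_iff_odd.2 (numInv_odd hS.se ⟨_, b₀, hb₀⟩)
    (even_iff_two_dvd.2 (e ▸ hrm))
  obtain ⟨Y, F, h, -⟩ := exists_hypA_of_not_good hS.se hr2 hrm
    fun p q hg => hno ⟨r, p, q, hr, hr2, hrm, hg⟩
  exact ⟨r, Y, F, hr, h⟩

end Cfsg.Agent.SEMain
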