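import Cfsg.Agent.Lib.SEMain.FullK
import Cfsg.Agent.Lib.SEMain.NoGood

/-!
# Centred sets give a W-configuration

`HypA` gives a set of points in which every pair has a swapper with point in the set, a normalised
Sylow `r`-subgroup and the `r'`-core of the pair fixing that point; in such a set some pair and its
midpoint have the same core, and this core, or the centre of the Thompson subgroup, is the wanted `W`.
-/

set_option autoImplicit false
set_option linter.style.haveILetI false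
set_option linter.unusedSectionVars false

namespace Cfsg.Agent.SEMain

open Subgroup MulAction
open scoped commutatorElement

universe u

variable {G : Type u} [Group G] [Finite G] {H : Subgroup G} {r : ℕ} [Fact r.Prime]

/-- A centred family of pairs gives a W-configuration. -/
theorem hasW_of_centred (hH : Cfsg.IsStronglyEmbedded H) (hr2 : r ≠ 2) (hrm : r ∣ numInv H)
    (B : Set (G ⧸ H)) (htwo : ∃ p ∈ B, ∃ q ∈ B, p ≠ q)
    (hpair : ∀ p ∈ B, ∀ q ∈ B, p ≠ q → ∃ (v : G) (c : G ⧸ H) (P : Subgroup G), c ∈ B ∧ orderOf v = 2 ∧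
      v • p = q ∧ v • c = c ∧ PairSyl r P p q ∧ v ∈ normalizer (P : Set G) ∧ P ≤ stabilizer G c ∧
      coreOf r p q ≤ stabilizer G c) : HasW H := by
  obtain ⟨p, hp, q, hq, hpq⟩ := htwo
  obtain ⟨q₀, hq₀, hq₀max⟩ := Set.exists_max_image {x : G ⧸ H | x ∈ B ∧ x ≠ p}
    (fun x => Nat.card (coreOf r p x)) (Set.toFinite _) ⟨q, hq, hpq.symm⟩
  have hpq₀ : p ≠ q₀ := hq₀.2.symm
  obtain ⟨v, c, P, hc, hv, hvp, hvc, hP, hvP, hPc, hMc⟩ := hpair p hp q₀ hq₀.1 hpq₀
  have hcp : c ≠ p := fun e => hpq₀ (by rw [← hvp, ← e, hvc])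
  obtain ⟨v', c', P', -, hv', hv'p, -, hP', hv'P', -, -⟩ := hpair p hp c hc hcp.symm
  have hPp : P ≤ stabilizer G p := hP.2.1.trans inf_le_left
  have hPq : P ≤ stabilizer G q₀ := hP.2.1.trans inf_le_right
  have hPS : PairSyl r P p c := ((pairSyl_midpoint hH hpq₀ hv hvp hvc hP.1 hPp hPq hPc).1 hP).symm
  have hodd : Odd (Nat.card (pairStab p c)) := pairStab_odd hH hcp.symm
  haveI : Group.IsSolvable (pairStab p c) := OddChar.oddSolvable _ hodd
  have hle : coreOf r p q₀ ≤ pairStab p c := le_inf ((coreOf_le p q₀).trans inf_le_left) hMc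
  -- the core of the pair lies in that of an endpoint and the midpoint
  have heq : coreOf r p q₀ = coreOf r p c := by
    refine eq_of_le_of_card_ge ?_ (hq₀max c ⟨hc, hcp⟩)
    intro x hx
    refine ⟨⟨x, hle hx⟩, CTransitivity.le_pPrimeCore_of_invariant (p := r) hr2
      (A := P.subgroupOf (pairStab p c)) (D := (coreOf r p q₀).subgroupOf (pairStab p c))
      hP.1.comap_subtype ?_ ?_ ?_ (mem_subgroupOf.2 hx), rfl⟩
    · intro y hy hk
      rw [mem_subgroupOf]
      have hyc : (y : G) ∈ normalizer (P : Set G) := SEBrick.mem_normalizer_of fun z hz => by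
        have := congrArg Subtype.val (mem_centralizer_iff.1 hy ⟨z, hPS.2.1 hz⟩ (mem_subgroupOf.2 hz))
        simp only [Subgroup.coe_mul] at this
        rw [← this, mul_inv_cancel_right]
        exact hz
      have hpg : IsPGroup r (zpowers (y : G)) := by
        obtain ⟨k, hk⟩ := hk
        refine IsPGroup.iff_card.2 ⟨k, ?_⟩
        rw [Nat.card_zpowers, Subgroup.orderOf_coe, hk]
      have h2 := hPS.2.2 (P ⊔ zpowers (y : G))
        (hP.1.to_sup_of_normal_left' hpg (zpowers_le.2 hyc)) le_sup_left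
        (sup_le hPS.2.1 (zpowers_le.2 y.2))
      exact h2.le (mem_sup_right (mem_zpowers _))
    · rw [Nat.card_congr (subgroupOfEquivOfLe hle).toEquiv]
      exact coreOf_coprime p q₀
    · intro y hy
      refine SEBrick.mem_normalizer_of fun z hz => mem_subgroupOf.2 ?_
      exact SEBrick.conj_mem_of (pairStab_le_normalizer_coreOf p q₀ (hP.2.1 (mem_subgroupOf.1 hy)))
        (mem_subgroupOf.1 hz)
  set t := v' * v * v'⁻¹ with ht
  have hto : orderOf t = 2 := (Invol.order_conj v' v).trans hv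
  have htp : t • p = p := by
    rw [ht, mul_smul, mul_smul, Invol.inv_self hv', hv'p, hvc, swap_back hv' hv'p]
  by_cases hM : coreOf r p c = ⊥
  swap
  · have hvM : v ∈ normalizer (coreOf r p c : Set G) := heq ▸ swapper_mem_normalizer_coreOf hv hvp
    have hv'M : v' ∈ normalizer (coreOf r p c : Set G) := swapper_mem_normalizer_coreOf hv' hv'p
    exact ⟨p, c, _, t, v', hcp.symm, hM, (coreOf_le p c).trans inf_le_left,
      pairStab_le_normalizer_coreOf p c, hto, htp, mul_mem (mul_mem hv'M hvM) (inv_mem hv'M), hv'M,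
      hv'p⟩
  -- no core: the centre of the Thompson subgroup
  set Z := ZJ.zCore r False P with hZ
  have hbot : Cfsg.pPrimeCore r (pairStab p c) = ⊥ :=
    (Subgroup.map_eq_bot_iff_of_injective _ (pairStab p c).subtype_injective).1 hM
  obtain ⟨S, hS⟩ : ∃ S : Sylow r (pairStab p c),
      (S : Subgroup (pairStab p c)).map (pairStab p c).subtype = P := hPS.exists_sylow
  have hZn : pairStab p c ≤ normalizer (Z : Set G) := by
    have h1 := ZJ.zCore_normal hr2 (PStable.isQuad_of_odd hr2 hodd)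
      (FittingCores.centralizer_pCore_le Fact.out hbot) S False
    have h2 := SESolv.le_normalizer_map h1
    rwa [ZJ.zCore_map (pairStab p c).subtype (pairStab p c).subtype_injective.injOn, hS] at h2
  have hNZ : ∀ R : Subgroup G, normalizer (R : Set G) ≤ normalizer (ZJ.zCore r False R : Set G) :=
    fun R => (ZJ.normalizer_le_normalizer_zJ R).trans (ZJ.normalizer_zJ_le_normalizer_zCore R)
  have hvZ : v ∈ normalizer (Z : Set G) := hNZ P hvP
  have hv'Z : v' ∈ normalizer (Z : Set G) := by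
    obtain ⟨d, hd, hdP⟩ := hPS.exists_conj hP'
    have e : ZJ.zCore r False P' = Z := by
      rw [← hdP, ← ZJ.zCore_map (MulAut.conj d).toMonoidHom (MulAut.conj d).injective.injOn]
      refine le_antisymm ?_ fun z hz => ?_
      · rintro _ ⟨z, hz, rfl⟩
        exact SEBrick.conj_mem_of (hZn hd) hz
      · exact ⟨d⁻¹ * z * d, (mem_normalizer_iff''.1 (hZn hd) z).1 hz, by simp [mul_assoc]⟩
    exact e ▸ hNZ P' hv'P'
  have hP1 : P ≠ ⊥ := by
    intro h0
    have h := hP.card_eq
    rw [h0, Subgroup.card_bot, card_stabTwo_swap hH hpq₀ hv hvp] at h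
    have h' : 1 = r ^ (numInv H * Nat.card (stabTwo p q₀ ⊓ centralizer {v} : Subgroup G)).factorization r := h
    have hpos : 0 < (numInv H).factorization r :=
      (Fact.out : r.Prime).factorization_pos_of_dvd (numInv_pos hH).ne' hrm
    rw [Nat.factorization_mul (numInv_pos hH).ne' Nat.card_pos.ne', Finsupp.add_apply] at h'
    exact (Nat.one_lt_pow (by omega) (Fact.out : r.Prime).one_lt).ne h'
  exact ⟨p, c, Z, t, v', hcp.symm, ZJ.zCore_ne_bot hP.1 hP1,
    (((ZJ.zCore_le_zJ P).trans (ZJ.zJ_le P)).trans hPS.2.1).trans inf_le_left, hZn, hto, htp,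
    mul_mem (mul_mem hv'Z hvZ) (inv_mem hv'Z), hv'Z, hv'p⟩

/-- The part generated by the inverted elements of a centred group. -/
theorem HypA.fullInv (hH : Cfsg.IsStronglyEmbedded H) {Y : Subgroup G} {F : Set (G ⧸ H)}
    (h : HypA H r Y F) {p q c : G ⧸ H} (hp : p ∈ F) (hq : q ∈ F) (hpq : p ≠ q) (hc : c ∈ F) {v : G}
    (hv : orderOf v = 2) (hvY : v ∈ normalizer (Y : Set G)) (hvp : v • p = q) (hvc : v • c = c) :
    FullInv H r (closure (invSet v Y)) v c := by
  have hle : closure (invSet v Y) ≤ Y := (closure_le _).2 fun x hx => hx.1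
  have hset : invSet v (closure (invSet v Y)) = invSet v Y :=
    Set.Subset.antisymm (fun x hx => ⟨hle hx.1, hx.2⟩) fun x hx => ⟨subset_closure hx, hx.2⟩
  refine ⟨hv, hvc, hle.trans (h.fix c hc), ?_, hset.symm ▸ le_rfl, ?_⟩
  · refine SEBrick.mem_normalizer_of fun x hx => ?_
    induction hx using Subgroup.closure_induction with
    | mem y hy => rw [hy.2]; exact inv_mem (subset_closure hy)
    | one => simp
    | mul a b _ _ ha hb =>
      rw [show v * (a * b) * v⁻¹ = v * a * v⁻¹ * (v * b * v⁻¹) by group]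
      exact mul_mem ha hb
    | inv a _ ha =>
      rw [show v * a⁻¹ * v⁻¹ = (v * a * v⁻¹)⁻¹ by group]
      exact inv_mem ha
  · rw [hset]
    have h1 := card_centralizer_mul_invSet (odd_of_pGroup h.ne_two h.pgroup) hv hvY
    rw [← h.card_centralizer hH hp hq hpq hv hvY hvp] at h1
    exact (Nat.eq_of_mul_eq_mul_right Nat.card_pos h1).symm

/-- A centred orbit of an abelian section of the normaliser of `S`. -/
theorem exists_centred_orbit (hH : Cfsg.IsStronglyEmbedded H) (hr2 : r ≠ 2) (hrm : r ∣ numInv H)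
    {S : Subgroup G} (hS : IsPGroup r S) {v : G} {c : G ⧸ H} (h : FullInv H r S v c)
    (hN : ¬ normalizer (S : Set G) ≤ stabilizer G c) : HasW H := by
  set N := normalizer (S : Set G) with hNdef
  have hSodd : Odd (Nat.card S) := odd_of_pGroup hr2 hS
  have hvv := Invol.mul_self h.invol
  -- the normaliser has rank one
  have hrk : BrauerSuzuki.RankOne N := by
    by_contra hrk
    obtain ⟨w, hw, hwv, hvw⟩ := exists_commuting hrk (u := (⟨v, h.norm⟩ : N))
      (by rw [Subgroup.orderOf_mk]; exact h.invol)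
    rw [← Subgroup.orderOf_coe] at hw
    obtain ⟨E, hEN, hE, hvE⟩ := exists_four_pair h.invol hw h.norm w.2
      (fun e => hwv (Subtype.ext e.symm)) (congrArg Subtype.val hvw)
    have hEc : E ≤ stabilizer G c := fun e he => mem_stabilizer_iff.2 <| by
      have hev : e * v = v * e := hE.comm he hvE
      exact Invol.se_fix_unique hH h.invol (by rw [← mul_smul, ← hev, mul_smul, h.fixc]) h.fixc
    have hcomm : ⁅S, zpowers v⁆ = S := by
      refine le_antisymm (commutator_le.2 fun s hs w hw => ?_) fun x hx => ?_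
      · have hw' : w ∈ N := zpowers_le.2 h.norm hw
        rw [commutatorElement_def, show s * w * s⁻¹ * w⁻¹ = s * (w * s⁻¹ * w⁻¹) by group]
        exact mul_mem hs (SEBrick.conj_mem_of hw' (inv_mem hs))
      · refine (closure_le _).2 (fun y hy => ?_) (h.gen hx)
        obtain ⟨k, hk⟩ := Invol.exists_sqrt (SEBrick.odd_order hSodd hy.1)
        have h2 := Invol.conj_pow hy.2 k
        have e : ⁅y ^ k, v⁆ = y := by
          rw [commutatorElement_def, show y ^ k * v * (y ^ k)⁻¹ * v⁻¹ = y ^ k * (v * (y ^ k) * v⁻¹)⁻¹ by group,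
            h2, inv_inv, ← pow_two, hk]
        rw [← e]
        exact commutator_mem_commutator (pow_mem hy.1 k) (mem_zpowers v)
    have hne : ⁅S, zpowers v⁆ ≠ ⊥ := by
      rw [hcomm]
      intro h0
      have h1 : (invSet v S).ncard ≤ 1 :=
        (Set.ncard_le_ncard (fun x hx => by simpa [h0] using hx.1) (Set.finite_singleton (1 : G))).trans
          (Set.ncard_singleton 1).le
      rw [h.card] at h1
      have hpos : 0 < (numInv H).factorization r :=
        (Fact.out : r.Prime).factorization_pos_of_dvd (numInv_pos hH).ne' hrm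
      exact absurd h1 (not_le.2 (Nat.one_lt_pow hpos.ne' (Fact.out : r.Prime).one_lt))
    have h1 := normalizer_commutator_le hH hE hEc hSodd hEN hvE h.invol hne
    rw [hcomm] at h1
    exact hN h1
  set O := (Cfsg.pPrimeCore 2 N).map N.subtype with hO
  have hOodd : Odd (Nat.card O) := by
    rw [hO, card_map_of_injective N.subtype_injective]
    exact SETrans.odd_core
  have hOn : N ≤ normalizer (O : Set G) := SESolv.le_normalizer_map (FittingCores.pPrimeCore_normal 2)
  have hfixv : ∀ f : G, f * v = v * f → f • c = c := fun f hf =>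
    Invol.se_fix_unique hH h.invol (by rw [← mul_smul, ← hf, mul_smul, h.fixc]) h.fixc
  have hOc : ¬ O ≤ stabilizer G c := by
    intro hle
    refine hN fun g hg => mem_stabilizer_iff.2 ?_
    have hz : g * v * g⁻¹ * v ∈ O := by
      refine ⟨⟨g * v * g⁻¹, mul_mem (mul_mem hg h.norm) (inv_mem hg)⟩ * ⟨v, h.norm⟩,
        SETrans.invol_mul_mem hrk ?_ ?_, rfl⟩
      · rw [Subgroup.orderOf_mk]; exact h.invol
      · rw [Subgroup.orderOf_mk, Invol.order_conj]; exact h.invol
    have e : (g * v * g⁻¹ * v) • c = c := hle hz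
    rw [mul_smul, h.fixc] at e
    exact Invol.se_fix_unique hH ((Invol.order_conj g v).trans h.invol) (conj_smul_eq h.fixc) e
  obtain ⟨A, -, ⟨hAO, hNA, hAc⟩, hmin⟩ := Finite.exists_le_minimal
    (p := fun K : Subgroup G => K ≤ O ∧ N ≤ normalizer (K : Set G) ∧ ¬ K ≤ stabilizer G c)
    ⟨le_rfl, hOn, hOc⟩
  have hAN : A ≤ N := hAO.trans (map_subtype_le _)
  have hAodd : Odd (Nat.card A) := SEBrick.odd_of_le hOodd hAO
  have hA1 : A ≠ ⊥ := fun e => hAc (e ▸ bot_le)
  have hAA : ⁅A, A⁆ ≤ A := CoprimeAct.commutator_le_left le_normalizer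
  have hAAc : ⁅A, A⁆ ≤ stabilizer G c := by
    by_contra hcon
    exact (derived_lt hAodd hA1).ne (congrArg (fun K : Subgroup G => Nat.card K) (le_antisymm hAA
      (hmin ⟨hAA.trans hAO, fun g hg => normalizer_commutator_of (hNA hg) (hNA hg), hcon⟩ hAA)))
  set Ac := A ⊓ stabilizer G c with hAcdef
  have hDA : ⁅A, A⁆ ≤ Ac := le_inf hAA hAAc
  have hAn : A ≤ normalizer (Ac : Set G) := fun l hl => SEBrick.mem_normalizer_of fun m hm => by
    have h1 : ⁅l, m⁆ ∈ Ac := hDA (commutator_mem_commutator hl (mem_inf.1 hm).1)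
    simpa [commutatorElement_def] using mul_mem h1 hm
  have hfix : ∀ m ∈ Ac, ∀ a ∈ A, m • a • c = a • c := fun m hm a ha => by
    have h1 : (a⁻¹ * m * a) • c = c := (mem_inf.1 ((mem_normalizer_iff''.1 (hAn ha) m).1 hm)).2
    rw [mul_smul, mul_smul, inv_smul_eq_iff] at h1
    exact h1
  have hinv : ∀ a ∈ A, v * a * v⁻¹ * a ∈ Ac := fun a ha =>
    inverted_mod hAodd h.invol (hNA h.norm) hDA (fun f hf hfv => mem_inf.2 ⟨hf, hfixv f hfv⟩) ha
  refine hasW_of_centred hH hr2 hrm ((fun a => a • c) '' (A : Set G)) ?_ ?_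
  · obtain ⟨a, ha, hac⟩ := SetLike.not_le_iff_exists.1 hAc
    exact ⟨c, ⟨1, one_mem A, one_smul G c⟩, a • c, ⟨a, ha, rfl⟩, fun e => hac (mem_stabilizer_iff.2 e.symm)⟩
  rintro _ ⟨a₁, ha₁, rfl⟩ _ ⟨a₂, ha₂, rfl⟩ hne
  simp only at hne ⊢
  have ha₁' : a₁ ∈ A := ha₁
  have ha₂' : a₂ ∈ A := ha₂
  set z := a₁⁻¹ * a₂ with hz
  obtain ⟨k, hk⟩ := Invol.exists_sqrt (SEBrick.odd_order hAodd (mul_mem (inv_mem ha₁') ha₂'))
  set s := z ^ k with hs
  have hsA : s ∈ A := pow_mem (mul_mem (inv_mem ha₁') ha₂') k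
  set a₃ := a₁ * s with ha₃
  have ha₃A : a₃ ∈ A := mul_mem ha₁' hsA
  have hS' := h.conj (hAN ha₃A)
  -- the swapper
  have hswap : (a₃ * v * a₃⁻¹) • a₁ • c = a₂ • c := by
    have h1 : (v * s⁻¹ * v⁻¹ * s⁻¹) • s • c = s • c := hfix _ (hinv _ (inv_mem hsA)) s hsA
    have h2 : (v * s⁻¹) • c = s • c := by
      rw [← mul_smul, show v * s⁻¹ * v⁻¹ * s⁻¹ * s = v * s⁻¹ * v⁻¹ by group, mul_smul,
        Invol.inv_self h.invol, h.fixc] at h1
      exact h1
    rw [← mul_smul, ha₃, show a₁ * s * v * (a₁ * s)⁻¹ * a₁ = a₁ * s * (v * s⁻¹) by group, mul_smul, h2,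
      ← mul_smul, show a₁ * s * s = a₁ * s ^ 2 by rw [pow_two, mul_assoc], hk, mul_inv_cancel_left]
  have hle : S ≤ pairStab (a₁ • c) (a₂ • c) :=
    le_inf (le_stabilizer_smul (hAN ha₁') h.le) (le_stabilizer_smul (hAN ha₂') h.le)
  -- the centraliser fixes the midpoint
  have hC : coreOf r (a₁ • c) (a₂ • c) ⊓ centralizer (S : Set G) ≤ stabilizer G (a₃ • c) := by
    intro d hd
    obtain ⟨hdM, hdC⟩ := mem_inf.1 hd
    obtain ⟨hd1, hd2⟩ := mem_pairStab.1 (coreOf_le _ _ hdM)
    have hdN : d ∈ N := SEBrick.mem_normalizer_of fun x hx => by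
      rwa [← mem_centralizer_iff.1 hdC x hx, mul_inv_cancel_right]
    set g := a₁⁻¹ * d * a₁ with hg
    have hgN : g ∈ N := mul_mem (mul_mem (inv_mem (hAN ha₁')) hdN) (hAN ha₁')
    have hgc : g • c = c := by rw [hg, mul_smul, mul_smul, hd1, inv_smul_smul]
    have hgz : g • (s ^ 2) • c = (s ^ 2) • c := by
      rw [hk, hg, mul_smul, mul_smul, ← mul_smul a₁, mul_inv_cancel_left, hd2, ← mul_smul]
    set s' := g * s * g⁻¹ with hs'
    have hs'A : s' ∈ A := SEBrick.conj_mem_of (hNA hgN) hsA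
    have hw2 : (s' * s')⁻¹ * (s * s) ∈ Ac := by
      refine mem_inf.2 ⟨mul_mem (inv_mem (mul_mem hs'A hs'A)) (mul_mem hsA hsA), mem_stabilizer_iff.2 ?_⟩
      have e : (s' * s') • c = (s * s) • c := by
        rw [hs', show g * s * g⁻¹ * (g * s * g⁻¹) = g * s ^ 2 * g⁻¹ by rw [pow_two]; group, mul_smul,
          mul_smul, inv_smul_eq_iff.2 hgc.symm, hgz, pow_two]
      rw [mul_smul, ← e, inv_smul_smul]
    have hw : s'⁻¹ * s ∈ Ac := by
      have hwA : s'⁻¹ * s ∈ A := mul_mem (inv_mem hs'A) hsA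
      have h1 : (s'⁻¹ * s) ^ 2 ∈ Ac := by
        rw [show (s'⁻¹ * s) ^ 2 = s'⁻¹ * ⁅s, s'⁻¹⁆ * s'⁻¹⁻¹ * ((s' * s')⁻¹ * (s * s)) by
          rw [pow_two, commutatorElement_def]; group]
        exact mul_mem (SEBrick.conj_mem_of (hAn (inv_mem hs'A))
          (hDA (commutator_mem_commutator hsA (inv_mem hs'A)))) hw2
      obtain ⟨j, hj⟩ := Invol.exists_sqrt (SEBrick.odd_order hAodd hwA)
      rw [← hj, ← pow_mul, mul_comm, pow_mul]
      exact pow_mem h1 j
    have h4 : s • c = s' • c := by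
      conv_lhs => rw [show s = s' * (s'⁻¹ * s) by group, mul_smul, mem_stabilizer_iff.1 (mem_inf.1 hw).2]
    rw [mem_stabilizer_iff, ha₃, ← mul_smul, show d * (a₁ * s) = a₁ * (g * s * g⁻¹ * g) by rw [hg]; group,
      mul_smul, mul_smul, hgc, ← h4, ← mul_smul]
  obtain ⟨P, hP, hvP, -, hPc⟩ := hS'.exists_sylow hH hS hne hswap hle
  exact ⟨_, a₃ • c, P, ⟨a₃, ha₃A, rfl⟩, hS'.invol, hswap, hS'.fixc, hP, hvP, hPc,
    hS'.coreOf_le hH hS hne hswap hle hC⟩

omit [Fact r.Prime] in
/-- `HypA` gives a W-configuration. -/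
theorem theoremA : TheoremA.{u} := by
  intro G _ _ H hS hA
  obtain ⟨r, Y, F, hr, h⟩ := hA
  haveI := Fact.mk hr
  by_cases hall : ∀ p ∈ F, ∀ q ∈ F, p ≠ q → ∀ v : G, ∀ c ∈ F, orderOf v = 2 →
      v ∈ normalizer (Y : Set G) → v • p = q → v • c = c →
      normalizer (closure (invSet v Y) : Set G) ≤ stabilizer G c
  · refine hasW_of_centred hS.se h.ne_two h.dvd F h.two fun p hp q hq hpq => ?_
    obtain ⟨v, c, hc, hv, hvY, hvp, -, hvc⟩ := h.centred p hp q hq hpq
    have hle : Y ≤ pairStab p q := le_inf (h.fix p hp) (h.fix q hq)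
    refine ⟨v, c, Y, hc, hv, hvp, hvc, pairSyl_of_card h.pgroup hle (h.sylow p hp q hq hpq), hvY,
      h.fix c hc, ?_⟩
    have hsub : closure (invSet v Y) ≤ Y := (closure_le _).2 fun x hx => hx.1
    refine (h.fullInv hS.se hp hq hpq hc hv hvY hvp hvc).coreOf_le hS.se (h.pgroup.to_le hsub) hpq hvp
      (hsub.trans hle) ?_
    refine inf_le_right.trans (le_trans (fun d hd => ?_) (hall p hp q hq hpq v c hc hv hvY hvp hvc))
    exact SEBrick.mem_normalizer_of fun x hx => by
      rwa [← mem_centralizer_iff.1 hd x hx, mul_inv_cancel_right]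
  · push Not at hall
    obtain ⟨p, hp, q, hq, hpq, v, c, hc, hv, hvY, hvp, hvc, hN⟩ := hall
    exact exists_centred_orbit hS.se h.ne_two h.dvd
      (h.pgroup.to_le ((closure_le _).2 fun x hx => hx.1)) (h.fullInv hS.se hp hq hpq hc hv hvY hvp hvc) hN

end Cfsg.Agent.SEMain
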