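import Cfsg.Agent.Lib.SEMain.OddKernel
import Cfsg.Agent.Lib.SEMain.Orbital

/-!
# The odd index: the terminal shape

Where a normal subgroup of odd index of `H` has, on a pair, an abelian subgroup regular on the involutions
of `H` and self-centralising there, the involutions of `H` have a centraliser of odd index unless `H` is
doubly transitive on them, which Theorem M forbids.
-/

set_option autoImplicit false
set_option linter.style.haveILetI false
set_option linter.unusedSectionVars false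

namespace Cfsg.Agent.SEMain

open Subgroup MulAction

universe u

/-- No finite group is doubly transitive on the non-identity elements of a normal elementary abelian
subgroup of order above two containing all its involutions. -/
def TheoremM : Prop :=
  ∀ (X : Type u) [Group X] [Finite X] (W : Subgroup X) [W.Normal], (∀ w ∈ W, w * w = 1) →
    (∀ x : X, orderOf x = 2 → x ∈ W) → 2 < Nat.card W →
    (∀ a b c d : X, a ∈ W → b ∈ W → c ∈ W → d ∈ W → a ≠ 1 → b ≠ 1 → c ≠ 1 → d ≠ 1 → a ≠ b → c ≠ d →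
      ∃ x, x * a * x⁻¹ = c ∧ x * b * x⁻¹ = d) → False

variable {G : Type u} [Group G] [Finite G] {H : Subgroup G}

/-- The terminal shape on the pair of the base point and `b`. -/
structure FrobData (H : Subgroup G) (b : G ⧸ H) (H₁ T : Subgroup G) : Prop where
  le : H₁ ≤ H
  norm : H ≤ normalizer (H₁ : Set G)
  oddIndex : Odd (H₁.relIndex H)
  T_le : T ≤ H₁ ⊓ pairStab ((1 : G) : G ⧸ H) b
  T_norm : ∀ d ∈ H₁ ⊓ pairStab ((1 : G) : G ⧸ H) b, ∀ x ∈ T, d * x * d⁻¹ ∈ T
  T_comm : ∀ x ∈ T, ∀ y ∈ T, x * y = y * x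
  selfCent : ∀ d ∈ H₁ ⊓ pairStab ((1 : G) : G ⧸ H) b, d ∉ T → ∀ x ∈ T, d * x = x * d → x = 1
  semi : ∀ x ∈ T, x ≠ 1 → ∀ f : G ⧸ H, x • f = f → f = ((1 : G) : G ⧸ H) ∨ f = b
  free : ∀ x ∈ T, ∀ t ∈ H, orderOf t = 2 → x * t = t * x → x = 1
  trans : ∀ s t : G, s ∈ H → t ∈ H → orderOf s = 2 → orderOf t = 2 → ∃ x ∈ T, x * s * x⁻¹ = t

/-- The 2-elements of `H` lie in a normal subgroup of odd index. -/
theorem mem_of_two_element {H₁ : Subgroup G} (hn : H ≤ normalizer (H₁ : Set G)) (hodd : Odd (H₁.relIndex H))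
    {y : G} (hy : y ∈ H) {n : ℕ} (hy2 : y ^ 2 ^ n = 1) : y ∈ H₁ := by
  haveI : (H₁.subgroupOf H).Normal := normal_subgroupOf_of_le_normalizer hn
  have h1 : orderOf (QuotientGroup.mk' (H₁.subgroupOf H) ⟨y, hy⟩) ∣ 2 ^ n := by
    refine orderOf_dvd_of_pow_eq_one ?_
    rw [← map_pow, show (⟨y, hy⟩ : H) ^ 2 ^ n = 1 from Subtype.ext hy2, map_one]
  have h2 : Odd (orderOf (QuotientGroup.mk' (H₁.subgroupOf H) ⟨y, hy⟩)) :=
    hodd.of_dvd_nat (orderOf_dvd_natCard _)
  obtain ⟨i, -, hi⟩ := (Nat.dvd_prime_pow Nat.prime_two).1 h1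
  rw [hi] at h2
  rcases Nat.eq_zero_or_pos i with rfl | hpos
  · exact (QuotientGroup.eq_one_iff (⟨y, hy⟩ : H)).1 (orderOf_eq_one_iff.1 (hi.trans (pow_zero 2)))
  · exact absurd (Nat.even_pow.2 ⟨even_two, hpos.ne'⟩) (Nat.not_even_iff_odd.2 h2)

/-- In the terminal shape the centraliser of the involutions has odd index. -/
theorem odd_relIndex_of_frobData (hM : TheoremM.{u}) (hS : Setting H) (hc : InvComm H) {b : G ⧸ H}
    (hab : ((1 : G) : G ⧸ H) ≠ b) {H₁ T : Subgroup G} (h : FrobData H b H₁ T) :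
    Odd ((SERegular.invCent H).relIndex H) := by
  classical
  set a := ((1 : G) : G ⧸ H) with ha
  set D := H₁ ⊓ pairStab a b with hD
  set X := H₁.subgroupOf H with hX
  haveI := Fintype.ofFinite X
  haveI := Fintype.ofFinite (InvolIn H)
  set T' : Subgroup X := (T.subgroupOf H).subgroupOf X with hT'
  set D' : Subgroup X := (D.subgroupOf H).subgroupOf X with hD'
  have hTH₁ : T ≤ H₁ := h.T_le.trans inf_le_left
  have hTH : T ≤ H := hTH₁.trans h.le
  have hD'odd : Odd (Nat.card D') := by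
    have hDH : D.subgroupOf H ≤ X := fun x hx => (mem_inf.1 (mem_subgroupOf.1 hx)).1
    rw [Nat.card_congr (subgroupOfEquivOfLe hDH).toEquiv,
      Nat.card_congr (subgroupOfEquivOfLe (inf_le_left.trans h.le : D ≤ H)).toEquiv]
    exact (pairStab_odd hS.se hab).of_dvd_nat (card_dvd_of_le inf_le_right)
  have hmem : ∀ {x : X}, x ∈ T' ↔ ((x : H) : G) ∈ T := fun {x} => by
    rw [hT', mem_subgroupOf, mem_subgroupOf]
  have hmemD : ∀ {x : X}, x ∈ D' ↔ ((x : H) : G) ∈ D := fun {x} => by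
    rw [hD', mem_subgroupOf, mem_subgroupOf]
  have key : ∀ s : InvolIn H, (∀ p q : InvolIn H, p ≠ s → q ≠ s → ∃ g : X, g • s = s ∧ g • p = q) ∨
      (∀ (g : X) (p q : InvolIn H), g • p = q → g • q = p → p = q) := fun s =>
    trans_or_no_swap s (D := D') (T := T')
      (fun x hx => hmemD.2 (h.T_le (hmem.1 hx))) hD'odd
      (fun d hd x hx => hmem.2 (h.T_norm _ (hmemD.1 hd) _ (hmem.1 hx)))
      (fun x hx y hy => Subtype.ext (Subtype.ext (h.T_comm _ (hmem.1 hx) _ (hmem.1 hy))))
      (fun d hd hdT x hx e => Subtype.ext (Subtype.ext (h.selfCent _ (hmemD.1 hd)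
        (fun h' => hdT (hmem.2 h')) _ (hmem.1 hx)
        (congrArg (fun z : X => ((z : H) : G)) e))))
      (fun g x hx hx1 hgx => by
        refine hmemD.2 (mem_inf.2 ⟨g.2, mem_pairStab.2 ⟨SEBrick.fix_base_iff.2 (g : H).2, ?_⟩⟩)
        have h1 : (((g : H) : G) * ((x : H) : G) * ((g : H) : G)⁻¹) • b = b :=
          (mem_pairStab.1 (mem_inf.1 (h.T_le (hmem.1 hgx))).2).2
        have h2 : ((x : H) : G) • ((g : H) : G)⁻¹ • b = ((g : H) : G)⁻¹ • b := by
          rw [eq_inv_smul_iff, ← mul_smul, ← mul_smul]; exact h1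
        have hga : ((g : H) : G) • a = a := SEBrick.fix_base_iff.2 (g : H).2
        rcases h.semi _ (hmem.1 hx) (fun h' => hx1 (Subtype.ext (Subtype.ext h'))) _ h2 with e | e
        · rw [inv_smul_eq_iff, hga] at e; exact absurd e.symm hab
        · exact (inv_smul_eq_iff.1 e).symm)
      (fun x hx hx1 p he => hx1 (Subtype.ext (Subtype.ext (h.free _ (hmem.1 hx) (p.1 : G) p.1.2
        (by rw [Subgroup.orderOf_coe]; exact p.2)
        (mul_inv_eq_iff_eq_mul.1 (congrArg (fun z : InvolIn H => ((z.1 : H) : G)) he))))))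
      (fun p => by
        obtain ⟨x, hx, he⟩ := h.trans (s.1 : G) (p.1 : G) s.1.2 p.1.2
          (by rw [Subgroup.orderOf_coe]; exact s.2) (by rw [Subgroup.orderOf_coe]; exact p.2)
        exact ⟨⟨⟨x, hTH hx⟩, hTH₁ hx⟩, hmem.2 hx, Subtype.ext (Subtype.ext he)⟩)
  by_cases hns : ∀ (g : X) (p q : InvolIn H), g • p = q → g • q = p → p = q
  · haveI : Fact (Nat.Prime 2) := ⟨Nat.prime_two⟩
    obtain ⟨S⟩ : Nonempty (Sylow 2 H) := inferInstance
    refine SERegular.odd_of_sylow S fun y hy t ht htH => ?_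
    obtain ⟨n, hn⟩ := IsPGroup.iff_orderOf.1 S.isPGroup' ⟨y, hy⟩
    have hyn : (y : G) ^ 2 ^ n = 1 := by
      rw [← hn, Subgroup.orderOf_mk, ← Subgroup.orderOf_coe]; exact pow_orderOf_eq_one _
    let g : X := ⟨y, mem_of_two_element h.norm h.oddIndex y.2 hyn⟩
    have hg : g ^ 2 ^ n = 1 := Subtype.ext (Subtype.ext hyn)
    have hall : ∀ i : ℕ, i ≤ n → ∀ p : InvolIn H, (g ^ 2 ^ (n - i)) • p = p := by
      intro i
      induction i with
      | zero => intro _ p; rw [Nat.sub_zero, hg, one_smul]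
      | succ j ih =>
        intro hj p
        have h1 := ih (by omega) p
        rw [show n - j = n - (j + 1) + 1 by omega, pow_succ, pow_mul, pow_two, mul_smul] at h1
        exact (hns _ p _ rfl h1).symm
    have h1 := hall n le_rfl ⟨⟨t, htH⟩, by rw [Subgroup.orderOf_mk]; exact ht⟩
    rw [Nat.sub_self, pow_zero, pow_one] at h1
    exact ((mul_inv_eq_iff_eq_mul.1 (congrArg (fun z : InvolIn H => ((z.1 : H) : G)) h1))).symm
  · exfalso
    have h2t := fun s => (key s).resolve_right hns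
    haveI : (invSub H hc).Normal := invSub_normal hc
    have hord : ∀ {z : H}, z * z = 1 → z ≠ 1 → orderOf z = 2 := fun {z} hz hz1 =>
      Invol.order_two_of_sq hz hz1
    refine hM H (invSub H hc) (fun w hw => hw) (fun x hx => Invol.mul_self hx) ?_ ?_
    · obtain ⟨s, t, hs, ht, hs2, ht2, hne, -⟩ := hS.pair
      have hsub : ({1, ⟨s, hs⟩, ⟨t, ht⟩} : Set H) ⊆ (invSub H hc : Set H) := by
        rintro x (rfl | rfl | rfl)
        exacts [one_mem _, Subtype.ext (Invol.mul_self hs2), Subtype.ext (Invol.mul_self ht2)]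
      have := Set.ncard_le_ncard hsub (Set.toFinite _)
      rw [Set.ncard_insert_of_notMem (by
          simp only [Set.mem_insert_iff, Set.mem_singleton_iff, not_or]
          exact ⟨fun e => Invol.ne_one hs2 (congrArg Subtype.val e).symm,
            fun e => Invol.ne_one ht2 (congrArg Subtype.val e).symm⟩) (Set.toFinite _),
        Set.ncard_pair (fun e => hne (congrArg Subtype.val e)), ← Nat.card_coe_set_eq] at this
      exact this
    · intro a' b' c' d' ha' hb' hc' hd' ha1 hb1 hc1 hd1 hab' hcd'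
      let A' : InvolIn H := ⟨a', hord ha' ha1⟩
      let B' : InvolIn H := ⟨b', hord hb' hb1⟩
      let C' : InvolIn H := ⟨c', hord hc' hc1⟩
      let D'' : InvolIn H := ⟨d', hord hd' hd1⟩
      obtain ⟨x, hx, he⟩ := h.trans (a' : G) (c' : G) a'.2 c'.2
        (by rw [Subgroup.orderOf_coe]; exact A'.2) (by rw [Subgroup.orderOf_coe]; exact C'.2)
      let x' : X := ⟨⟨x, hTH hx⟩, hTH₁ hx⟩
      have hxA : x' • A' = C' := Subtype.ext (Subtype.ext he)
      have hxB : x' • B' ≠ C' := fun e => hab' (congrArg (fun z : InvolIn H => z.1)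
        (MulAction.injective x' (hxA.trans e.symm)))
      obtain ⟨g, hg1, hg2⟩ := h2t C' (x' • B') D'' hxB
        (fun e => hcd' (congrArg (fun z : InvolIn H => z.1) e).symm)
      refine ⟨((g * x' : X) : H), ?_, ?_⟩
      · exact congrArg (fun z : InvolIn H => z.1) (show (g * x') • A' = C' by rw [mul_smul, hxA, hg1])
      · exact congrArg (fun z : InvolIn H => z.1) (show (g * x') • B' = D'' by rw [mul_smul, hg2])

/-- The input from the descent and the endgame: the odd index or the terminal shape. -/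
def EndShape : Prop :=
  ∀ (G : Type u) [Group G] [Finite G] (H : Subgroup G), Setting H → TwoTrans H →
    SETrans.Weak G (G ⧸ H) ((1 : G) : G ⧸ H) → InvComm H →
    (∀ b : G ⧸ H, ((1 : G) : G ⧸ H) ≠ b → ¬ NoField H b) →
    (∀ b : G ⧸ H, ((1 : G) : G ⧸ H) ≠ b → ∀ d ∈ pairStab ((1 : G) : G ⧸ H) b,
      d ∈ SERegular.invCent H → d = 1) →
    Odd ((SERegular.invCent H).relIndex H) ∨
      ∃ (b : G ⧸ H) (H₁ T : Subgroup G), ((1 : G) : G ⧸ H) ≠ b ∧ FrobData H b H₁ T

/-- The odd index from Theorem M and the terminal shape. -/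
theorem oddIndex_of_endShape (hM : TheoremM.{u}) (hE : EndShape.{u}) : OddIndex.{u} :=
  oddIndex_of_residual fun G _ _ H hS h2 hw hc hno hker => by
    rcases hE G H hS h2 hw hc hno hker with h | ⟨b, H₁, T, hab, hd⟩
    · exact h
    · exact odd_relIndex_of_frobData hM hS hc hab hd

end Cfsg.Agent.SEMain
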