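import Cfsg.Agent.Lib.SEMain.RankTwoCentral
import Cfsg.Agent.Lib.SEMain.Main
import Cfsg.Agent.Lib.Transfer.Basic
import Cfsg.Agent.Lib.Transfer.EngelTransfer
import Cfsg.Agent.Lib.Isolated.RankOne
import Mathlib.NumberTheory.Multiplicity

/-!
# The transfer lemma

In the weak situation, for `r` prime to the number of involutions, a character of order `r` of a two-point
stabiliser in a transitive subgroup `M` of a point stabiliser gives one of `M`, unless the `r`-subgroups are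
cyclic and the elements of order `r` have centralisers of 2-rank one.
-/

set_option autoImplicit false
set_option linter.style.haveILetI false
set_option linter.unusedSectionVars false

namespace Cfsg.Agent.SEMain

open Subgroup MulAction

universe u

variable {G : Type u} [Group G] [Finite G] {H : Subgroup G} {r : ℕ} [Fact r.Prime]

/-- Cyclic `r`-subgroups and rank-one centralisers of the elements of order `r`. -/
def Excepted (L : Subgroup G) (r : ℕ) : Prop :=
  (∀ R ≤ L, IsPGroup r R → IsCyclic R) ∧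
    ∀ x ∈ L, orderOf x = r → BrauerSuzuki.RankOne (centralizer ({x} : Set G))

theorem isPGroup_zpowers_of_pow_eq_one {y : G} {k : ℕ} (hy : y ^ r ^ k = 1) : IsPGroup r (zpowers y) := by
  obtain ⟨j, -, hj⟩ := (Nat.dvd_prime_pow Fact.out).1 (orderOf_dvd_of_pow_eq_one hy)
  exact IsPGroup.of_card (n := j) (by rw [Nat.card_zpowers, hj])

/-- A power map of order dividing `r` on a cyclic `r`-group, `r` odd. -/
theorem conj_facts (hr2 : r ≠ 2) {d y : G} {e : ℕ} (hd : orderOf d = r ^ e) (he : 1 ≤ e) (hy : y ^ r = 1)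
    {n : ℕ} (hn : y * d * y⁻¹ = d ^ n) : (r : ℤ) ∣ (n : ℤ) - 1 ∧ Commute (d * y * d⁻¹) y := by
  have hr : r.Prime := Fact.out
  have hit : ∀ i : ℕ, y ^ i * d * (y ^ i)⁻¹ = d ^ n ^ i := by
    intro i
    induction i with
    | zero => simp
    | succ i ih =>
      calc y ^ (i + 1) * d * (y ^ (i + 1))⁻¹ = y * (y ^ i * d * (y ^ i)⁻¹) * y⁻¹ := by rw [pow_succ']; group
        _ = (y * d * y⁻¹) ^ n ^ i := by rw [ih, conj_pow]
        _ = _ := by rw [hn, ← pow_mul, ← pow_succ']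
  have h1 : (r : ℤ) ^ e ∣ (n : ℤ) ^ r - 1 := by
    have h := hit r
    rw [hy, one_mul, inv_one, mul_one] at h
    have h' : d ^ ((n : ℤ) ^ r) = d ^ (1 : ℤ) := by rw [← Nat.cast_pow, zpow_natCast, zpow_one, ← h]
    have h'' := orderOf_dvd_sub_iff_zpow_eq_zpow.2 h'
    rwa [hd, Nat.cast_pow] at h''
  have hrn : (r : ℤ) ∣ (n : ℤ) - 1 := by
    rw [← ZMod.intCast_zmod_eq_zero_iff_dvd]
    have h := (ZMod.intCast_zmod_eq_zero_iff_dvd ((n : ℤ) ^ r - 1) r).2 (dvd_trans (dvd_pow_self _ (by omega)) h1)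
    push_cast at h ⊢
    rwa [ZMod.pow_card] at h
  refine ⟨hrn, ?_⟩
  obtain ⟨k, hk⟩ := hrn
  obtain ⟨j, hj⟩ := odd_sq_dvd_geom_sum₂_sub (R := ℤ) (p := r) 1 k (hr.odd_of_ne_two hr2)
  simp only [one_pow, mul_one] at hj
  rw [show (1 : ℤ) + r * k = n by linarith] at hj
  have hcop : IsCoprime ((r : ℤ) ^ (e - 1)) (1 + r * j) :=
    IsCoprime.pow_left (⟨-j, 1, by ring⟩ : IsCoprime (r : ℤ) (1 + r * j))
  have h2 : (r : ℤ) ^ (e - 1) ∣ (n : ℤ) - 1 := by
    refine hcop.dvd_of_dvd_mul_right ((mul_dvd_mul_iff_left (Int.natCast_ne_zero.2 hr.ne_zero)).1 ?_)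
    have hg := geom_sum_mul (n : ℤ) r
    rw [← pow_succ', Nat.sub_add_cancel he]
    refine h1.trans (dvd_of_eq ?_)
    rw [← hg, show (∑ i ∈ Finset.range r, (n : ℤ) ^ i) = r + (r : ℤ) ^ 2 * j by linarith]
    ring
  set m : ℤ := 1 - (n : ℤ) with hm
  have hw : d * y * d⁻¹ = d ^ m * y := by
    rw [hm, zpow_sub, zpow_one, zpow_natCast, ← hn]
    group
  have hc : Commute (d ^ m) y := by
    have h3 : d ^ ((n : ℤ) * m) = d ^ m := by
      refine orderOf_dvd_sub_iff_zpow_eq_zpow.1 ?_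
      rw [hd, Nat.cast_pow, ← Nat.sub_add_cancel he, pow_succ]
      refine (mul_dvd_mul h2 ⟨k, hk⟩).trans ⟨-1, ?_⟩
      rw [hm]; ring
    show d ^ m * y = y * d ^ m
    calc d ^ m * y = (y * d * y⁻¹) ^ m * y := by rw [hn, ← zpow_natCast, ← zpow_mul, h3]
      _ = y * d ^ m * y⁻¹ * y := by rw [conj_zpow]
      _ = y * d ^ m := by group
  rw [hw]
  exact hc.mul_left (Commute.refl y)

/-- In a cyclic group the elements whose order divides that of `d` are powers of `d`. -/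
theorem mem_zpowers_of_isCyclic {K : Subgroup G} [IsCyclic K] {d x : G} (hd : d ∈ K) (hx : x ∈ K)
    (h : x ^ orderOf d = 1) : x ∈ zpowers d := by
  classical
  haveI := Fintype.ofFinite K
  set dK : K := ⟨d, hd⟩ with hdK
  have hsub : ((zpowers dK : Subgroup K) : Set K) ⊆ {z : K | z ^ orderOf dK = 1} := by
    intro z hz
    obtain ⟨k, rfl⟩ := mem_zpowers_iff.1 hz
    show (dK ^ k) ^ orderOf dK = 1
    rw [← zpow_natCast, ← zpow_mul, mul_comm, zpow_mul, zpow_natCast, pow_orderOf_eq_one, one_zpow]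
  have hle : ({z : K | z ^ orderOf dK = 1} : Set K).ncard ≤ ((zpowers dK : Subgroup K) : Set K).ncard := by
    rw [← Nat.card_coe_set_eq ((zpowers dK : Subgroup K) : Set K),
      show Nat.card ((zpowers dK : Subgroup K) : Set K) = orderOf dK from Nat.card_zpowers dK,
      Set.ncard_eq_toFinset_card', Set.toFinset_setOf]
    exact IsCyclic.card_pow_eq_one_le (orderOf_pos dK)
  have hmem : (⟨x, hx⟩ : K) ∈ ((zpowers dK : Subgroup K) : Set K) := by
    rw [Set.eq_of_subset_of_ncard_le hsub hle (Set.toFinite _)]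
    show (⟨x, hx⟩ : K) ^ orderOf dK = 1
    exact Subtype.ext (by rw [hdK, Subgroup.orderOf_mk]; simpa using h)
  obtain ⟨k, hk⟩ := mem_zpowers_iff.1 hmem
  exact mem_zpowers_iff.2 ⟨k, by simpa [hdK] using congrArg Subtype.val hk⟩

/-- Rank one passes to the centraliser of a conjugate. -/
theorem rankOne_centralizer_conj {x g : G}
    (h : BrauerSuzuki.RankOne (centralizer ({g * x * g⁻¹} : Set G))) :
    BrauerSuzuki.RankOne (centralizer ({x} : Set G)) := by
  let f : centralizer ({x} : Set G) →* centralizer ({g * x * g⁻¹} : Set G) :=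
    MonoidHom.mk' (fun z => ⟨g * z * g⁻¹, by
      have hz : (z : G) * x = x * z := mem_centralizer_singleton_iff.1 z.2
      refine mem_centralizer_singleton_iff.2 ?_
      show g * z * g⁻¹ * (g * x * g⁻¹) = g * x * g⁻¹ * (g * z * g⁻¹)
      calc g * z * g⁻¹ * (g * x * g⁻¹) = g * (z * x) * g⁻¹ := by group
        _ = g * (x * z) * g⁻¹ := by rw [hz]
        _ = _ := by group⟩) fun a b => Subtype.ext (show g * (a * b : G) * g⁻¹ = g * a * g⁻¹ * (g * b * g⁻¹) by
          group)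
  exact h.of_injective f fun a b e => Subtype.ext ((MulAut.conj g).injective (congrArg Subtype.val e))

variable (hH : Cfsg.IsStronglyEmbedded H) (hw : SETrans.Weak G (G ⧸ H) ((1 : G) : G ⧸ H))
include hH hw

/-- Outside the exception a non-trivial `r`-element `d` has an element of order `r` and rank two
normalising `⟨d⟩`. -/
theorem exists_rankTwo_normalizing (hp : HasPair H) (hr2 : r ≠ 2) (hrm : ¬ r ∣ numInv H)
    {a b : G ⧸ H} (hab : a ≠ b) {L : Subgroup G} (hL : L ≤ pairStab a b) (hex : ¬ Excepted L r)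
    {d : G} (hdL : d ∈ L) {e : ℕ} (hd : orderOf d = r ^ e) (he : 1 ≤ e) :
    ∃ y ∈ L, y ≠ 1 ∧ y ^ r = 1 ∧ (∃ n : ℕ, y * d * y⁻¹ = d ^ n) ∧
      (∃ n : ℕ, y⁻¹ * d * y = d ^ n) ∧ ¬ BrauerSuzuki.RankOne (centralizer ({y} : Set G)) := by
  classical
  have hr : r.Prime := Fact.out
  set z := d ^ r ^ (e - 1) with hz
  have hzo : orderOf z = r := by
    have hne : r ^ (e - 1) ≠ 0 := (pow_ne_zero _ hr.ne_zero)
    rw [hz, orderOf_pow' d hne, hd, Nat.gcd_eq_right (pow_dvd_pow r (Nat.sub_le e 1)),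
      Nat.pow_div (Nat.sub_le e 1) hr.pos, show e - (e - 1) = 1 by omega, pow_one]
  by_cases hzr : BrauerSuzuki.RankOne (centralizer ({z} : Set G))
  swap
  · refine ⟨z, pow_mem hdL _, fun h => ?_, hzo ▸ pow_orderOf_eq_one z, ⟨1, ?_⟩, ⟨1, ?_⟩, hzr⟩
    · rw [h, orderOf_one] at hzo
      exact hr.one_lt.ne hzo
    · rw [pow_one, hz, mul_inv_eq_iff_eq_mul, ← pow_succ, ← pow_succ']
    · rw [pow_one, mul_assoc, inv_mul_eq_iff_eq_mul, hz, ← pow_succ, ← pow_succ']
  have hdR : IsPGroup r (zpowers (⟨d, hdL⟩ : L)) :=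
    IsPGroup.of_card (n := e) (by rw [Nat.card_zpowers, Subgroup.orderOf_mk, hd])
  obtain ⟨Q, hQ⟩ := hdR.exists_le_sylow
  set R := (Q : Subgroup L).map L.subtype with hR
  have hRL : R ≤ L := map_subtype_le _
  have hRp : IsPGroup r R := Q.isPGroup'.map _
  have hdR' : d ∈ R := ⟨⟨d, hdL⟩, hQ (mem_zpowers _), rfl⟩
  have hRc : ¬ IsCyclic R := by
    intro hc
    haveI := hc
    haveI : IsCyclic (Q : Subgroup L) :=
      ((Q : Subgroup L).equivMapOfInjective L.subtype L.subtype_injective).isCyclic.2 hc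
    refine hex ⟨fun P hPL hP => ?_, fun x hxL hx => ?_⟩
    · obtain ⟨S, hS⟩ := (hP.comap_subtype : IsPGroup r (P.subgroupOf L)).exists_le_sylow
      haveI : IsCyclic (S : Subgroup L) := (S.equiv Q).isCyclic.2 inferInstance
      exact (subgroupOfEquivOfLe hPL).isCyclic.1
        (isCyclic_of_injective (inclusion hS) (inclusion_injective hS))
    · obtain ⟨S, hS⟩ := (IsPGroup.of_card (p := r) (n := 1)
        (by rw [Nat.card_zpowers, Subgroup.orderOf_mk, hx, pow_one]) :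
        IsPGroup r (zpowers (⟨x, hxL⟩ : L))).exists_le_sylow
      obtain ⟨g, hg⟩ := MulAction.exists_smul_eq L S Q
      have hxQ : g * ⟨x, hxL⟩ * g⁻¹ ∈ ((g • S : Sylow r L) : Subgroup L) := by
        rw [Sylow.coe_subgroup_smul]
        exact ⟨_, hS (mem_zpowers _), rfl⟩
      rw [hg] at hxQ
      have hxR : (g : G) * x * (g : G)⁻¹ ∈ R := ⟨_, hxQ, rfl⟩
      have hzR : z ∈ R := pow_mem hdR' _
      have hxo : orderOf ((g : G) * x * (g : G)⁻¹) = r := (Invol.order_conj _ _).trans hx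
      have h1 := mem_zpowers_of_isCyclic hzR hxR (by rw [hzo, ← hxo, pow_orderOf_eq_one])
      have h2 := mem_zpowers_of_isCyclic hxR hzR (by rw [hxo, ← hzo, pow_orderOf_eq_one])
      refine rankOne_centralizer_conj (g := (g : G)) ?_
      have hce : centralizer ({z} : Set G) = centralizer ({(g : G) * x * (g : G)⁻¹} : Set G) := by
        refine le_antisymm (fun c hc => ?_) fun c hc => ?_
        · obtain ⟨k, hk⟩ := mem_zpowers_iff.1 h1
          rw [← hk]
          exact mem_centralizer_singleton_iff.2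
            ((Commute.zpow_right (mem_centralizer_singleton_iff.1 hc) k).eq)
        · obtain ⟨k, hk⟩ := mem_zpowers_iff.1 h2
          rw [← hk]
          exact mem_centralizer_singleton_iff.2
            ((Commute.zpow_right (mem_centralizer_singleton_iff.1 hc) k).eq)
      exact hce ▸ hzr
  set R₁ := R ⊓ normalizer (zpowers d : Set G) with hR₁
  have hR₁R : R₁ ≤ R := inf_le_left
  have hdR₁ : d ∈ R₁ := mem_inf.2 ⟨hdR', le_normalizer (mem_zpowers d)⟩
  have hR₁c : ¬ IsCyclic R₁ := by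
    intro hc
    haveI := hc
    obtain ⟨g, hgR, hgn, hg⟩ := exists_normalizer_gt hRp hR₁R fun e => hRc (e ▸ hc)
    refine hg (mem_inf.2 ⟨hgR, SEBrick.mem_normalizer_of fun x hx => ?_⟩)
    obtain ⟨k, rfl⟩ := mem_zpowers_iff.1 hx
    rw [← conj_zpow]
    refine zpow_mem (mem_zpowers_of_isCyclic hdR₁ (SEBrick.conj_mem_of hgn hdR₁) ?_) k
    rw [conj_pow, pow_orderOf_eq_one, mul_one, mul_inv_cancel]
  have hzR₁ : z ∈ R₁ := pow_mem hdR₁ _
  obtain ⟨y₁, hy₁R, hy₁r, hy₁z⟩ : ∃ y₁ ∈ R₁, y₁ ^ r = 1 ∧ y₁ ∉ zpowers z := by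
    by_contra hno
    push Not at hno
    refine hR₁c (IsolatedP.isCyclic_of_odd_unique (hRp.to_le hR₁R) hr2 ⟨z, hzR₁⟩
      (Subtype.ext (by simpa [hzo] using pow_orderOf_eq_one z)) fun y hy => ?_)
    obtain ⟨k, hk⟩ := mem_zpowers_iff.1 (hno y y.2 (by simpa using congrArg Subtype.val hy))
    exact mem_zpowers_iff.2 ⟨k, Subtype.ext (by simpa using hk)⟩
  have hnat : ∀ y ∈ R₁, ∃ n : ℕ, y * d * y⁻¹ = d ^ n := fun y hy => by
    obtain ⟨n, hn⟩ := mem_powers_iff_mem_zpowers.2 (SEBrick.conj_mem_of hy.2 (mem_zpowers d))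
    exact ⟨n, hn.symm⟩
  have hy₁c : Commute y₁ z := by
    obtain ⟨n, hn⟩ := hnat y₁ hy₁R
    obtain ⟨k, hk⟩ := (conj_facts hr2 hd he hy₁r hn).1
    have hzn : z ^ n = z := by
      calc z ^ n = z ^ (1 + (r : ℤ) * k) := by rw [← zpow_natCast, show (n : ℤ) = 1 + r * k by linarith]
        _ = z := by rw [zpow_add, zpow_one, zpow_mul, zpow_natCast, ← hzo, pow_orderOf_eq_one, one_zpow, mul_one]
    refine mul_inv_eq_iff_eq_mul.1 ?_
    rw [hz, ← conj_pow, hn, ← pow_mul, mul_comm, pow_mul, ← hz, hzn]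
  set E := closure ({z, y₁} : Set G) with hE
  haveI : IsMulCommutative E := isMulCommutative_closure (by
    rintro x (rfl | rfl) y (rfl | rfl)
    exacts [rfl, hy₁c.eq.symm, hy₁c.eq, rfl])
  have hER₁ : E ≤ R₁ := (closure_le _).2 (by
    rintro x (rfl | rfl)
    exacts [hzR₁, hy₁R])
  have hzE : z ∈ E := subset_closure (Or.inl rfl)
  have hy₁E : y₁ ∈ E := subset_closure (Or.inr rfl)
  have hEc : ¬ IsCyclic E := fun hc => by
    haveI := hc
    exact hy₁z (mem_zpowers_of_isCyclic hzE hy₁E (by rw [hzo]; exact hy₁r))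
  obtain ⟨y, hy, hy1, hyrk⟩ := exists_rankTwo_of_not_cyclic hH hw hp hr2 hrm hab
    (hRp.to_le (hER₁.trans hR₁R)) hEc ((hER₁.trans hR₁R).trans (hRL.trans hL))
  have hyr : y ^ r = 1 := by
    have key : ∀ x ∈ E, x ^ r = 1 := by
      intro x hx
      induction hx using closure_induction with
      | mem x hx =>
        rcases hx with rfl | rfl
        · rw [← hzo, pow_orderOf_eq_one]
        · exact hy₁r
      | one => exact one_pow r
      | mul x x' hx hx' ihx ihx' =>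
        have hc : (⟨x, hx⟩ : E) * ⟨x', hx'⟩ = ⟨x', hx'⟩ * ⟨x, hx⟩ := mul_comm' _ _
        rw [(show Commute x x' from congrArg Subtype.val hc).mul_pow, ihx, ihx', one_mul]
      | inv x _ ih => rw [inv_pow, ih, inv_one]
    exact key y hy
  obtain ⟨n', hn'⟩ := hnat y⁻¹ (inv_mem (hER₁ hy))
  exact ⟨y, hRL (hR₁R (hER₁ hy)), hy1, hyr, hnat y (hER₁ hy), ⟨n', by rwa [inv_inv] at hn'⟩, hyrk⟩

omit hH hw in
/-- An invariant product is the product over the fixed points. -/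
theorem prod_eq_prod_fixed {A ι Γ : Type*} [CommGroup A] [Fintype ι] [Group Γ] [Finite Γ] [MulAction Γ ι]
    (hΓ : IsPGroup r Γ) (f : ι → A) (hf : ∀ (g : Γ) (c : ι), f (g • c) = f c) (hA : ∀ v : A, v ^ r = 1)
    (s : Finset ι) (hs : ∀ c, c ∈ s ↔ c ∈ fixedPoints Γ ι) : ∏ c, f c = ∏ c ∈ s, f c := by
  classical
  rw [← Finset.prod_fiberwise_of_maps_to (g := f) (t := Finset.univ.image f)
      (fun c hc => Finset.mem_image_of_mem f hc) f,
    ← Finset.prod_fiberwise_of_maps_to (g := f) (t := Finset.univ.image f) (s := s)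
      (fun c _ => Finset.mem_image_of_mem f (Finset.mem_univ c)) f]
  refine Finset.prod_congr rfl fun v _ => ?_
  rw [Finset.prod_congr rfl (fun c hc => (Finset.mem_filter.1 hc).2), Finset.prod_const,
    Finset.prod_congr rfl (fun c hc => (Finset.mem_filter.1 hc).2), Finset.prod_const]
  let T : SubMulAction Γ ι := ⟨{c | f c = v}, fun g c hc => (hf g c).trans hc⟩
  have h := hΓ.card_modEq_card_fixedPoints T
  have h1 : Nat.card T = (Finset.univ.filter fun c => f c = v).card := by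
    rw [← Fintype.card_subtype, ← Nat.card_eq_fintype_card]
    rfl
  have h2 : Nat.card (fixedPoints Γ T) = (s.filter fun c => f c = v).card := by
    rw [← Fintype.card_coe, ← Nat.card_eq_fintype_card]
    refine Nat.card_congr
      { toFun := fun c => ⟨c.1.1, Finset.mem_filter.2
          ⟨(hs _).2 fun g => congrArg Subtype.val (c.2 g), c.1.2⟩⟩
        invFun := fun c => ⟨⟨c.1, (Finset.mem_filter.1 c.2).2⟩,
          fun g => Subtype.ext ((hs _).1 (Finset.mem_filter.1 c.2).1 g)⟩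
        left_inv := fun c => rfl
        right_inv := fun c => rfl }
  rw [h1, h2] at h
  exact pow_eq_pow_iff_modEq.2 (h.of_dvd (orderOf_dvd_of_pow_eq_one (hA v)))

omit hH hw in
theorem pow_r_eq_one (v : Multiplicative (ZMod r)) : v ^ r = 1 := by
  have h := pow_card_eq_one' (x := v)
  rwa [Nat.card_congr Multiplicative.toAdd, Nat.card_zmod] at h

omit hH hw in
/-- A non-trivial character of exponent `r` is non-trivial on an `r`-element, so on one of least order. -/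
theorem exists_least {L : Subgroup G} (φ : L →* Multiplicative (ZMod r)) (hφ : φ ≠ 1) :
    ∃ (d : G) (hd : d ∈ L) (e : ℕ), 1 ≤ e ∧ orderOf d = r ^ e ∧ φ ⟨d, hd⟩ ≠ 1 ∧
      ∀ (x : G) (hx : x ∈ L) (j : ℕ), orderOf x = r ^ j → j < e → φ ⟨x, hx⟩ = 1 := by
  classical
  have hex0 : ∃ k : ℕ, ∃ x : L, orderOf x = r ^ k ∧ φ x ≠ 1 := by
    obtain ⟨g, hg⟩ : ∃ g : L, φ g ≠ 1 := by
      by_contra hno
      push Not at hno
      exact hφ (MonoidHom.ext hno)
    obtain ⟨u, v, huv, -, -, ⟨k, hk⟩, hv⟩ := PBasic.exists_pPart_mul (p := r) g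
    refine ⟨k, u, hk, fun h => hg ?_⟩
    have hv1 : φ v = 1 := orderOf_eq_one_iff.1
      (Nat.eq_one_of_dvd_coprimes hv (orderOf_map_dvd φ v) (orderOf_dvd_of_pow_eq_one (pow_r_eq_one _)))
    rw [← huv, map_mul, h, hv1, mul_one]
  obtain ⟨⟨d, hdL⟩, hd, hφd⟩ := Nat.find_spec hex0
  rw [Subgroup.orderOf_mk] at hd
  refine ⟨d, hdL, Nat.find hex0, ?_, hd, hφd, fun x hx j hj hlt => not_not.1 fun h =>
    Nat.find_min hex0 hlt ⟨⟨x, hx⟩, by rw [Subgroup.orderOf_mk]; exact hj, h⟩⟩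
  by_contra h0
  rw [show Nat.find hex0 = 0 by omega, pow_zero, orderOf_eq_one_iff] at hd
  subst hd
  exact hφd (map_one φ)

omit hH hw in
/-- `d` permutes the set of 2-elements of `C(y)` at `a`, so centralises those carrying `b` to a point it fixes. -/
theorem exists_commute_of_regular {a b : G ⧸ H} {y d : G} (hya : y • a = a) (hyb : y • b = b)
    (hda : d • a = a) (hdb : d • b = b) (hcomm : Commute (d * y * d⁻¹) y) {S : Subgroup G}
    (hS2 : IsPGroup 2 S) (hSle : S ≤ centralizer ({y} : Set G) ⊓ stabilizer G a)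
    (hSall : ∀ x ∈ centralizer ({y} : Set G), x • a = a → IsPGroup 2 (zpowers x) → x ∈ S)
    (hStr : ∀ f : G ⧸ H, y • f = f → f ≠ a → ∃ s ∈ S, s • b = f)
    (hSfree : ∀ s ∈ S, s • b = b → s = 1) {f : G ⧸ H} (hfa : f ≠ a) (hy' : y • f = f) (hd' : d • f = f) :
    ∃ s ∈ S, Commute s d ∧ s • b = f := by
  obtain ⟨s, hs, hse⟩ := hStr f hy' hfa
  refine ⟨s, hs, ?_, hse⟩
  obtain ⟨hsX, hsa⟩ := hSle hs
  have hsa' : s • a = a := hsa
  have hs2 : IsPGroup 2 (zpowers s) := hS2.to_le (zpowers_le.2 hs)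
  have huniq : ∀ t ∈ S, t • b = s • b → t = s := fun t ht htb => by
    have := hSfree (s⁻¹ * t) (mul_mem (inv_mem hs) ht) (by rw [mul_smul, htb, inv_smul_smul])
    exact (inv_mul_eq_one.1 this).symm
  have hcs : s * y = y * s := mem_centralizer_singleton_iff.1 hsX
  set y' := d * y * d⁻¹ with hy'def
  have hy'a : y' • a = a := by rw [hy'def, mul_smul, mul_smul, inv_smul_eq_iff.2 hda.symm, hya, hda]
  have hy'b : y' • b = b := by rw [hy'def, mul_smul, mul_smul, inv_smul_eq_iff.2 hdb.symm, hyb, hdb]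
  have hy'f : y' • s • b = s • b := by
    rw [hse, hy'def, mul_smul, mul_smul, inv_smul_eq_iff.2 hd'.symm, hy', hd']
  have hy's : y' * s * y'⁻¹ = s := by
    refine huniq _ (hSall _ ?_ ?_ ?_) ?_
    · exact mul_mem (mul_mem (mem_centralizer_singleton_iff.2 hcomm.eq) hsX)
        (inv_mem (mem_centralizer_singleton_iff.2 hcomm.eq))
    · rw [mul_smul, mul_smul, inv_smul_eq_iff.2 hy'a.symm, hsa', hy'a]
    · have h := hs2.map (MulAut.conj y').toMonoidHom
      rwa [MonoidHom.map_zpowers] at h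
    · rw [mul_smul, mul_smul, inv_smul_eq_iff.2 hy'b.symm, hy'f]
  have hds : d⁻¹ * s * d = s := by
    refine huniq _ (hSall _ (mem_centralizer_singleton_iff.2 ?_) ?_ ?_) ?_
    · have h1 : d * y * d⁻¹ * s = s * (d * y * d⁻¹) := mul_inv_eq_iff_eq_mul.1 hy's
      calc d⁻¹ * s * d * y = d⁻¹ * (s * (d * y * d⁻¹)) * d := by group
        _ = d⁻¹ * (d * y * d⁻¹ * s) * d := by rw [h1]
        _ = y * (d⁻¹ * s * d) := by group
    · rw [mul_smul, mul_smul, hda, hsa', inv_smul_eq_iff, hda]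
    · have h := hs2.map (MulAut.conj d⁻¹).toMonoidHom
      rw [MonoidHom.map_zpowers] at h
      rw [show d⁻¹ * s * d = d⁻¹ * s * (d⁻¹)⁻¹ by group]
      exact h
    · rw [mul_smul, mul_smul, hdb, hse, inv_smul_eq_iff, hd']
  show s * d = d * s
  calc s * d = d * (d⁻¹ * s * d) := by group
    _ = d * s := by rw [hds]

omit hH hw in
/-- The transfer of `φ` at an element `d` of least order: `y` permutes the fixed points, the terms of an
orbit agree, and the common fixed points of `y` and `d` are the images of `b` under `C_S(d)`. -/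
theorem transfer_ne_one (hr2 : r ≠ 2) {a b : G ⧸ H} (hab : a ≠ b) {M : Subgroup G}
    (hMa : M ≤ stabilizer G a) (φ : ↥(M ⊓ pairStab a b) →* Multiplicative (ZMod r))
    {d : G} (hdL : d ∈ M ⊓ pairStab a b) {e : ℕ} (hd : orderOf d = r ^ e)
    (hmin : ∀ (x : G) (hx : x ∈ M ⊓ pairStab a b) (j : ℕ), orderOf x = r ^ j → j < e → φ ⟨x, hx⟩ = 1)
    (hφd : φ ⟨d, hdL⟩ ≠ 1) {y : G} (hyD : y ∈ pairStab a b) (hyN : y ∈ normalizer (M : Set G))
    (hyr : y ^ r = 1)
    (hφy : ∀ (x : G) (hx : x ∈ M ⊓ pairStab a b) (hx' : y * x * y⁻¹ ∈ M ⊓ pairStab a b),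
      φ ⟨y * x * y⁻¹, hx'⟩ = φ ⟨x, hx⟩)
    {n' : ℕ} (hn' : y⁻¹ * d * y = d ^ n') (hn'1 : (r : ℤ) ∣ (n' : ℤ) - 1)
    {S : Subgroup G} (hS2 : IsPGroup 2 S) (hSM : S ≤ M) (hSy : ∀ s ∈ S, y • s • b = s • b)
    (hSfree : ∀ s ∈ S, s • b = b → s = 1)
    (hcover : ∀ f : G ⧸ H, f ≠ a → y • f = f → d • f = f → ∃ s ∈ S, Commute s d ∧ s • b = f) :
    ∃ V : M →* Multiplicative (ZMod r), V ⟨d, hdL.1⟩ ≠ 1 := by
  classical
  have hr : r.Prime := Fact.out
  haveI : Fact (Nat.Prime 2) := ⟨Nat.prime_two⟩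
  have hA : ∀ v : Multiplicative (ZMod r), v ^ r = 1 := pow_r_eq_one
  obtain ⟨hya, hyb⟩ := mem_pairStab.1 hyD
  obtain ⟨hda, hdb⟩ := mem_pairStab.1 hdL.2
  -- the transfer
  let φ' : (M ⊓ pairStab a b).subgroupOf M →* Multiplicative (ZMod r) :=
    φ.comp (subgroupOfEquivOfLe (inf_le_left : (M ⊓ pairStab a b) ≤ M)).toMonoidHom
  have hφ'v : ∀ (x : M) (hx : x ∈ (M ⊓ pairStab a b).subgroupOf M), φ' ⟨x, hx⟩ = φ ⟨x, mem_subgroupOf.1 hx⟩ :=
    fun _ _ => rfl
  haveI : Fintype (M ⧸ (M ⊓ pairStab a b).subgroupOf M) := Fintype.ofFinite _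
  refine ⟨MonoidHom.transfer φ', ?_⟩
  set dM : M := ⟨d, hdL.1⟩ with hdM
  rw [EngelTransfer.transfer_eq_prod φ' dM fun k g h hk hdvd => ?hlow]
  case hlow =>
    have ho : orderOf ((g⁻¹ * dM ^ k * g : M) : G) = orderOf d / k := by
      rw [Subgroup.orderOf_coe, show g⁻¹ * dM ^ k * g = (MulAut.conj g⁻¹).toMonoidHom (dM ^ k) by simp,
        orderOf_injective _ (MulAut.conj g⁻¹).injective, orderOf_pow' dM (by omega), Nat.gcd_eq_right hdvd,
        hdM, Subgroup.orderOf_mk]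
    rw [hdM, Subgroup.orderOf_mk, hd] at hdvd
    obtain ⟨i, hi, rfl⟩ := (Nat.dvd_prime_pow hr).1 hdvd
    rw [hd, Nat.pow_div hi hr.pos] at ho
    refine (hφ'v _ h).trans (hmin _ _ (e - i) ho ?_)
    have : 1 ≤ i := Nat.one_le_iff_ne_zero.2 fun h0 => by rw [h0, pow_zero] at hk; omega
    omega
  -- cosets and points
  set val := EngelTransfer.val φ' dM with hval
  let ψ : M ⧸ (M ⊓ pairStab a b).subgroupOf M → G ⧸ H := fun c => ((c.out : M) : G) • b
  have hψmk : ∀ g : M, ψ (QuotientGroup.mk g) = (g : G) • b := fun g => by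
    obtain ⟨⟨l, hl⟩, hout⟩ := QuotientGroup.mk_out_eq_mul ((M ⊓ pairStab a b).subgroupOf M) g
    show ((QuotientGroup.mk g : M ⧸ (M ⊓ pairStab a b).subgroupOf M).out : G) • b = (g : G) • b
    rw [hout, Subgroup.coe_mul, mul_smul, (mem_pairStab.1 (mem_subgroupOf.1 hl).2).2]
  have hmemL : ∀ m : M, (m : G) • b = b → m ∈ (M ⊓ pairStab a b).subgroupOf M := fun m hm =>
    mem_subgroupOf.2 ⟨m.2, mem_pairStab.2 ⟨mem_stabilizer_iff.1 (hMa m.2), hm⟩⟩
  have hψinj : Function.Injective ψ := fun c c' h => by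
    obtain ⟨g, rfl⟩ := QuotientGroup.mk_surjective c
    obtain ⟨g', rfl⟩ := QuotientGroup.mk_surjective c'
    rw [hψmk, hψmk] at h
    refine QuotientGroup.eq.2 (hmemL _ ?_)
    rw [Subgroup.coe_mul, mul_smul, ← h, Subgroup.coe_inv, inv_smul_smul]
  have hψsmul : ∀ (m : M) c, ψ (m • c) = (m : G) • ψ c := fun m c => by
    obtain ⟨g, rfl⟩ := QuotientGroup.mk_surjective c
    rw [MulAction.Quotient.smul_mk, smul_eq_mul, hψmk, hψmk, Subgroup.coe_mul, mul_smul]
  have hψa : ∀ c, ψ c ≠ a := fun c h =>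
    hab (MulAction.injective _ ((mem_stabilizer_iff.1 (hMa c.out.2)).trans h.symm))
  -- invariance under `y`
  have hconjM : ∀ g ∈ M, y * g * y⁻¹ ∈ M := fun g hg => SEBrick.conj_mem_of hyN hg
  let σ₀ : M ⧸ (M ⊓ pairStab a b).subgroupOf M → M ⧸ (M ⊓ pairStab a b).subgroupOf M := fun c =>
    QuotientGroup.mk (⟨y * (c.out : M) * y⁻¹, hconjM _ c.out.2⟩ : M)
  have hσψ : ∀ c, ψ (σ₀ c) = y • ψ c := fun c => by
    show ψ (QuotientGroup.mk _) = y • ((c.out : M) : G) • b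
    rw [hψmk]
    show (y * ((c.out : M) : G) * y⁻¹) • b = _
    rw [mul_smul, mul_smul, inv_smul_eq_iff.2 hyb.symm]
  let σ : Equiv.Perm (M ⧸ (M ⊓ pairStab a b).subgroupOf M) :=
    Equiv.ofBijective σ₀ (Finite.injective_iff_bijective.1 fun c c' h =>
      hψinj (MulAction.injective y (show y • ψ c = y • ψ c' by rw [← hσψ, ← hσψ, h])))
  have hσpow : ∀ (i : ℕ) c, ψ ((σ ^ i) c) = y ^ i • ψ c := by
    intro i
    induction i with
    | zero => intro c; rw [pow_zero, pow_zero, one_smul]; rfl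
    | succ i ih =>
      intro c
      rw [pow_succ', pow_succ', mul_smul, ← ih c]
      exact hσψ _
  have hσp : IsPGroup r (zpowers σ) := isPGroup_zpowers_of_pow_eq_one (k := 1)
    (Equiv.ext fun c => hψinj (by rw [pow_one, hσpow, hyr, one_smul]; rfl))
  have hy_inv : ∀ x, y * x * y⁻¹ ∈ M ⊓ pairStab a b ↔ x ∈ M ⊓ pairStab a b := by
    intro x
    simp only [mem_inf]
    refine and_congr (mem_normalizer_iff.1 hyN x).symm ⟨fun h => ?_, fun h => mul_mem (mul_mem hyD h) (inv_mem hyD)⟩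
    have h' := mul_mem (mul_mem (inv_mem hyD) h) hyD
    rwa [show y⁻¹ * (y * x * y⁻¹) * y = x by group] at h'
  have hinv : ∀ (g : zpowers σ) c, val (g • c) = val c := by
    have h1 : ∀ c, val (σ₀ c) = val c := by
      intro c
      obtain ⟨g, rfl⟩ := QuotientGroup.mk_surjective c
      have hσg : σ₀ (QuotientGroup.mk g) = QuotientGroup.mk (⟨y * g * y⁻¹, hconjM g g.2⟩ : M) := hψinj (by
        rw [hσψ, hψmk, hψmk]
        show y • (g : G) • b = (y * g * y⁻¹) • b
        rw [mul_smul, mul_smul, inv_smul_eq_iff.2 hyb.symm])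
      rw [hσg]
      set g' : M := ⟨y * g * y⁻¹, hconjM g g.2⟩ with hg'
      have e1 : ((g'⁻¹ * dM * g' : M) : G) = y * ((g : G)⁻¹ * d * g) ^ n' * y⁻¹ := by
        show (y * g * y⁻¹)⁻¹ * d * (y * g * y⁻¹) = _
        have e0 : ((g : G)⁻¹ * d * g) ^ n' = (g : G)⁻¹ * d ^ n' * g := by
          simpa using (conj_pow (a := (g : G)⁻¹) (b := d) (i := n'))
        rw [e0, ← hn']
        group
      obtain ⟨k, hk⟩ := hn'1
      by_cases h : g⁻¹ * dM * g ∈ (M ⊓ pairStab a b).subgroupOf M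
      · have hX : ((g : G)⁻¹ * d * g) ∈ M ⊓ pairStab a b := mem_subgroupOf.1 h
        have hY : y * ((g : G)⁻¹ * d * g) ^ n' * y⁻¹ ∈ M ⊓ pairStab a b := (hy_inv _).2 (pow_mem hX n')
        have hY' : g'⁻¹ * dM * g' ∈ (M ⊓ pairStab a b).subgroupOf M := mem_subgroupOf.2 (by rw [e1]; exact hY)
        rw [hval, EngelTransfer.val_mk φ' dM g h, EngelTransfer.val_mk φ' dM g' hY', hφ'v, hφ'v]
        have e2 : (⟨((g'⁻¹ * dM * g' : M) : G), mem_subgroupOf.1 hY'⟩ : ↥(M ⊓ pairStab a b)) =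
            ⟨_, hY⟩ := Subtype.ext e1
        rw [e2, hφy _ (pow_mem hX n') hY,
          show (⟨((g : G)⁻¹ * d * g) ^ n', pow_mem hX n'⟩ : ↥(M ⊓ pairStab a b)) = ⟨_, hX⟩ ^ n' from rfl,
          map_pow]
        show _ = φ ⟨(g : G)⁻¹ * d * g, hX⟩
        generalize φ ⟨_, hX⟩ = v
        calc v ^ n' = v ^ (1 + (r : ℤ) * k) := by rw [← zpow_natCast, show (n' : ℤ) = 1 + r * k by linarith]
          _ = v := by rw [zpow_add, zpow_one, zpow_mul, zpow_natCast, hA, one_zpow, mul_one]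
      · rw [hval, EngelTransfer.val_mk_not φ' dM g h, EngelTransfer.val_mk_not φ' dM g']
        intro h'
        refine h (mem_subgroupOf.2 ?_)
        have h'' := mem_subgroupOf.1 h'
        rw [e1, hy_inv] at h''
        have hcop : n'.Coprime (orderOf ((g : G)⁻¹ * d * g)) := by
          refine Nat.Coprime.coprime_dvd_right (orderOf_dvd_of_pow_eq_one (n := r ^ e) ?_)
            ((hr.coprime_iff_not_dvd.2 fun hdvd => ?_).symm.pow_right e)
          · rw [show ((g : G)⁻¹ * d * g) ^ r ^ e = (g : G)⁻¹ * d ^ r ^ e * g by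
              simpa using (conj_pow (a := (g : G)⁻¹) (b := d) (i := r ^ e)),
              ← hd, pow_orderOf_eq_one, mul_one, inv_mul_cancel]
          · have h2 : (r : ℤ) ∣ 1 := by
              have := Int.dvd_sub (Int.natCast_dvd_natCast.2 hdvd) ⟨k, hk⟩
              simpa using this
            exact hr.one_lt.ne' (Nat.dvd_one.1 (Int.natCast_dvd_natCast.1 h2))
        obtain ⟨j, hj⟩ := exists_pow_eq_self_of_coprime hcop
        show (g : G)⁻¹ * d * g ∈ _
        rw [← hj]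
        exact pow_mem h'' j
    rintro ⟨g, hg⟩ c
    obtain ⟨i, rfl⟩ := mem_powers_iff_mem_zpowers.2 hg
    show val ((σ ^ i) c) = val c
    clear hg
    induction i generalizing c with
    | zero => rfl
    | succ i ih => rw [pow_succ', Equiv.Perm.mul_apply]; exact (h1 _).trans (ih c)
  rw [prod_eq_prod_fixed (r := r) hσp val hinv hA (Finset.univ.filter fun c => y • ψ c = ψ c) fun c => by
    simp only [Finset.mem_filter, Finset.mem_univ, true_and, mem_fixedPoints]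
    constructor
    · rintro h ⟨g, hg⟩
      have hc : σ ∈ stabilizer (Equiv.Perm _) c := hψinj ((hσψ c).trans h)
      exact zpowers_le.2 hc hg
    · intro h
      rw [← hσψ]
      exact congrArg ψ (h ⟨σ, mem_zpowers σ⟩)]
  -- the fixed cosets
  rw [← Finset.prod_subset (s₁ := Finset.univ.filter fun c => y • ψ c = ψ c ∧ d • ψ c = ψ c)
    (fun c hc => by simp only [Finset.mem_filter, Finset.mem_univ, true_and] at hc ⊢; exact hc.1)
    fun c hc hc' => by
      simp only [Finset.mem_filter, Finset.mem_univ, true_and, not_and] at hc hc'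
      obtain ⟨g, rfl⟩ := QuotientGroup.mk_surjective c
      refine EngelTransfer.val_mk_not φ' dM g fun h => hc' hc ?_
      have h' := (mem_pairStab.1 (mem_subgroupOf.1 h).2).2
      rw [hψmk]
      simpa [mul_smul, inv_smul_eq_iff, hdM] using h']
  have hterm : ∀ c, y • ψ c = ψ c → d • ψ c = ψ c →
      ∃ s : G, ∃ hs : s ∈ S, Commute s d ∧ c = QuotientGroup.mk (⟨s, hSM hs⟩ : M) := by
    intro c hy' hd'
    obtain ⟨s, hs, hsd, hse⟩ := hcover (ψ c) (hψa c) hy' hd'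
    exact ⟨s, hs, hsd, hψinj (by rw [hψmk]; exact hse.symm)⟩
  rw [Finset.prod_congr rfl (g := fun _ => φ ⟨d, hdL⟩) fun c hc => by
    simp only [Finset.mem_filter, Finset.mem_univ, true_and] at hc
    obtain ⟨s, hs, hsd, rfl⟩ := hterm c hc.1 hc.2
    have hm : (⟨s, hSM hs⟩ : M)⁻¹ * dM * ⟨s, hSM hs⟩ = dM := Subtype.ext (by
      show s⁻¹ * d * s = d
      rw [mul_assoc, ← hsd.eq, inv_mul_cancel_left])
    have hdm : (⟨s, hSM hs⟩ : M)⁻¹ * dM * ⟨s, hSM hs⟩ ∈ (M ⊓ pairStab a b).subgroupOf M := by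
      rw [hm]
      exact mem_subgroupOf.2 hdL
    rw [hval, EngelTransfer.val_mk φ' dM _ hdm, hφ'v]
    exact congrArg φ (Subtype.ext (congrArg (fun m : M => (m : G)) hm)), Finset.prod_const]
  have hcard : (Finset.univ.filter fun c => y • ψ c = ψ c ∧ d • ψ c = ψ c).card =
      Nat.card ↥(S ⊓ centralizer ({d} : Set G)) := by
    rw [← Fintype.card_coe, ← Nat.card_eq_fintype_card]
    refine (Nat.card_eq_of_bijective (fun s : ↥(S ⊓ centralizer ({d} : Set G)) =>
      (⟨QuotientGroup.mk (⟨s.1, hSM s.2.1⟩ : M), ?_⟩ :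
        {c // c ∈ Finset.univ.filter fun c => y • ψ c = ψ c ∧ d • ψ c = ψ c})) ⟨?_, ?_⟩).symm
    · simp only [Finset.mem_filter, Finset.mem_univ, true_and, hψmk]
      exact ⟨hSy _ s.2.1, smul_fix_of_centralizer s.2.2 hdb⟩
    · intro s s' h
      have h' := congrArg (fun c => ψ c.1) h
      simp only [hψmk] at h'
      refine Subtype.ext (inv_mul_eq_one.1 (hSfree (s'.1⁻¹ * s.1) (mul_mem (inv_mem s'.2.1) s.2.1) ?_)).symm
      rw [mul_smul, h', inv_smul_smul]
    · rintro ⟨c, hc⟩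
      simp only [Finset.mem_filter, Finset.mem_univ, true_and] at hc
      obtain ⟨s, hs, hsd, rfl⟩ := hterm c hc.1 hc.2
      exact ⟨⟨s, hs, mem_centralizer_singleton_iff.2 hsd.eq⟩, rfl⟩
  obtain ⟨j, hj⟩ := IsPGroup.iff_card.1 (hS2.to_le (inf_le_left : S ⊓ centralizer ({d} : Set G) ≤ S))
  rw [hcard, hj]
  intro h
  refine hφd (orderOf_eq_one_iff.1 (Nat.eq_one_of_dvd_coprimes ?_ (orderOf_dvd_of_pow_eq_one (hA _))
    (orderOf_dvd_of_pow_eq_one h)))
  exact ((hr.coprime_iff_not_dvd).2 fun h2 =>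
    hr2 ((Nat.prime_dvd_prime_iff_eq hr Nat.prime_two).1 h2)).pow_right j

/-- The transfer lemma: a character of order `r` of the stabiliser of `b` in `M` gives one of `M`. -/
theorem exists_transfer_quotient (hcore : H.normalCore = ⊥) (ih : Below.{u} (Nat.card G)) (hp : HasPair H)
    (hr2 : r ≠ 2) (hrm : ¬ r ∣ numInv H) {a b : G ⧸ H} (hab : a ≠ b) {M : Subgroup G}
    (hMa : M ≤ stabilizer G a)
    (hM2 : ∀ x : G, x • a = a → IsPGroup 2 (zpowers x) → x ∈ M)
    (φ : ↥(M ⊓ pairStab a b) →* Multiplicative (ZMod r)) (hφ : φ ≠ 1)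
    (hex : ¬ Excepted (M ⊓ pairStab a b) r) :
    ∃ (V : M →* Multiplicative (ZMod r)) (d : G) (hd : d ∈ M ⊓ pairStab a b),
      IsPGroup r (zpowers d) ∧ φ ⟨d, hd⟩ ≠ 1 ∧ V ⟨d, hd.1⟩ ≠ 1 := by
  classical
  have hr : r.Prime := Fact.out
  haveI : Fact (Nat.Prime 2) := ⟨Nat.prime_two⟩
  obtain ⟨d, hdL, e, he, hd, hφd, hmin⟩ := exists_least φ hφ
  have hdp : IsPGroup r (zpowers d) := IsPGroup.of_card (n := e) (by rw [Nat.card_zpowers, hd])
  obtain ⟨y, hyL, hy1, hyr, ⟨n, hn⟩, ⟨n', hn'⟩, hyrk⟩ :=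
    exists_rankTwo_normalizing hH hw hp hr2 hrm hab inf_le_right hex hdL hd he
  have hyp : IsPGroup r (zpowers y) := isPGroup_zpowers_of_pow_eq_one (k := 1) (by rw [pow_one]; exact hyr)
  obtain ⟨hya, hyb⟩ := mem_pairStab.1 hyL.2
  obtain ⟨hda, hdb⟩ := mem_pairStab.1 hdL.2
  obtain ⟨S, hS2, hSle, hSall, hStr, hSfree⟩ :=
    exists_regular_two hH hw hcore ih hr2 hrm hab hyp hy1 hya hyb hyrk
  obtain ⟨V, hV⟩ := transfer_ne_one hr2 hab hMa φ hdL hd hmin hφd hyL.2 (le_normalizer hyL.1) hyr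
    (fun x hx hx' => by
      rw [show (⟨y * x * y⁻¹, hx'⟩ : ↥(M ⊓ pairStab a b)) = ⟨y, hyL⟩ * ⟨x, hx⟩ * ⟨y, hyL⟩⁻¹ from rfl,
        map_mul, map_mul, map_inv, mul_comm (φ ⟨y, hyL⟩), mul_inv_cancel_right])
    hn' (conj_facts hr2 hd he (y := y⁻¹) (by rw [inv_pow, hyr, inv_one]) (by rw [inv_inv]; exact hn')).1
    hS2 (fun s hs => hM2 s (hSle hs).2 (hS2.to_le (zpowers_le.2 hs)))
    (fun s hs => smul_fix_of_centralizer (hSle hs).1 hyb) hSfree
    (fun f => exists_commute_of_regular hya hyb hda hdb (conj_facts hr2 hd he hyr hn).2 hS2 hSle hSall hStr hSfree)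
  exact ⟨V, d, hdL, hdp, hφd, hV⟩

end Cfsg.Agent.SEMain
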