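import Cfsg.Agent.Lib.SEMain.WLemma
import Cfsg.Agent.Lib.SEMain.Dichotomy
import Cfsg.Agent.Lib.SEMain.Inv
import Cfsg.Agent.Lib.SERegular.FromSE
import Cfsg.Agent.Lib.SEBender.Core

/-!
# Local subgroups under the induction hypothesis

A proper subgroup `X` with a four-group at `p`, moving `p`, modulo the kernel of its action on the orbit
of `p`: the involutions at `p` commute, the stabiliser of `p` is transitive on the other points of the
orbit, and their number is a power of two.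
-/

set_option autoImplicit false
set_option linter.style.haveILetI false
set_option linter.unusedSectionVars false

namespace Cfsg.Agent.SEMain

open Subgroup MulAction

universe u

variable {G : Type u} [Group G] [Finite G] {H : Subgroup G}

/-- The facts about a local subgroup and the kernel `K` on the orbit of `p`. -/
structure LocalData (X : Subgroup G) (p : G ⧸ H) (K : Subgroup G) : Prop where
  le : K ≤ X
  norm : X ≤ normalizer (K : Set G)
  odd : Odd (Nat.card K)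
  fix : ∀ k ∈ K, ∀ x ∈ X, k • x • p = x • p
  mem : ∀ k ∈ X, (∀ x ∈ X, k • x • p = x • p) → k ∈ K
  comm : ∀ s t : G, s ∈ X → t ∈ X → orderOf s = 2 → orderOf t = 2 → s • p = p → t • p = p →
    s * t * (s * t) ∈ K
  trans : ∀ x y : G, x ∈ X → y ∈ X → x • p ≠ p → y • p ≠ p → ∃ h ∈ X, h • p = p ∧ h • x • p = y • p
  fixed : ∀ (r : ℕ) (R : Subgroup G), r.Prime → r ≠ 2 → IsPGroup r R → R ≤ X → R ≤ stabilizer G p →
    ∃ x ∈ X, x • p ≠ p ∧ R ≤ stabilizer G (x • p)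
  two : ∃ Q : Subgroup G, K ≤ Q ∧ Q ≤ X ⊓ stabilizer G p ∧ (∀ z ∈ Q, ∃ k : ℕ, z ^ 2 ^ k ∈ K) ∧
    (∀ z ∈ X, z • p = p → IsPGroup 2 (zpowers z) → z ∈ Q) ∧
    ∀ x y : G, x ∈ X → y ∈ X → x • p ≠ p → y • p ≠ p → ∃ z ∈ Q, z • x • p = y • p

/-- A subgroup normalising a non-trivial subgroup of a point stabiliser is proper. -/
theorem card_normalizer_lt (hcore : H.normalCore = ⊥) {W : Subgroup G} (hW : W ≠ ⊥) {p : G ⧸ H}
    (hWp : W ≤ stabilizer G p) : Nat.card (normalizer (W : Set G)) < Nat.card G := by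
  refine lt_of_le_of_ne (card_le_card_group _) fun he => hW ?_
  have hWn : W.Normal := normalizer_eq_top_iff.1 (eq_top_of_card_eq _ he)
  rw [eq_bot_iff, ← hcore]
  intro x hx b
  obtain ⟨a, ha⟩ := exists_smul_one p
  have h1 : (a * (b * x * b⁻¹) * a⁻¹) • p = p := hWp (hWn.conj_mem _ (hWn.conj_mem x hx b) a)
  refine SEBrick.fix_base_iff.1 (MulAction.injective a ?_)
  show a • (b * x * b⁻¹) • ((1 : G) : G ⧸ H) = a • ((1 : G) : G ⧸ H)
  rw [← ha] at h1
  simpa [mul_smul] using h1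

theorem exists_localData (hH : Cfsg.IsStronglyEmbedded H) (ih : Below.{u} (Nat.card G)) {X E : Subgroup G}
    {p : G ⧸ H} (hX : Nat.card X < Nat.card G) (hE : SEBrick.IsFour E) (hEX : E ≤ X)
    (hEp : E ≤ stabilizer G p) (hmove : ∃ g ∈ X, g • p ≠ p) :
    ∃ K : Subgroup G, LocalData X p K := by
  classical
  set P := (stabilizer G p).subgroupOf X with hP
  obtain ⟨e, he, he1⟩ := SESolv.IsFour.exists_ne hE
  have heo := hE.order he he1
  obtain ⟨g, hgX, hgp⟩ := hmove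
  have hse : Cfsg.IsStronglyEmbedded P := SESolv.se_sub (se_stab hH p) heo (hEp he) (hEX he)
    fun hle => hgp (hle hgX)
  have hKodd := SEBender.odd_normalCore hse
  obtain ⟨f, hf, hf1, hfe⟩ := exists_third hE e
  have hP2 : HasPair P := ⟨⟨e, hEX he⟩, ⟨f, hEX hf⟩, hEp he, hEp hf, by rwa [Subgroup.orderOf_mk],
    by rw [Subgroup.orderOf_mk]; exact hE.order hf hf1, fun h => hfe (congrArg Subtype.val h).symm,
    Subtype.ext (hE.comm he hf)⟩
  set N := P.normalCore with hN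
  set π := QuotientGroup.mk' N with hπ
  have hNP : N ≤ P := P.normalCore_le
  have hse' := se_map hNP hKodd hse
  have hp' := pair_map hNP hKodd hP2
  have hcore' := core_map hNP (le_refl N)
  obtain ⟨hcomm, hodd⟩ := ih (X ⧸ N) (P.map π)
    ((Nat.card_le_card_of_surjective _ QuotientGroup.mk_surjective).trans_lt hX) hse' hcore' hp'.exists_four
  obtain ⟨Q, hQP, hQn, hQ2, hQtr, hQreg⟩ := SERegular.exists_regular_of_se hse' hcore' hcomm
    (by obtain ⟨s, t, h1, h2, h3, h4, h5, -⟩ := hp'; exact ⟨s, t, h1, h2, h3, h4, h5⟩) hodd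
  have hmemP : ∀ x : X, (x : G) • p = p ↔ π x ∈ P.map π := fun x => (mem_map_iff hNP).symm
  have hout : ∀ w ∈ Q, π w.out = w := fun w _ => QuotientGroup.out_eq' w
  have houtp : ∀ w ∈ Q, ((w.out : X) : G) • p = p := fun w hw => (hmemP _).2 (by rw [hout w hw]; exact hQP hw)
  have hrel : ∀ w ∈ Q, ∀ a b : X, (π b)⁻¹ * (w * π a) ∈ P.map π ↔
      ((w.out : X) : G) • (a : G) • p = (b : G) • p := by
    intro w hw a b
    rw [← hout w hw, ← map_inv, ← map_mul, ← map_mul, ← hmemP, hout w hw, Subgroup.coe_mul,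
      Subgroup.coe_mul, Subgroup.coe_inv, mul_smul, mul_smul, inv_smul_eq_iff]
  refine ⟨N.map X.subtype, map_subtype_le _, SESolv.le_normalizer_map P.normalCore_normal, ?_, ?_, ?_, ?_, ?_, ?_, ?_⟩
  · rw [card_map_of_injective X.subtype_injective]; exact hKodd
  · rintro _ ⟨k, hk, rfl⟩ x hx
    have h : (x⁻¹ * (k : G) * x) • p = p := by
      have := hNP (P.normalCore_normal.conj_mem k hk ⟨x, hx⟩⁻¹)
      rw [hP, mem_subgroupOf, mem_stabilizer_iff] at this
      simpa using this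
    rwa [mul_smul, mul_smul, inv_smul_eq_iff] at h
  · intro k hk hfix
    refine ⟨⟨k, hk⟩, fun b => ?_, rfl⟩
    rw [hP, mem_subgroupOf, mem_stabilizer_iff]
    show ((b : G) * k * (b : G)⁻¹) • p = p
    rw [mul_smul, mul_smul, hfix _ (inv_mem b.2), smul_inv_smul]
  · intro s t hsX htX hs ht hsp htp
    refine ⟨⟨s, hsX⟩ * ⟨t, htX⟩ * (⟨s, hsX⟩ * ⟨t, htX⟩), ?_, rfl⟩
    refine (QuotientGroup.eq_one_iff _).1 ?_
    show π _ = 1
    rw [map_mul, map_mul]
    have hs' := order_mk hNP hKodd (x := (⟨s, hsX⟩ : X)) (by rwa [Subgroup.orderOf_mk])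
    have ht' := order_mk hNP hKodd (x := (⟨t, htX⟩ : X)) (by rwa [Subgroup.orderOf_mk])
    have hc := hcomm (π ⟨s, hsX⟩) (π ⟨t, htX⟩) ((hmemP _).1 hsp) ((hmemP _).1 htp) hs' ht'
    rw [mul_assoc, ← mul_assoc (π ⟨t, htX⟩), ← hc, mul_assoc (π ⟨s, hsX⟩) (π ⟨t, htX⟩), ← mul_assoc]
    exact (congrArg₂ (· * ·) (Invol.mul_self hs') (Invol.mul_self ht')).trans (one_mul 1)
  · intro x y hx hy hxp hyp
    obtain ⟨w, hw, hwe⟩ := hQtr (π ⟨x, hx⟩) (π ⟨y, hy⟩) (fun h => hxp ((hmemP ⟨x, hx⟩).2 h))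
      (fun h => hyp ((hmemP ⟨y, hy⟩).2 h))
    exact ⟨_, (w.out : X).2, houtp w hw, (hrel w hw ⟨x, hx⟩ ⟨y, hy⟩).1 hwe⟩
  · intro r R hr hr2 hR hRX hRp
    haveI := Fact.mk hr
    -- the other points of the orbit
    let A : SubMulAction R (G ⧸ H) :=
      ⟨{f | f ≠ p ∧ ∃ x ∈ X, x • p = f}, by
        rintro ⟨s, hs⟩ f ⟨hfp, x, hx, rfl⟩
        refine ⟨fun h => hfp (MulAction.injective s ?_), s * x, mul_mem (hRX hs) hx, mul_smul s x p⟩
        exact (h.trans (hRp hs).symm : _)⟩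
    have hcard : Nat.card A = Nat.card Q := by
      let φ : Q → A := fun w => ⟨((w.1.out : X) : G) • g • p,
        fun h => hgp (MulAction.injective _ (h.trans (houtp w.1 w.2).symm)),
        _, mul_mem (w.1.out : X).2 hgX, mul_smul _ g p⟩
      refine (Nat.card_eq_of_bijective φ ⟨fun w w' h => ?_, fun f => ?_⟩).symm
      · have h' : ((w.1.out : X) : G) • g • p = ((w'.1.out : X) : G) • g • p := congrArg Subtype.val h
        have hmem := hQreg (π ⟨g, hgX⟩) (fun h => hgp ((hmemP ⟨g, hgX⟩).2 h)) (w'.1⁻¹ * w.1)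
          (mul_mem (inv_mem w'.2) w.2) ((hrel _ (mul_mem (inv_mem w'.2) w.2) ⟨g, hgX⟩ ⟨g, hgX⟩).2 ?_)
        · exact Subtype.ext (inv_mul_eq_one.1 hmem).symm
        · obtain ⟨n, hn, hne⟩ : ∃ n ∈ N, ((w'.1⁻¹ * w.1).out : X) = (w'.1.out : X)⁻¹ * (w.1.out : X) * n := by
            refine ⟨((w'.1.out : X)⁻¹ * (w.1.out : X))⁻¹ * (w'.1⁻¹ * w.1).out, ?_, by group⟩
            refine (QuotientGroup.eq_one_iff _).1 ?_
            show π _ = 1
            rw [map_mul, map_inv, map_mul, map_inv]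
            simp only [hπ, QuotientGroup.mk'_apply, QuotientGroup.out_eq']
            group
          have hn' : (n : G) • g • p = g • p := by
            have := hNP (P.normalCore_normal.conj_mem n hn ⟨g, hgX⟩⁻¹)
            rw [hP, mem_subgroupOf, mem_stabilizer_iff] at this
            simpa [mul_smul, inv_smul_eq_iff] using this
          simp only [hne, Subgroup.coe_mul, Subgroup.coe_inv, mul_smul, hn', h', inv_smul_smul]
      · obtain ⟨hfp, x, hx, hxf⟩ := f.2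
        obtain ⟨w, hw, hwe⟩ := hQtr (π ⟨g, hgX⟩) (π ⟨x, hx⟩) (fun h => hgp ((hmemP ⟨g, hgX⟩).2 h))
          (fun h => hfp (by rw [← hxf]; exact (hmemP ⟨x, hx⟩).2 h))
        exact ⟨⟨w, hw⟩, Subtype.ext (((hrel w hw ⟨g, hgX⟩ ⟨x, hx⟩).1 hwe).trans hxf)⟩
    have hnd : ¬ r ∣ Nat.card A := fun hd => by
      obtain ⟨k, hk⟩ := (IsPGroup.iff_card (p := 2)).1 hQ2
      rw [hcard, hk] at hd
      exact hr2 ((Nat.prime_dvd_prime_iff_eq hr Nat.prime_two).1 (hr.dvd_of_dvd_pow hd))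
    obtain ⟨⟨f, hfp, x, hx, rfl⟩, hfix⟩ : (fixedPoints R A).Nonempty := by
      rw [Set.nonempty_iff_ne_empty]
      intro hempty
      have h := hR.card_modEq_card_fixedPoints A
      rw [Nat.card_eq_zero.2 (Or.inl (Set.isEmpty_coe_sort.2 hempty))] at h
      exact hnd (Nat.modEq_zero_iff_dvd.1 h)
    exact ⟨x, hx, hfp, fun s hs => congrArg Subtype.val (hfix ⟨s, hs⟩)⟩
  · have hreg : Reg (P.map π) Q := ⟨hQP, hQn, hQ2, hQtr, hQreg⟩
    refine ⟨(Q.comap π).map X.subtype, map_mono fun k hk => ?_, ?_, ?_, ?_, ?_⟩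
    · show π k ∈ Q
      rw [show π k = 1 from (QuotientGroup.eq_one_iff k).2 hk]
      exact one_mem Q
    · rintro _ ⟨z, hz, rfl⟩
      exact mem_inf.2 ⟨z.2, mem_stabilizer_iff.2 ((hmemP z).2 (hQP hz))⟩
    · rintro _ ⟨z, hz, rfl⟩
      obtain ⟨k, hk⟩ := hQ2 ⟨π z, hz⟩
      refine ⟨k, z ^ 2 ^ k, (QuotientGroup.eq_one_iff _).1 ?_, rfl⟩
      show π (z ^ 2 ^ k) = 1
      rw [map_pow]
      exact congrArg Subtype.val hk
    · intro z hz hzp hz2
      refine ⟨⟨z, hz⟩, hreg.mem_of_two hse' ((hmemP ⟨z, hz⟩).1 hzp) ?_, rfl⟩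
      obtain ⟨k, hk⟩ := hz2 ⟨z, mem_zpowers z⟩
      obtain ⟨j, -, hj⟩ := (Nat.dvd_prime_pow Nat.prime_two).1 ((orderOf_map_dvd π (⟨z, hz⟩ : X)).trans
        (orderOf_dvd_of_pow_eq_one (n := 2 ^ k) (Subtype.ext (by
          simpa using congrArg Subtype.val hk))))
      exact ⟨j, hj⟩
    · intro x y hx hy hxp hyp
      obtain ⟨w, hw, hwe⟩ := hQtr (π ⟨x, hx⟩) (π ⟨y, hy⟩) (fun h => hxp ((hmemP ⟨x, hx⟩).2 h))
        (fun h => hyp ((hmemP ⟨y, hy⟩).2 h))
      exact ⟨_, ⟨w.out, show π w.out ∈ Q from (hout w hw).symm ▸ hw, rfl⟩,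
        (hrel w hw ⟨x, hx⟩ ⟨y, hy⟩).1 hwe⟩

end Cfsg.Agent.SEMain
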