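import Cfsg.Agent.Lib.SEMain.Basic
import Cfsg.Agent.Lib.Solvable.FixedPointFree

/-!
Strongly embedded subgroups of groups of 2-rank one.
-/

set_option autoImplicit false
set_option linter.style.haveILetI false
set_option linter.unusedSectionVars false

namespace Cfsg.Agent.SEMain

open Subgroup

universe u

variable {G : Type u} [Group G] [Finite G] {H : Subgroup G}

/-- The theorem of Brauer and Suzuki as a factorisation. -/
theorem sup_centralizer (hR : BrauerSuzuki.RankOne G) {z : G} (hz : orderOf z = 2) :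
    Cfsg.oddCore G ⊔ centralizer ({z} : Set G) = ⊤ := by
  haveI : (Cfsg.oddCore G).Normal := FittingCores.pPrimeCore_normal 2
  rw [eq_top_iff]
  intro g _
  set K := Cfsg.oddCore G ⊔ centralizer ({z} : Set G)
  have hzK : z ∈ K := mem_sup_right (mem_centralizer_singleton_iff.2 rfl)
  have ha : g * z * g⁻¹ * z⁻¹ ∈ Cfsg.oddCore G := BrauerSuzuki.inZStar G hR z hz g
  have hz' : orderOf (g * z * g⁻¹) = 2 := (Invol.order_conj g z).trans hz
  have hzz : z * (g * z * g⁻¹) ∈ Cfsg.oddCore G := by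
    have e : z * (g * z * g⁻¹ * z⁻¹) * z⁻¹ = z * (g * z * g⁻¹) := by
      rw [Invol.inv_self hz]
      calc z * (g * z * g⁻¹ * z) * z = z * (g * z * g⁻¹) * (z * z) := by group
        _ = _ := by rw [Invol.mul_self hz, mul_one]
    exact e ▸ ‹(Cfsg.oddCore G).Normal›.conj_mem _ ha z
  have hodd : Odd (orderOf (z * (g * z * g⁻¹))) := SEBrick.odd_order SEBrick.oddCore_odd hzz
  obtain ⟨k, hk, hke⟩ := Invol.conj_of_odd hz hz' hodd
  have hkK : k ∈ K := by
    refine (closure_le K).2 ?_ hk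
    rintro x (rfl | rfl)
    · exact hzK
    · simpa using K.mul_mem (mem_sup_left ha) hzK
  have hc : k⁻¹ * g ∈ centralizer ({z} : Set G) := by
    rw [mem_centralizer_singleton_iff]
    calc k⁻¹ * g * z = k⁻¹ * (g * z * g⁻¹) * g := by group
      _ = k⁻¹ * (k * z * k⁻¹) * g := by rw [hke]
      _ = z * (k⁻¹ * g) := by group
  simpa using K.mul_mem hkK (mem_sup_right hc)

theorem sup_eq_top (hR : BrauerSuzuki.RankOne G) (hH : Cfsg.IsStronglyEmbedded H) :
    Cfsg.oddCore G ⊔ H = ⊤ := by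
  obtain ⟨z, hzH, hz⟩ := Invol.exists_invol hH.2.1
  exact top_le_iff.1 ((sup_centralizer hR hz).ge.trans
    (sup_le_sup le_rfl (Invol.se_centralizer_le hH hz hzH)))

theorem sylow_rankOne (hR : BrauerSuzuki.RankOne G) (S : Sylow 2 G) :
    IsCyclic S ∨ ∃ m : ℕ, 1 ≤ m ∧ Nonempty ((S : Subgroup G) ≃* QuaternionGroup (2 ^ m)) := by
  haveI : Fact (Nat.Prime 2) := ⟨Nat.prime_two⟩
  rcases FpfStruct.cyclic_or_quaternion S.isPGroup' (BrauerSuzuki.abCyclic hR S.isPGroup') with
    h | ⟨-, n, ⟨e⟩⟩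
  · exact Or.inl h
  · rcases Nat.eq_zero_or_pos n with rfl | hn
    · refine Or.inl (isCyclic_of_orderOf_eq_card (e.symm (QuaternionGroup.xa 0)) ?_)
      rw [e.symm.orderOf_eq, QuaternionGroup.orderOf_xa, Nat.card_congr e.toEquiv,
        Nat.card_eq_fintype_card, QuaternionGroup.card]
      norm_num
    · exact Or.inr ⟨n, hn, ⟨e⟩⟩

end Cfsg.Agent.SEMain
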