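import Cfsg.Agent.Lib.SEMain.PairSylow
import Cfsg.Agent.Lib.SEMain.Kernel
import Cfsg.Agent.Lib.SEMain.SolvableEnd
import Cfsg.Agent.Lib.SEModule.Eigen

/-!
# A group generated by all inverted elements

`S` is generated by its elements inverted by `v`, as many as the `r`-part of `m`, and `v` is an
involution with point `c` fixed by `S`. Every pair swapped by `v` over `S` has an invariant Sylow
`r`-subgroup fixing `c`, and its `r'`-core fixes `c` as soon as the part centralising `S` does.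
-/

set_option autoImplicit false
set_option linter.style.haveILetI false
set_option linter.unusedSectionVars false

namespace Cfsg.Agent.SEMain

open Subgroup MulAction
open scoped commutatorElement

universe u

variable {G : Type u} [Group G] [Finite G] {H : Subgroup G}

/-- The elements of `S` inverted by `v`. -/
def invSet (v : G) (S : Subgroup G) : Set G := {x | x ∈ S ∧ v * x * v⁻¹ = x⁻¹}

/-- Fixed times inverted, for an involution normalising an odd subgroup. -/
theorem exists_fix_mul_inv {S : Subgroup G} (hS : Odd (Nat.card S)) {v : G} (hv : orderOf v = 2)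
    (hvS : v ∈ normalizer (S : Set G)) {w : G} (hw : w ∈ S) :
    ∃ f ∈ S, ∃ i ∈ invSet v S, w = f * i ∧ f * v = v * f := by
  obtain ⟨f, hf, i, hi, e, hfv, hiv⟩ := SEModule.exists_fixed_mul_inverted hS (Invol.mul_self hv)
    (fun x hx => by
      have := SEBrick.conj_mem_of hvS hx
      rwa [Invol.inv_self hv] at this) hw
  refine ⟨f, hf, i, ⟨hi, by rwa [Invol.inv_self hv]⟩, e, ?_⟩
  calc f * v = v * f * v * v := by rw [hfv]
    _ = v * f := by rw [mul_assoc (v * f), Invol.mul_self hv, mul_one]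

/-- The inverted elements are as many as the index of the centraliser. -/
theorem card_centralizer_mul_invSet {S : Subgroup G} (hS : Odd (Nat.card S)) {v : G}
    (hv : orderOf v = 2) (hvS : v ∈ normalizer (S : Set G)) :
    Nat.card S = (invSet v S).ncard * Nat.card (S ⊓ centralizer {v} : Subgroup G) := by
  have hvi := Invol.inv_self hv
  have hvv := Invol.mul_self hv
  have hsq : ∀ y ∈ invSet v S, y * v * (y * v) = 1 := fun y hy => by
    have h := hy.2
    rw [hvi] at h
    calc y * v * (y * v) = y * (v * y * v) := by group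
      _ = 1 := by rw [h, mul_inv_cancel]
  have h1 : Nat.card {s : G // ∃ y ∈ invSet v S, s = y * v} = (invSet v S).ncard := by
    rw [← Nat.card_coe_set_eq]
    refine (Nat.card_congr (Equiv.ofBijective (fun y : invSet v S =>
      (⟨y.1 * v, y.1, y.2, rfl⟩ : {s : G // ∃ y ∈ invSet v S, s = y * v})) ⟨fun a b h => ?_, ?_⟩)).symm
    · exact Subtype.ext (mul_right_cancel (congrArg Subtype.val h))
    · rintro ⟨s, y, hy, rfl⟩
      exact ⟨⟨y, hy⟩, rfl⟩
  rw [← h1]
  refine card_eq_conjSet_mul (P := fun s => ∃ y ∈ invSet v S, s = y * v)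
    ⟨1, ⟨one_mem _, by simp⟩, (one_mul v).symm⟩ ?_ ?_
  · rintro d hd _ ⟨y, hy, rfl⟩
    set z := d * (y * v) * d⁻¹ * v with hz
    have hzS : z ∈ S := by
      rw [hz, show d * (y * v) * d⁻¹ * v = d * y * (v * d⁻¹ * v) by group]
      have := SEBrick.conj_mem_of hvS (inv_mem hd)
      rw [hvi] at this
      exact mul_mem (mul_mem hd hy.1) this
    have hz1 : z * v * (z * v) = 1 := by
      have e : z * v = d * (y * v) * d⁻¹ := by rw [hz, mul_assoc _ v v, hvv, mul_one]
      rw [e, show d * (y * v) * d⁻¹ * (d * (y * v) * d⁻¹) = d * (y * v * (y * v)) * d⁻¹ by group,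
        hsq y hy, mul_one, mul_inv_cancel]
    refine ⟨z, ⟨hzS, ?_⟩, by rw [hz, mul_assoc _ v v, hvv, mul_one]⟩
    rw [hvi]
    refine eq_inv_of_mul_eq_one_right ?_
    calc z * (v * z * v) = z * v * (z * v) := by group
      _ = 1 := hz1
  · rintro _ ⟨y, hy, rfl⟩
    obtain ⟨k, hk⟩ := Invol.exists_sqrt (SEBrick.odd_order hS hy.1)
    refine ⟨y ^ k, pow_mem hy.1 k, ?_⟩
    have h := Invol.conj_pow hy.2 k
    rw [hvi] at h
    calc y ^ k * v * (y ^ k)⁻¹ = y ^ k * v * (v * y ^ k * v) := by rw [h]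
      _ = y ^ k * (v * v) * y ^ k * v := by group
      _ = y * v := by rw [hvv, mul_one, ← pow_two, hk]

/-- A subgroup of odd order normalised by `v`, inverted modulo a subgroup holding its derived
subgroup and its elements commuting with `v`. -/
theorem inverted_mod {L M : Subgroup G} (hL : Odd (Nat.card L)) {v : G} (hv : orderOf v = 2)
    (hvL : v ∈ normalizer (L : Set G)) (hLL : ⁅L, L⁆ ≤ M)
    (hC : ∀ f ∈ L, f * v = v * f → f ∈ M) {y : G} (hy : y ∈ L) : v * y * v⁻¹ * y ∈ M := by
  obtain ⟨f, hf, i, hi, rfl, hfv⟩ := exists_fix_mul_inv hL hv hvL hy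
  have hfM := hC f hf hfv
  have h := hi.2
  have e : v * (f * i) * v⁻¹ * (f * i) = f * f * ⁅f⁻¹, i⁻¹⁆ := by
    rw [commutatorElement_def, show v * (f * i) * v⁻¹ = v * f * v⁻¹ * (v * i * v⁻¹) by group, h,
      show v * f * v⁻¹ = f by rw [← hfv, mul_inv_cancel_right]]
    group
  rw [e]
  exact mul_mem (mul_mem hfM hfM) (hLL (commutator_mem_commutator (inv_mem hf) (inv_mem hi.1)))

theorem derived_lt {L : Subgroup G} (hL : Odd (Nat.card L)) (hne : L ≠ ⊥) :
    Nat.card (⁅L, L⁆ : Subgroup G) < Nat.card L := by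
  haveI : Group.IsSolvable L := OddChar.oddSolvable _ hL
  haveI : Nontrivial L := (nontrivial_iff_ne_bot L).2 hne
  have hLL : ⁅L, L⁆ ≤ L := CoprimeAct.commutator_le_left le_normalizer
  refine lt_of_le_of_ne (card_le_of_le hLL) fun e => ?_
  refine (Group.IsSolvable.commutator_lt_top_of_nontrivial L).ne (map_injective L.subtype_injective ?_)
  rw [map_subtype_commutator, ← MonoidHom.range_eq_map, range_subtype]
  exact eq_of_le_of_card_ge hLL e.ge

/-- `S`, `v`, `c`: an involution at `c`, a subgroup fixing `c` and generated by the elements inverted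
by `v`, as many as the `r`-part of `m`. -/
structure FullInv (H : Subgroup G) (r : ℕ) (S : Subgroup G) (v : G) (c : G ⧸ H) : Prop where
  invol : orderOf v = 2
  fixc : v • c = c
  le : S ≤ stabilizer G c
  norm : v ∈ normalizer (S : Set G)
  gen : S ≤ closure (invSet v S)
  card : (invSet v S).ncard = r ^ (numInv H).factorization r

variable {r : ℕ} {S : Subgroup G} {v : G} {c : G ⧸ H}

theorem FullInv.conj (h : FullInv H r S v c) {g : G} (hg : g ∈ normalizer (S : Set G)) :
    FullInv H r S (g * v * g⁻¹) (g • c) := by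
  have hset : invSet (g * v * g⁻¹) S = (fun x => g * x * g⁻¹) '' invSet v S := by
    ext x
    constructor
    · rintro ⟨hx, he⟩
      refine ⟨g⁻¹ * x * g, ⟨(mem_normalizer_iff''.1 hg x).1 hx, ?_⟩, by group⟩
      calc v * (g⁻¹ * x * g) * v⁻¹ = g⁻¹ * (g * v * g⁻¹ * x * (g * v * g⁻¹)⁻¹) * g := by group
        _ = (g⁻¹ * x * g)⁻¹ := by rw [he]; group
    · rintro ⟨y, ⟨hy, he⟩, rfl⟩
      refine ⟨SEBrick.conj_mem_of hg hy, ?_⟩
      calc g * v * g⁻¹ * (g * y * g⁻¹) * (g * v * g⁻¹)⁻¹ = g * (v * y * v⁻¹) * g⁻¹ := by group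
        _ = (g * y * g⁻¹)⁻¹ := by rw [he]; group
  refine ⟨(Invol.order_conj g v).trans h.invol, conj_smul_eq h.fixc, le_stabilizer_smul hg h.le,
    mul_mem (mul_mem hg h.norm) (inv_mem hg), fun x hx => ?_, ?_⟩
  · have h1 : g⁻¹ * x * g ∈ closure (invSet v S) := h.gen ((mem_normalizer_iff''.1 hg x).1 hx)
    have h2 := mem_map_of_mem (MulAut.conj g).toMonoidHom h1
    rw [MonoidHom.map_closure] at h2
    simp only [MulEquiv.coe_toMonoidHom, MulAut.conj_apply] at h2
    rw [show g * (g⁻¹ * x * g) * g⁻¹ = x by group] at h2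
    rw [hset, show (fun x : G => g * x * g⁻¹) = (MulAut.conj g : G → G) from funext fun _ => rfl]
    exact h2
  · rw [hset, Set.ncard_image_of_injective _ fun a b e => mul_left_cancel (mul_right_cancel e), h.card]

/-- An odd subgroup of coprime order normalised by `S` and `v` fixes `c` if its part centralising `S`
does. -/
theorem FullInv.le_stab (hH : Cfsg.IsStronglyEmbedded H) (h : FullInv H r S v c)
    (hSodd : Odd (Nat.card S)) {V : Subgroup G} (hV : Odd (Nat.card V)) (hSV : S ≤ normalizer (V : Set G)) (hvV : v ∈ normalizer (V : Set G))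
    (hcop : (Nat.card S).Coprime (Nat.card V))
    (hC : V ⊓ centralizer (S : Set G) ≤ stabilizer G c) : V ≤ stabilizer G c := by
  set X := stabilizer G c with hX
  have hfixv : ∀ f : G, f * v = v * f → f ∈ X := fun f hf => mem_stabilizer_iff.2
    (Invol.se_fix_unique hH h.invol (by rw [← mul_smul, ← hf, mul_smul, h.fixc]) h.fixc)
  suffices key : ∀ (k : ℕ) (L : Subgroup G), Nat.card L = k → L ≤ V → S ≤ normalizer (L : Set G) →
      v ∈ normalizer (L : Set G) → L ≤ X from key _ V rfl le_rfl hSV hvV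
  intro k
  induction k using Nat.strong_induction_on with
  | _ k ih =>
  intro L hk hLV hSL hvL
  by_cases hL1 : L = ⊥
  · rw [hL1]; exact bot_le
  have hLodd := SEBrick.odd_of_le hV hLV
  haveI : Group.IsSolvable L := OddChar.oddSolvable _ hLodd
  have hLL : ⁅L, L⁆ ≤ L := CoprimeAct.commutator_le_left le_normalizer
  have hD : ⁅L, L⁆ ≤ X := ih _ (hk ▸ derived_lt hLodd hL1) _ rfl (hLL.trans hLV)
    (fun s hs => normalizer_commutator_of (hSL hs) (hSL hs)) (normalizer_commutator_of hvL hvL)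
  set M := L ⊓ X with hM
  have hDM : ⁅L, L⁆ ≤ M := le_inf hLL hD
  have hLM : L ≤ normalizer (M : Set G) := fun l hl => SEBrick.mem_normalizer_of fun m hm => by
    have h1 : ⁅l, m⁆ ∈ M := hDM (commutator_mem_commutator hl (mem_inf.1 hm).1)
    simpa [commutatorElement_def] using mul_mem h1 hm
  have hnorm : ∀ g ∈ normalizer (L : Set G), g ∈ X → ∀ m ∈ M, g * m * g⁻¹ ∈ M := fun g hg hgX m hm =>
    mem_inf.2 ⟨(mem_normalizer_iff.1 hg m).1 (mem_inf.1 hm).1,
      mul_mem (mul_mem hgX (mem_inf.1 hm).2) (inv_mem hgX)⟩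
  have hvX : v ∈ X := h.fixc
  have hinv : ∀ y ∈ L, v * y * v⁻¹ * y ∈ M := fun y hy =>
    inverted_mod hLodd h.invol hvL hDM (fun f hf hfv => mem_inf.2 ⟨hf, hfixv f hfv⟩) hy
  -- inverted elements act trivially on `L` modulo `M`
  have hrel : ∀ z ∈ S, ∀ y ∈ L, z * y * z⁻¹ * y⁻¹ ∈ M := by
    intro z hz
    have hz' := h.gen hz
    suffices H' : z ∈ normalizer (L : Set G) ∧ ∀ y ∈ L, z * y * z⁻¹ * y⁻¹ ∈ M from H'.2
    clear hz
    induction hz' using Subgroup.closure_induction with
    | mem x hx =>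
      refine ⟨hSL hx.1, fun y hy => ?_⟩
      obtain ⟨t, ht⟩ : ∃ t, t ∈ invSet v S ∧ t * t = x := by
        obtain ⟨j, hj⟩ := Invol.exists_sqrt (SEBrick.odd_order hSodd hx.1)
        exact ⟨x ^ j, ⟨pow_mem hx.1 j, Invol.conj_pow hx.2 j⟩, by rw [← pow_two, hj]⟩
      obtain ⟨ht, htx⟩ := ht
      have htL := hSL ht.1
      have htX : t ∈ X := h.le ht.1
      have hy₁ : t⁻¹ * y * t ∈ L := (mem_normalizer_iff''.1 htL y).1 hy
      have hy₂ : t * y * t⁻¹ ∈ L := SEBrick.conj_mem_of htL hy
      -- `v (t y t⁻¹) v = t⁻¹ (v y v) t`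
      have m1 : v * (t * y * t⁻¹) * v⁻¹ * (t * y * t⁻¹) ∈ M := hinv _ hy₂
      have m2 : t⁻¹ * (v * y * v⁻¹ * y) * t ∈ M := by
        have := hnorm t⁻¹ (inv_mem htL) (inv_mem htX) _ (hinv y hy)
        rwa [inv_inv] at this
      have e : v * (t * y * t⁻¹) * v⁻¹ = t⁻¹ * (v * y * v⁻¹) * t := by
        have h2 := ht.2
        calc v * (t * y * t⁻¹) * v⁻¹ = v * t * v⁻¹ * (v * y * v⁻¹) * (v * t * v⁻¹)⁻¹ := by group
          _ = t⁻¹ * (v * y * v⁻¹) * t := by rw [h2, inv_inv]
      rw [e] at m1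
      have m3 : (t⁻¹ * y * t)⁻¹ * (t * y * t⁻¹) ∈ M := by
        have := mul_mem (inv_mem m2) m1
        convert this using 1
        group
      have m4 : (t * y * t⁻¹) * (t⁻¹ * y * t)⁻¹ ∈ M := by
        have := SEBrick.conj_mem_of (hLM hy₁) m3
        convert this using 1
        group
      have := hnorm t htL htX _ m4
      rw [← htx]
      convert this using 1
      group
    | one => exact ⟨one_mem _, fun y _ => by simp [one_mem]⟩
    | mul a b hac hbc ha hb =>
      have ha' := ha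
      have hb' := hb
      refine ⟨mul_mem ha'.1 hb'.1, fun y hy => ?_⟩
      have e : a * b * y * (a * b)⁻¹ * y⁻¹ =
          a * (b * y * b⁻¹) * a⁻¹ * (b * y * b⁻¹)⁻¹ * (b * y * b⁻¹ * y⁻¹) := by group
      rw [e]
      exact mul_mem (ha'.2 _ ((mem_normalizer_iff.1 hb'.1 y).1 hy)) (hb'.2 y hy)
    | inv a hac ha =>
      have ha' := ha
      refine ⟨inv_mem ha'.1, fun y hy => ?_⟩
      have hy' : a⁻¹ * y * a ∈ L := (mem_normalizer_iff''.1 ha'.1 y).1 hy
      have e : a⁻¹ * y * a⁻¹⁻¹ * y⁻¹ = (a * (a⁻¹ * y * a) * a⁻¹ * (a⁻¹ * y * a)⁻¹)⁻¹ := by group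
      rw [e]
      exact inv_mem (ha'.2 _ hy')
  intro y hy
  obtain ⟨d, hd, hyd⟩ := CoprimeAct.exists_mem_centralizer hSL
    (hcop.coprime_dvd_right (card_dvd_of_le hLV)) (Or.inr inferInstance) (inf_le_left : M ≤ L) hLM
    (fun z hz => SEBrick.mem_normalizer_of (hnorm z (hSL hz) (h.le hz))) hy (fun z hz => hrel z hz y hy)
  have hdX : d ∈ X := hC (mem_inf.2 ⟨hLV (mem_inf.1 hd).1, (mem_inf.1 hd).2⟩)
  have := mul_mem hdX (inv_mem (mem_inf.1 hyd).2)
  simpa using this

/-- A swapped pair over `S` has an invariant Sylow `r`-subgroup fixing `c`. -/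
theorem FullInv.exists_sylow (hH : Cfsg.IsStronglyEmbedded H) [Fact r.Prime] (h : FullInv H r S v c)
    (hS : IsPGroup r S) {p q : G ⧸ H} (hpq : p ≠ q) (hvp : v • p = q) (hle : S ≤ pairStab p q) :
    ∃ P : Subgroup G, PairSyl r P p q ∧ v ∈ normalizer (P : Set G) ∧ S ≤ P ∧ P ≤ stabilizer G c := by
  have hodd : Odd (Nat.card (pairStab p q)) := pairStab_odd hH hpq
  have hvD : v ∈ normalizer (pairStab p q : Set G) := swapper_mem_normalizer hH h.invol hvp
  obtain ⟨T, hST, hTv⟩ := CoprimeAct.exists_invariant_sylow_ge (zpowers_le.2 hvD)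
    (by rw [Nat.card_zpowers, h.invol]; exact Nat.coprime_two_left.2 hodd)
    (Or.inr (OddChar.oddSolvable _ hodd)) hle hS (zpowers_le.2 h.norm)
  set P := (T : Subgroup (pairStab p q)).map (pairStab p q).subtype with hP
  have hPD : P ≤ pairStab p q := map_subtype_le _
  have hvP : v ∈ normalizer (P : Set G) := hTv (mem_zpowers v)
  have hPodd : Odd (Nat.card P) := SEBrick.odd_of_le hodd hPD
  have hcard : r ^ (numInv H).factorization r * Nat.card (P ⊓ centralizer {v} : Subgroup G) =
      Nat.card P := by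
    have hD : Nat.card (pairStab p q) =
        numInv H * Nat.card (pairStab p q ⊓ centralizer {v} : Subgroup G) :=
      card_stabTwo_swap hH hpq h.invol hvp
    have hm : numInv H ≠ 0 := (numInv_pos hH).ne'
    rw [hP, CoprimeAct.card_map_sylow, hD, Nat.factorization_mul hm Nat.card_pos.ne', Finsupp.add_apply,
      pow_add]
    refine congrArg (r ^ (numInv H).factorization r * ·) (le_antisymm ?_ ?_)
    · obtain ⟨Q, hQ⟩ := (((T.isPGroup'.map _).to_le inf_le_left).comap_subtype : IsPGroup r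
        ((P ⊓ centralizer {v}).subgroupOf (pairStab p q ⊓ centralizer {v}))).exists_le_sylow
      rw [← CoprimeAct.card_map_sylow Q]
      exact Subgroup.card_le_of_le fun z hz => ⟨⟨z, ⟨hPD hz.1, hz.2⟩⟩, hQ hz, rfl⟩
    · obtain ⟨Q⟩ : Nonempty (Sylow r (pairStab p q ⊓ centralizer {v} : Subgroup G)) := inferInstance
      rw [← CoprimeAct.card_map_sylow Q]
      exact card_inf_centralizer_ge hH hpq h.invol hvD T hvP (Q.isPGroup'.map _) (map_subtype_le _)
  have hn : (invSet v P).ncard = r ^ (numInv H).factorization r := by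
    have := card_centralizer_mul_invSet hPodd h.invol hvP
    rw [← hcard] at this
    exact (Nat.eq_of_mul_eq_mul_right Nat.card_pos this).symm
  have heq : invSet v S = invSet v P := Set.eq_of_subset_of_ncard_le (fun x hx => ⟨hST hx.1, hx.2⟩)
    (by rw [hn, h.card]) (Set.toFinite _)
  refine ⟨P, pairSyl_of_card (T.isPGroup'.map _) hPD (CoprimeAct.card_map_sylow T), hvP, hST,
    fun x hx => ?_⟩
  obtain ⟨f, hf, i, hi, rfl, hfv⟩ := exists_fix_mul_inv hPodd h.invol hvP hx
  refine mul_mem (mem_stabilizer_iff.2 (Invol.se_fix_unique hH h.invol ?_ h.fixc)) (h.le ?_)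
  · rw [← mul_smul, ← hfv, mul_smul, h.fixc]
  · rw [← heq] at hi
    exact hi.1

/-- The core of a swapped pair fixes `c` if its part centralising `S` does. -/
theorem FullInv.coreOf_le (hH : Cfsg.IsStronglyEmbedded H) [Fact r.Prime] (h : FullInv H r S v c)
    (hS : IsPGroup r S) {p q : G ⧸ H} (hpq : p ≠ q) (hvp : v • p = q) (hle : S ≤ pairStab p q)
    (hC : coreOf r p q ⊓ centralizer (S : Set G) ≤ stabilizer G c) :
    coreOf r p q ≤ stabilizer G c :=
  h.le_stab hH (SEBrick.odd_of_le (pairStab_odd hH hpq) hle) (SEBrick.odd_of_le (pairStab_odd hH hpq) (SEMain.coreOf_le p q))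
    (hle.trans (pairStab_le_normalizer_coreOf p q)) (swapper_mem_normalizer_coreOf h.invol hvp)
    (coprime_of_pGroup hS (coreOf_coprime p q)) hC

end Cfsg.Agent.SEMain
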