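import Cfsg.Agent.Lib.SEMain.OddKernel

/-!
# Three-point groups are centralised at each of their points

In the weak situation an odd `p`-group with three fixed points is centralised by an involution at each of
its fixed points.
-/

set_option autoImplicit false
set_option linter.style.haveILetI false
set_option linter.unusedSectionVars false

namespace Cfsg.Agent.SEMain

open Subgroup MulAction

universe u

variable {G : Type u} [Group G] [Finite G] {H : Subgroup G}

/-- An element of `V` inverted by an involution normalising `V` is trivial, if `V` fixes three points. -/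
theorem centralizes_of_normalizes (hH : Cfsg.IsStronglyEmbedded H)
    (hw : SETrans.Weak G (G ⧸ H) ((1 : G) : G ⧸ H)) {p : ℕ} [Fact p.Prime] (hp2 : p ≠ 2) {V : Subgroup G}
    (hV : IsPGroup p V) (h3 : FixesThree H V) {v : G} (hv : orderOf v = 2)
    (hvV : v ∈ normalizer (V : Set G)) : ∀ y ∈ V, v * y = y * v := by
  haveI : Nontrivial (G ⧸ H) := ⟨⟨_, _, (exists_ne_one hH).choose_spec⟩⟩
  intro y hy
  obtain ⟨x₁, x₂, x₃, h12, h23, h13, hx1, hx2, hx3⟩ := h3
  set k := y * v * y⁻¹ * v with hk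
  have hkV : k ∈ V := by
    rw [hk, show y * v * y⁻¹ * v = y * (v * y⁻¹ * v) by group]
    refine mul_mem hy ?_
    have := SEBrick.conj_mem_of hvV (inv_mem hy)
    rwa [Invol.inv_self hv] at this
  by_cases hk1 : k = 1
  · rw [hk, mul_eq_one_iff_eq_inv, Invol.inv_self hv, mul_inv_eq_iff_eq_mul] at hk1
    exact hk1.symm
  exfalso
  have hinv : v * k * v⁻¹ = k⁻¹ := by
    rw [hk, mul_inv_rev, mul_inv_rev, mul_inv_rev, inv_inv, Invol.inv_self hv]
    calc v * (y * v * y⁻¹ * v) * v = v * (y * (v * y⁻¹)) * (v * v) := by group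
      _ = v * (y * (v * y⁻¹)) := by rw [Invol.mul_self hv, mul_one]
  have hkodd : Odd (orderOf k) := by
    obtain ⟨n, hn⟩ := IsPGroup.iff_orderOf.1 hV ⟨k, hkV⟩
    rw [Subgroup.orderOf_mk] at hn
    rw [hn]
    exact ((Fact.out : p.Prime).odd_of_ne_two hp2).pow
  obtain ⟨x, hx, hvx⟩ : ∃ x, V ≤ stabilizer G x ∧ v • x ≠ x := by
    by_cases h1 : v • x₁ = x₁
    · exact ⟨x₂, hx2, fun h2 => h12 (Invol.se_fix_unique hH hv h1 h2)⟩
    · exact ⟨x₁, hx1, h1⟩
  rcases hw.fix_pair ⟨hk1, hkodd, v, x, hv, hinv, hx hkV, hvx⟩ (hx1 hkV) (hx2 hkV) (hx3 hkV) h12 with h | h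
  · exact h13 h.symm
  · exact h23 h.symm

/-- An odd `p`-group with three fixed points is centralised by an involution at each of them. -/
theorem exists_invol_at_fixed (hS : Setting H) (hw : SETrans.Weak G (G ⧸ H) ((1 : G) : G ⧸ H)) {p : ℕ}
    [hp : Fact p.Prime] (hp2 : p ≠ 2) {V : Subgroup G} (hV : IsPGroup p V) (h3 : FixesThree H V)
    {x : G ⧸ H} (hx : V ≤ stabilizer G x) :
    ∃ w : G, orderOf w = 2 ∧ w • x = x ∧ ∀ y ∈ V, w * y = y * w := by
  have hH := hS.se
  induction hn : Nat.card G - Nat.card V using Nat.strong_induction_on generalizing V x with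
  | _ n ih =>
  classical
  obtain ⟨w₀, hw₀, -, hw₀c⟩ := exists_centralizing_invol hH hw hp2 hV h3 (a := x)
  obtain ⟨c, hc⟩ := Invol.se_exists_fix hH hw₀
  have hVc : V ≤ stabilizer G c := fun y hy => mem_stabilizer_iff.2
    (Invol.se_fix_unique hH hw₀ (by rw [← mul_smul, hw₀c y hy, mul_smul, hc]) hc)
  by_cases hxc : x = c
  · exact ⟨w₀, hw₀, hxc ▸ hc, hw₀c⟩
  set X := normalizer (V : Set G) with hX
  have hnorm : ∀ t : G, (∀ y ∈ V, t * y = y * t) → t ∈ X := fun t ht => SEBrick.mem_normalizer_of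
    fun y hy => by rw [ht y hy, mul_inv_cancel_right]; exact hy
  have hw₀X := hnorm w₀ hw₀c
  have hcen : ∀ v : G, orderOf v = 2 → v ∈ X → ∀ y ∈ V, v * y = y * v := fun v hv hvX =>
    centralizes_of_normalizes hH hw hp2 hV h3 hv hvX
  have hconj : ∀ g ∈ X, g • c = x → ∃ w : G, orderOf w = 2 ∧ w • x = x ∧ ∀ y ∈ V, w * y = y * w := by
    intro g hg hgc
    refine ⟨g * w₀ * g⁻¹, (Invol.order_conj g w₀).trans hw₀, ?_,
      hcen _ ((Invol.order_conj g w₀).trans hw₀) (mul_mem (mul_mem hg hw₀X) (inv_mem hg))⟩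
    have := conj_smul_eq (g := g) hc
    rwa [hgc] at this
  -- a larger group with three fixed points
  have hup : ∀ R : Subgroup G, IsPGroup p R → V < R → FixesThree H R → ∀ f : G ⧸ H, R ≤ stabilizer G f →
      ∃ w : G, orderOf w = 2 ∧ w • f = f ∧ ∀ y ∈ R, w * y = y * w := by
    intro R hR hlt hR3 f hf
    refine ih _ ?_ hR hR3 hf rfl
    have h1 : Nat.card V < Nat.card R :=
      lt_of_le_of_ne (card_le_of_le hlt.le) fun e => hlt.ne (eq_of_le_of_card_ge hlt.le e.ge)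
    have h2 : Nat.card R ≤ Nat.card G := card_le_card_group R
    omega
  by_cases hm : ∀ P : Subgroup G, IsPGroup p P → V ≤ P → P ≤ stabilizer G c ⊓ stabilizer G x → P = V
  · obtain ⟨v, -, hvX, hvc, -⟩ := exists_normalizing_swapper_at hH hV (Ne.symm hxc) hVc hx hm
    exact hconj v hvX hvc
  push Not at hm
  obtain ⟨P, hP, hVP, hPD, hPne⟩ := hm
  obtain ⟨g₀, hg₀P, hg₀X, hg₀V⟩ := exists_normalizer_gt hP hVP hPne
  obtain ⟨R, hR0, ⟨hR, hRX⟩, hRmax⟩ := Finite.exists_le_maximal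
    (p := fun S : Subgroup G => IsPGroup p S ∧ S ≤ X ⊓ (stabilizer G c ⊓ stabilizer G x))
    (a := V ⊔ zpowers g₀) ⟨hP.to_le (sup_le hVP (zpowers_le.2 hg₀P)),
      sup_le (le_inf le_normalizer (le_inf hVc hx))
        (zpowers_le.2 (mem_inf.2 ⟨hg₀X, hPD hg₀P⟩))⟩
  have hlt : V < R := lt_of_le_of_ne (le_sup_left.trans hR0) fun e =>
    hg₀V (e ▸ hR0 (mem_sup_right (mem_zpowers g₀)))
  have hRc : R ≤ stabilizer G c := hRX.trans (inf_le_right.trans inf_le_left)
  have hRx : R ≤ stabilizer G x := hRX.trans (inf_le_right.trans inf_le_right)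
  by_cases hR3 : FixesThree H R
  · obtain ⟨w, hw2, hwx, hwc⟩ := hup R hR hlt hR3 x hRx
    exact ⟨w, hw2, hwx, fun y hy => hwc y (hlt.le hy)⟩
  have honly : ∀ f : G ⧸ H, R ≤ stabilizer G f → f = c ∨ f = x := fun f hf => by
    by_contra hno
    obtain ⟨h1, h2⟩ := not_or.1 hno
    exact hR3 ⟨c, x, f, Ne.symm hxc, Ne.symm h2, Ne.symm h1, hRc, hRx, hf⟩
  set Y := X ⊓ stabilizer G c with hY
  have hRY : R ≤ Y := le_inf (hRX.trans inf_le_left) hRc
  -- `R` is a Sylow subgroup of `Y`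
  have hRsyl : ∀ Q : Subgroup G, IsPGroup p Q → Q ≤ Y → R ≤ Q → Q = R := by
    intro Q hQ hQY hRQ
    by_contra hne
    obtain ⟨k, hkQ, hkN, hkR⟩ := exists_normalizer_gt hQ hRQ hne
    have hkc : k • c = c := (mem_inf.1 (hQY hkQ)).2
    have hkx : k • x = x := (honly _ (le_stabilizer_smul hkN hRx)).resolve_left fun e =>
      hxc (MulAction.injective k (e.trans hkc.symm))
    exact hkR ((hRmax (y := R ⊔ zpowers k) ⟨hQ.to_le (sup_le hRQ (zpowers_le.2 hkQ)),
      sup_le hRX (zpowers_le.2 (mem_inf.2 ⟨(mem_inf.1 (hQY hkQ)).1, hkc, hkx⟩))⟩ le_sup_left)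
      (mem_sup_right (mem_zpowers k)))
  by_cases hrk : BrauerSuzuki.RankOne Y
  · exfalso
    obtain ⟨S, hS'⟩ := (hR.comap_subtype : IsPGroup p (R.subgroupOf Y)).exists_le_sylow
    have hSeq : (S : Subgroup Y).map Y.subtype = R := hRsyl _ (S.isPGroup'.map _) (map_subtype_le _)
      fun z hz => ⟨⟨z, hRY hz⟩, hS' hz, rfl⟩
    obtain ⟨Q, hQ⟩ := SETrans.exists_invariant_sylow_of_rankOne (t := (⟨w₀, hw₀X, hc⟩ : Y)) hrk
      (by rw [← Subgroup.orderOf_coe]; exact hw₀) hp2 S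
    obtain ⟨k, hk⟩ := exists_smul_eq Y Q S
    set w : Y := k * ⟨w₀, hw₀X, hc⟩ * k⁻¹ with hwdef
    have hwS : w ∈ normalizer ((S : Subgroup Y) : Set Y) :=
      Sylow.smul_eq_iff_mem_normalizer.1 (show w • S = S by
        rw [hwdef, mul_smul, mul_smul, ← hk, inv_smul_smul, Sylow.smul_eq_iff_mem_normalizer.2 hQ])
    have hw2 : orderOf (w : G) = 2 := by
      rw [Subgroup.orderOf_coe, hwdef, Invol.order_conj, ← Subgroup.orderOf_coe]; exact hw₀
    have hwR : (w : G) ∈ normalizer (R : Set G) := SEBrick.mem_normalizer_of fun z hz => by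
      obtain ⟨s, hs, rfl⟩ := hSeq.symm ▸ hz
      rw [← hSeq]
      exact ⟨w * s * w⁻¹, SEBrick.conj_mem_of hwS hs, rfl⟩
    have hwc : (w : G) • c = c := (mem_inf.1 w.2).2
    rcases honly _ (le_stabilizer_smul hwR hRx) with e | e
    · exact hxc (MulAction.injective (w : G) (e.trans hwc.symm))
    · exact hxc (Invol.se_fix_unique hH hw2 e hwc)
  by_cases hmove : ∃ g ∈ X, g • c ≠ c
  swap
  · exfalso
    push Not at hmove
    obtain ⟨y, hyc, hyx, hy⟩ : ∃ y : G ⧸ H, y ≠ c ∧ y ≠ x ∧ V ≤ stabilizer G y := by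
      obtain ⟨a, b, d, hab, hbd, had, ha, hb, hd⟩ := h3
      by_cases h1 : a = c ∨ a = x
      · by_cases h2 : b = c ∨ b = x
        · exact ⟨d, by rcases h1 with rfl | rfl <;> rcases h2 with rfl | rfl <;> simp_all [Ne.symm],
            by rcases h1 with rfl | rfl <;> rcases h2 with rfl | rfl <;> simp_all [Ne.symm], hd⟩
        · push Not at h2; exact ⟨b, h2.1, h2.2, hb⟩
      · push Not at h1; exact ⟨a, h1.1, h1.2, ha⟩
    by_cases hm' : ∀ P : Subgroup G, IsPGroup p P → V ≤ P → P ≤ stabilizer G x ⊓ stabilizer G y → P = V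
    · obtain ⟨v, hv, hvX, hvx, -⟩ := exists_normalizing_swapper_at hH hV (Ne.symm hyx) hx hy hm'
      have hVD : V ≤ pairStab x y := le_inf hx hy
      obtain ⟨T, hT⟩ := (hV.comap_subtype : IsPGroup p (V.subgroupOf (pairStab x y))).exists_le_sylow
      have hTeq : (T : Subgroup (pairStab x y)).map (pairStab x y).subtype = V :=
        hm' _ (T.isPGroup'.map _) (fun z hz => ⟨⟨z, hVD hz⟩, hT hz, rfl⟩) (map_subtype_le _)
      have hcardV : Nat.card V = p ^ (Nat.card (pairStab x y)).factorization p :=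
        (congrArg (fun Z : Subgroup G => Nat.card Z) hTeq).symm.trans (CoprimeAct.card_map_sylow T)
      obtain ⟨j, hj⟩ := IsPGroup.iff_card.1 hR
      have hd : p ^ j ∣ Nat.card (pairStab x c) :=
        hj ▸ card_dvd_of_le (le_inf hRx hRc : R ≤ pairStab x c)
      rw [card_midpoint hH (Ne.symm hyx) hv hvx (hmove v hvX)] at hd
      have hle : Nat.card R ≤ Nat.card V := by
        rw [hcardV, hj]
        exact Nat.pow_le_pow_right hp.out.pos ((hp.out.pow_dvd_iff_le_factorization Nat.card_pos.ne').1 hd)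
      exact hlt.ne (eq_of_le_of_card_ge hlt.le hle)
    · push Not at hm'
      obtain ⟨P', hP', hVP', hP'D, hP'ne⟩ := hm'
      obtain ⟨g, hgP, hgX, hgV⟩ := exists_normalizer_gt hP' hVP' hP'ne
      have hlt' : V < V ⊔ zpowers g := lt_of_le_of_ne le_sup_left fun e =>
        hgV (e ▸ mem_sup_right (mem_zpowers g))
      have hfix : ∀ f : G ⧸ H, V ≤ stabilizer G f → g • f = f → V ⊔ zpowers g ≤ stabilizer G f :=
        fun f h1 h2 => sup_le h1 (zpowers_le.2 h2)
      obtain ⟨w, hw2, hwx, hwc⟩ := hup _ (hP'.to_le (sup_le hVP' (zpowers_le.2 hgP))) hlt'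
        ⟨c, x, y, Ne.symm hxc, Ne.symm hyx, Ne.symm hyc, hfix c hVc (hmove g hgX),
          hfix x hx (hP'D hgP).1, hfix y hy (hP'D hgP).2⟩ x (hfix x hx (hP'D hgP).1)
      exact hxc (Invol.se_fix_unique hH hw2 hwx (hmove w (hnorm w fun z hz => hwc z (mem_sup_left hz))))
  obtain ⟨u, hu, huw, huc⟩ := exists_commuting hrk (u := (⟨w₀, hw₀X, hc⟩ : Y))
    (by rw [← Subgroup.orderOf_coe]; exact hw₀)
  have hpY : HasPair (Y : Subgroup G) := ⟨w₀, (u : G), ⟨hw₀X, hc⟩, u.2, hw₀,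
    by rw [Subgroup.orderOf_coe]; exact hu, fun e => huw (Subtype.ext e.symm), congrArg Subtype.val huc⟩
  obtain ⟨E, hEY, hE⟩ := hpY.exists_four
  by_cases hXlt : Nat.card X < Nat.card G
  swap
  · -- `V` is normal, so trivial
    have hV0 : V = ⊥ := by
      by_contra hne
      exact hXlt (card_normalizer_lt hS.core hne hVc)
    obtain ⟨t, ht, htx⟩ := exists_invol_at hH x
    exact ⟨t, ht, htx, fun y hy => by rw [hV0, mem_bot] at hy; rw [hy, one_mul, mul_one]⟩
  obtain ⟨K, hK⟩ := exists_localData hH hS.below hXlt hE (hEY.trans inf_le_left)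
    (hEY.trans inf_le_right) hmove
  obtain ⟨g, hgX, hgc, hRg⟩ := hK.fixed p R hp.out hp2 hR (hRX.trans inf_le_left) hRc
  exact hconj g hgX ((honly _ hRg).resolve_left hgc)

end Cfsg.Agent.SEMain
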