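import Cfsg.Agent.Lib.SEMain.Basic
import Mathlib.GroupTheory.Sylow

/-!
Two elementary facts on permutation groups: an `r`-subgroup of an odd transitive group fixing two
points fixes a third; without swapped pairs the 2-elements act trivially.
-/

set_option autoImplicit false
set_option linter.style.haveILetI false
set_option linter.unusedSectionVars false

namespace Cfsg.Agent.SEMain

open Subgroup MulAction

universe u v

section Actions

variable {X : Type u} [Group X] {Φ : Type v} [MulAction X Φ]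

/-- An element of odd order swaps no two points. -/
theorem eq_of_swap_odd {g : X} (hg : Odd (orderOf g)) {p q : Φ} (h1 : g • p = q) (h2 : g • q = p) :
    p = q := by
  obtain ⟨k, hk⟩ := hg
  have hsq : ∀ n : ℕ, (g ^ (2 * n)) • p = p := fun n => by
    induction n with
    | zero => simp
    | succ n ih => rw [Nat.mul_succ, pow_add, mul_smul, pow_two, mul_smul, h1, h2, ih]
  have h3 : (g ^ (2 * k + 1)) • p = q := by rw [pow_succ', mul_smul, hsq k, h1]
  rwa [← hk, pow_orderOf_eq_one, one_smul] at h3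

/-- If no two points are swapped then the elements of 2-power order act trivially. -/
theorem smul_eq_of_no_swap (h : ∀ (g : X) (p q : Φ), g • p = q → g • q = p → p = q) {g : X} {k : ℕ}
    (hg : g ^ 2 ^ k = 1) (p : Φ) : g • p = p := by
  induction k generalizing g p with
  | zero => rw [pow_zero, pow_one] at hg; rw [hg, one_smul]
  | succ k ih =>
    have h2 : ∀ x : Φ, (g * g) • x = x := fun x => ih (by rw [← pow_two, ← pow_mul, ← pow_succ', hg]) x
    exact (h g p (g • p) rfl (by rw [← mul_smul, h2])).symm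

/-- The induction step: a group of odd order acting transitively. -/
theorem exists_third_of_odd [Finite X] [IsPretransitive X Φ] (hX : Odd (Nat.card X)) {r : ℕ}
    [Fact r.Prime] {Y : Subgroup X} (hY : IsPGroup r Y) {p q : Φ} (hpq : p ≠ q)
    (hp : ∀ y ∈ Y, y • p = p) (hq : ∀ y ∈ Y, y • q = q) :
    ∃ c : Φ, c ≠ p ∧ c ≠ q ∧ ∀ y ∈ Y, y • c = c := by
  suffices H : ∀ (n : ℕ) (Y : Subgroup X), Nat.card X - Nat.card Y = n → IsPGroup r Y →
      (∀ y ∈ Y, y • p = p) → (∀ y ∈ Y, y • q = q) → ∃ c : Φ, c ≠ p ∧ c ≠ q ∧ ∀ y ∈ Y, y • c = c from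
    H _ Y rfl hY hp hq
  intro n
  induction n using Nat.strong_induction_on with
  | _ n ih =>
  intro Y hn hY hp hq
  by_contra hno
  push Not at hno
  -- the normaliser of `Y` permutes the two points
  have hperm : ∀ g ∈ normalizer (Y : Set X), ∀ x : Φ, (∀ y ∈ Y, y • x = x) →
      g • x = p ∨ g • x = q := by
    intro g hg x hx
    by_contra hc
    push Not at hc
    obtain ⟨y, hy, hne⟩ := hno (g • x) hc.1 hc.2
    refine hne ?_
    have hy' : g⁻¹ * y * g ∈ Y := (mem_normalizer_iff''.1 hg y).1 hy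
    calc y • g • x = g • (g⁻¹ * y * g) • x := by rw [← mul_smul, ← mul_smul]; congr 1; group
      _ = g • x := by rw [hx _ hy']
  have hYp : Y ≤ stabilizer X p := fun y hy => hp y hy
  obtain ⟨P, hP⟩ := (hY.comap_of_injective (stabilizer X p).subtype
    (stabilizer X p).subtype_injective).exists_le_sylow
  set P' := (P : Subgroup (stabilizer X p)).map (stabilizer X p).subtype with hP'
  have hYP : Y ≤ P' := fun y hy => ⟨⟨y, hYp hy⟩, hP hy, rfl⟩
  have hP'2 : IsPGroup r P' := P.isPGroup'.map _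
  by_cases heq : Y = P'
  · -- the normaliser moves `p` to `q`
    obtain ⟨g, hg⟩ := IsPretransitive.exists_smul_eq (M := X) p q
    have hY' : Y.map (MulAut.conj g⁻¹).toMonoidHom ≤ stabilizer X p := by
      rintro _ ⟨y, hy, rfl⟩
      show (g⁻¹ * y * g⁻¹⁻¹) • p = p
      rw [inv_inv, mul_smul, mul_smul, hg, hq y hy, inv_smul_eq_iff, hg]
    obtain ⟨T, hT⟩ := ((hY.map (MulAut.conj g⁻¹).toMonoidHom).comap_of_injective
      (stabilizer X p).subtype (stabilizer X p).subtype_injective).exists_le_sylow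
    obtain ⟨k, hk⟩ := exists_smul_eq (stabilizer X p) P T
    have hcard : Nat.card (Y.map (MulAut.conj g⁻¹).toMonoidHom) = Nat.card Y :=
      Nat.card_congr (equivMapOfInjective Y _ (MulAut.conj g⁻¹).injective).toEquiv.symm
    have hTeq : (T : Subgroup (stabilizer X p)).map (stabilizer X p).subtype =
        Y.map (MulAut.conj g⁻¹).toMonoidHom := by
      have hle : Y.map (MulAut.conj g⁻¹).toMonoidHom ≤
          (T : Subgroup (stabilizer X p)).map (stabilizer X p).subtype :=
        fun y hy => mem_map.2 ⟨⟨y, hY' hy⟩, hT hy, rfl⟩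
      refine (eq_of_le_of_card_ge hle ?_).symm
      rw [hcard, card_map_of_injective (stabilizer X p).subtype_injective, T.card_eq_multiplicity,
        ← P.card_eq_multiplicity, heq, hP', card_map_of_injective (stabilizer X p).subtype_injective]
    have hgk : g * (k : X) ∈ normalizer (Y : Set X) := by
      refine SEBrick.mem_normalizer_of fun y hy => ?_
      have hyP : (⟨y, hYp hy⟩ : stabilizer X p) ∈ (P : Subgroup (stabilizer X p)) := hP hy
      have h1 : k * ⟨y, hYp hy⟩ * k⁻¹ ∈ (T : Subgroup (stabilizer X p)) := by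
        rw [← hk, Sylow.smul_def, Sylow.pointwise_smul_def]
        exact ⟨⟨y, hYp hy⟩, hyP, rfl⟩
      have h2 : (k : X) * y * (k : X)⁻¹ ∈ Y.map (MulAut.conj g⁻¹).toMonoidHom :=
        hTeq ▸ mem_map.2 ⟨_, h1, rfl⟩
      have h3 := Invol.mem_conj_map.1 h2
      rw [inv_inv] at h3
      simpa [mul_assoc] using h3
    have hkp : (k : X) • p = p := k.2
    have h1 : (g * k) • p = q := by rw [mul_smul, hkp, hg]
    rcases hperm _ hgk q hq with h2 | h2
    · exact hpq (eq_of_swap_odd (hX.of_dvd_nat (orderOf_dvd_natCard _)) h1 h2)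
    · exact hpq (MulAction.injective _ (h1.trans h2.symm))
  · -- a larger subgroup fixes both points
    have hlt : Y < P' := lt_of_le_of_ne hYP heq
    have hN : Y < normalizer (Y : Set X) ⊓ P' := by
      haveI := hP'2.isNilpotent
      have h := Group.normalizerCondition_of_isNilpotent (G := P') (Y.subgroupOf P')
        (lt_top_iff_ne_top.2 fun h => hlt.not_ge (subgroupOf_eq_top.1 h))
      obtain ⟨x, hxN, hxY⟩ := SetLike.exists_of_lt h
      refine lt_of_le_of_ne (le_inf le_normalizer hYP) fun e => hxY ?_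
      rw [mem_subgroupOf, e]
      refine mem_inf.2 ⟨SEBrick.mem_normalizer_of fun y hy => ?_, x.2⟩
      exact SEBrick.conj_mem_of (G := P') hxN (show (⟨y, hYP hy⟩ : P') ∈ Y.subgroupOf P' from hy)
    set Y1 := normalizer (Y : Set X) ⊓ P' with hY1
    have hp1 : ∀ y ∈ Y1, y • p = p := fun y hy => by
      obtain ⟨y', -, rfl⟩ := (mem_inf.1 hy).2
      exact y'.2
    have hq1 : ∀ y ∈ Y1, y • q = q := fun y hy => by
      rcases hperm y (mem_inf.1 hy).1 q hq with h | h
      · exact absurd (MulAction.injective y (h.trans (hp1 y hy).symm)) hpq.symm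
      · exact h
    have hcard : Nat.card Y < Nat.card Y1 := by
      refine lt_of_le_of_ne (Subgroup.card_le_of_le hN.le) fun e => hN.ne ?_
      exact eq_of_le_of_card_ge hN.le e.ge
    have hle : Nat.card Y1 ≤ Nat.card X := card_le_card_group Y1
    obtain ⟨c, hc1, hc2, hc3⟩ := ih _ (by omega) Y1 rfl (hP'2.to_le inf_le_right) hp1 hq1
    obtain ⟨y, hy, hne⟩ := hno c hc1 hc2
    exact hne (hc3 y (hN.le hy))

/-- An `r`-subgroup, `r` odd, of a group with an odd transitive normal subgroup fixes a third point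
with any two. -/
theorem exists_third_fixed [Finite X] (O : Subgroup X) [O.Normal] (hO : Odd (Nat.card O))
    (htr : ∀ p q : Φ, ∃ g ∈ O, g • p = q) {r : ℕ} [Fact r.Prime] (hr : r ≠ 2) {Y : Subgroup X}
    (hY : IsPGroup r Y) {p q : Φ} (hpq : p ≠ q) (hp : ∀ y ∈ Y, y • p = p) (hq : ∀ y ∈ Y, y • q = q) :
    ∃ c : Φ, c ≠ p ∧ c ≠ q ∧ ∀ y ∈ Y, y • c = c := by
  set M := O ⊔ Y
  have hYodd : Odd (Nat.card Y) := by
    obtain ⟨n, hn⟩ := IsPGroup.iff_card.1 hY
    rw [hn]
    exact ((Fact.out : r.Prime).odd_of_ne_two hr).pow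
  have hM : Odd (Nat.card M) := by
    refine (hO.mul hYodd).of_dvd_nat ?_
    haveI : (O.subgroupOf M).Normal := ‹O.Normal›.subgroupOf M
    have h1 := card_eq_card_quotient_mul_card_subgroup (O.subgroupOf M)
    rw [Nat.card_congr (subgroupOfEquivOfLe (le_sup_left : O ≤ M)).toEquiv] at h1
    rw [h1, mul_comm (Nat.card O)]
    refine Nat.mul_dvd_mul_right ?_ _
    refine card_dvd_of_surjective ((QuotientGroup.mk' (O.subgroupOf M)).comp (inclusion le_sup_right))
      fun z => ?_
    induction z using QuotientGroup.induction_on with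
    | _ m =>
      have hm : (m : X) ∈ ((O ⊔ Y : Subgroup X) : Set X) := m.2
      rw [Subgroup.normal_mul] at hm
      obtain ⟨o, ho, y, hy, e⟩ := hm
      have e' : o * y = (m : X) := e
      refine ⟨⟨y, hy⟩, ?_⟩
      show ((inclusion le_sup_right ⟨y, hy⟩ : M) : M ⧸ O.subgroupOf M) = (m : M ⧸ O.subgroupOf M)
      rw [QuotientGroup.eq, mem_subgroupOf]
      show y⁻¹ * (m : X) ∈ O
      rw [← e', ← mul_assoc]
      simpa using ‹O.Normal›.conj_mem o ho y⁻¹
  haveI : IsPretransitive M Φ := ⟨fun a b => by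
    obtain ⟨g, hg, hgab⟩ := htr a b
    exact ⟨⟨g, mem_sup_left hg⟩, hgab⟩⟩
  have hYM : Y ≤ M := le_sup_right
  obtain ⟨c, h1, h2, h3⟩ := exists_third_of_odd hM (Y := Y.subgroupOf M)
    (hY.of_equiv (subgroupOfEquivOfLe hYM).symm) hpq (fun y hy => hp _ hy) (fun y hy => hq _ hy)
  exact ⟨c, h1, h2, fun y hy => h3 ⟨y, hYM hy⟩ (mem_subgroupOf.2 hy)⟩

end Actions

/-- If no two involutions of `H` are swapped in `H`, they commute and their centraliser has odd index. -/
theorem stmt_of_no_swap {G : Type u} [Group G] [Finite G] {H : Subgroup G}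
    (h : ∀ g ∈ H, ∀ s t : G, s ∈ H → t ∈ H → orderOf s = 2 → orderOf t = 2 → g * s * g⁻¹ = t →
      g * t * g⁻¹ = s → s = t) :
    (∀ s t : G, s ∈ H → t ∈ H → orderOf s = 2 → orderOf t = 2 → s * t = t * s) ∧
      Odd ((SERegular.invCent H).relIndex H) := by
  have key : ∀ (k : ℕ) (g : G), g ∈ H → g ^ 2 ^ k = 1 → ∀ s : G, s ∈ H → orderOf s = 2 →
      g * s * g⁻¹ = s := by
    intro k
    induction k with
    | zero => intro g _ hg s _ _; rw [pow_zero, pow_one] at hg; simp [hg]
    | succ k ih =>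
      intro g hgH hg s hsH hs
      have h2 := ih (g * g) (mul_mem hgH hgH) (by rw [← pow_two, ← pow_mul, ← pow_succ', hg]) s hsH hs
      exact (h g hgH s _ hsH (mul_mem (mul_mem hgH hsH) (inv_mem hgH)) hs
        ((Invol.order_conj g s).trans hs) rfl (by simpa [mul_assoc] using h2)).symm
  refine ⟨fun s t hsH htH hs ht => mul_inv_eq_iff_eq_mul.1
    (key 1 s hsH (by rw [pow_one, pow_two, Invol.mul_self hs]) t htH ht), ?_⟩
  haveI : Fact (Nat.Prime 2) := ⟨Nat.prime_two⟩
  obtain ⟨S⟩ : Nonempty (Sylow 2 H) := inferInstance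
  refine SERegular.odd_of_sylow S fun x hx t ht htH => ?_
  obtain ⟨k, hk⟩ := S.isPGroup' ⟨x, hx⟩
  have hk' : (x : G) ^ 2 ^ k = 1 := congrArg (fun y : (S : Subgroup H) => ((y : H) : G)) hk
  exact (mul_inv_eq_iff_eq_mul.1 (key k x x.2 hk' t htH ht)).symm

end Cfsg.Agent.SEMain
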