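import Cfsg.Agent.Lib.SEMain.Consumers
import Cfsg.Agent.Lib.SolvCores.FromBender

/-!
Trivial cores of involution centralisers, from the main statement.
-/

set_option autoImplicit false

namespace Cfsg.Agent.SEMain

open Subgroup

universe u

theorem S3332_of (h : Stmt.{u}) {G : Type u} [Group G] [Finite G] (hO : Cfsg.oddCore G = ⊥) (S : Sylow 2 G)
    (A : Subgroup G) (hAS : A ≤ S) (hAn : (A.subgroupOf S).Normal) (hAc : IsMulCommutative A)
    (hA3 : ¬ Cfsg.PRankLE 2 2 A)
    (hsol : ∀ t : G, orderOf t = 2 → Group.IsSolvable (centralizer ({t} : Set G))) :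
    ∀ t : G, orderOf t = 2 → Cfsg.oddCore (centralizer ({t} : Set G)) = ⊥ :=
  SolvCores.cores_trivial_of_coreStmt (fun _ hH => S1221_of h hH) hO S A hAS hAn hAc hA3 hsol

end Cfsg.Agent.SEMain
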