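import Cfsg.Agent.Lib.SEMain.Consumers
import Cfsg.Agent.Lib.SolvCores.Main
import Cfsg.Agent.Lib.OddDown.CoreSubgroup
import Cfsg.Agent.Lib.OddChar.OddTheorem

/-!
Trivial cores of involution centralisers when all 2-local subgroups are 2-constrained (S3109), from the
main statement.
-/

set_option autoImplicit false
set_option linter.style.haveILetI false

namespace Cfsg.Agent.SEMain

open Subgroup

universe u

theorem S3109_of (h : Stmt.{u}) {G : Type u} [Group G] [Finite G] [IsSimpleGroup G] (hG : ¬ IsMulCommutative G)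
    (h2c : ∀ T : Subgroup G, IsPGroup 2 T → T ≠ ⊥ → Cfsg.IsPConstrained 2 ↥(Subgroup.normalizer (T : Set G)))
    (S : Sylow 2 G) (A : Subgroup ↥(S : Subgroup G)) (hAn : A.Normal) (hAab : IsMulCommutative ↥A)
    (hA3 : ¬ Cfsg.PRankLE 2 2 ↥A) :
    ∀ t : G, orderOf t = 2 → Cfsg.centralizerPPrimeCore 2 t = ⊥ := by
  haveI : Fact (Nat.Prime 2) := ⟨Nat.prime_two⟩
  haveI : (Cfsg.oddCore G).Normal := FittingCores.pPrimeCore_normal 2
  have hO : Cfsg.oddCore G = ⊥ := by
    refine (IsSimpleGroup.eq_bot_or_eq_top_of_normal _ inferInstance).resolve_right fun e => ?_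
    have hodd : Odd (Nat.card G) := by
      have := (SEBrick.oddCore_odd : Odd (Nat.card (Cfsg.oddCore G)))
      rwa [e, card_top] at this
    haveI : Group.IsSolvable G := OddChar.oddSolvable G hodd
    exact hG (IsMulCommutative.of_comm (IsSimpleGroup.comm_iff_isSolvable.2 inferInstance))
  set A' := A.map (S : Subgroup G).subtype with hA'
  let e := A.equivMapOfInjective (S : Subgroup G).subtype (S : Subgroup G).subtype_injective
  have hA'c : IsMulCommutative A' := IsMulCommutative.of_comm fun x y => e.symm.injective (by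
    rw [map_mul, map_mul]; exact hAab.is_comm.comm _ _)
  have hA'3 : ¬ Cfsg.PRankLE 2 2 A' := fun hr => hA3 fun E hEc hEp => by
    have := hr (E.map e.toMonoidHom) (IsMulCommutative.of_setLike_mul_comm (by
      rintro _ ⟨x, hx, rfl⟩ _ ⟨y, hy, rfl⟩
      rw [← map_mul, ← map_mul]
      exact congrArg e (setLike_mul_comm (s := E) hx hy))) (by
      rintro _ ⟨x, hx, rfl⟩; rw [← map_pow, hEp x hx, map_one])
    rwa [card_map_of_injective e.injective] at this
  have hA'n : (A'.subgroupOf (S : Subgroup G)).Normal := by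
    rwa [hA', subgroupOf, comap_map_eq_self_of_injective (S : Subgroup G).subtype_injective]
  obtain ⟨V, hV⟩ := SolvCores.exists_hub S A' (map_subtype_le _) hA'n hA'c hA'3
  have hsolv : ∀ t : G, Group.IsSolvable ↥(Cfsg.centralizerPPrimeCore 2 t) := fun t =>
    OddChar.oddSolvable _ (Nat.coprime_two_right.1 (Components.centralizerPPrimeCore_props (p := 2) t).2.2)
  intro t ht
  rcases hV.dichotomy_of hO (fun a ha => OddDown.CoreSub.constrained_centralizer h2c ha) (fun a _ => hsolv a)
    with hall | ⟨H, hH, hHO⟩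
  · show (Cfsg.oddCore ↥(centralizer ({t} : Set G))).map (centralizer ({t} : Set G)).subtype = ⊥
    rw [hall t ht, Subgroup.map_bot]
  · exact absurd ((map_eq_bot_iff_of_injective _ H.subtype_injective).1
      (le_bot_iff.1 ((S1221_of h hH).trans hO.le))) hHO

end Cfsg.Agent.SEMain
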