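import Cfsg.Agent.Lib.SEMain.Main

/-!
# The shapes of the inputs of the endgame

The endgame works in a stage `M` of the descent: a normal subgroup of `H` of odd index containing
`[D, u]`, where `D` is the stabiliser of the base point and `b` and `u` swaps the two. A least stage
has no character that is trivial on `[D, u]` and not on its part in `D`.
-/

set_option autoImplicit false
set_option linter.style.haveILetI false
set_option linter.unusedSectionVars false

namespace Cfsg.Agent.SEMain

open Subgroup MulAction

universe u

variable {G : Type u} [Group G] [Finite G]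

/-- The base point. -/
abbrev basePt (H : Subgroup G) : G ⧸ H := ((1 : G) : G ⧸ H)

/-- A pair at the base point with a swapper, two-fold transitivity and the weak hypothesis. -/
structure SwapPair (H : Subgroup G) (b : G ⧸ H) (w : G) : Prop where
  setting : Setting H
  two : TwoTrans H
  weak : SETrans.Weak G (G ⧸ H) (basePt H)
  ne : basePt H ≠ b
  inv : orderOf w = 2
  swap : w • basePt H = b

/-- `[D, w]`, generated by the elements of the pair stabiliser that `w` inverts. -/
def tee (H : Subgroup G) (b : G ⧸ H) (w : G) : Subgroup G :=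
  ⁅pairStab (basePt H) b, zpowers w⁆

/-- A stage of the descent: a normal subgroup of `H` of odd index containing `[D, w]`. -/
structure Stage (H : Subgroup G) (b : G ⧸ H) (w : G) (M : Subgroup G) : Prop where
  le : M ≤ H
  norm : H ≤ normalizer (M : Set G)
  odd : Odd (M.relIndex H)
  tee_le : tee H b w ≤ M

/-- The part of a stage in the pair stabiliser. -/
abbrev stagePair (H : Subgroup G) (b : G ⧸ H) (M : Subgroup G) : Subgroup G :=
  M ⊓ pairStab (basePt H) b

/-- A character of the part of a stage in the pair stabiliser, trivial on `[D, w]` and not trivial. -/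
def TopChar (H : Subgroup G) (b : G ⧸ H) (w : G) (M : Subgroup G) (r : ℕ) : Prop :=
  ∃ φ : stagePair H b M →* Multiplicative (ZMod r),
    (∀ s : stagePair H b M, (s : G) ∈ tee H b w → φ s = 1) ∧ φ ≠ 1

/-- A character of a stage, trivial on `[D, w]` and not on its part in the pair stabiliser. -/
def StageChar (H : Subgroup G) (b : G ⧸ H) (w : G) (M : Subgroup G) (r : ℕ) : Prop :=
  ∃ V : M →* Multiplicative (ZMod r),
    (∀ s : M, (s : G) ∈ tee H b w → V s = 1) ∧
      ∃ d : M, (d : G) ∈ pairStab (basePt H) b ∧ V d ≠ 1

/-- All `r`-subgroups are cyclic and all elements of order `r` have centralisers of 2-rank one. -/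
structure ExceptedAt (L : Subgroup G) (r : ℕ) : Prop where
  cyclic : ∀ P : Subgroup G, P ≤ L → IsPGroup r P → IsCyclic P
  rankOne : ∀ y ∈ L, orderOf y = r → BrauerSuzuki.RankOne (centralizer ({y} : Set G))

/-- `x` commutes with no non-trivial element of the pair stabiliser inverted by `w`. -/
def FreeOn (H : Subgroup G) (b : G ⧸ H) (w x : G) : Prop :=
  ∀ k ∈ pairStab (basePt H) b, w * k * w⁻¹ = k⁻¹ → x * k = k * x → k = 1

/-- `w` inverts `[D, w]`, so this is abelian and semiregular on the involutions of `H`. -/
def TeeInverted (H : Subgroup G) (b : G ⧸ H) (w : G) : Prop :=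
  ∀ k ∈ tee H b w, w * k * w⁻¹ = k⁻¹

/-- The data of the endgame: a least stage, all its top primes excepted, and an element `x` of such a
prime order, centralised by `w`. -/
structure EndData (H : Subgroup G) (b : G ⧸ H) (w : G) (M : Subgroup G) (r : ℕ) (x : G) : Prop where
  pair : SwapPair H b w
  stage : Stage H b w M
  least : ∀ M' : Subgroup G, Stage H b w M' → M' ≤ M → M' = M
  inverted : TeeInverted H b w
  top : ∀ l : ℕ, l.Prime → TopChar H b w M l → ¬ l ∣ numInv H ∧ ExceptedAt (stagePair H b M) l
  prime : r.Prime
  top_r : TopChar H b w M r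
  mem : x ∈ stagePair H b M
  order : orderOf x = r
  comm : w * x = x * w
  free : FreeOn H b w x

/-! ### The inputs -/

/-- Descent at a prime dividing the number of involutions: characters extend to the stage. -/
def CharExtend : Prop :=
  ∀ (G : Type u) [Group G] [Finite G] (H : Subgroup G) (b : G ⧸ H) (w : G) (M : Subgroup G) (r : ℕ),
    SwapPair H b w → Stage H b w M → r.Prime → r ∣ numInv H →
    TopChar H b w M r → StageChar H b w M r

/-- The transfer lemma at the other primes: some character extends or the prime is excepted. -/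
def TransferOut : Prop :=
  ∀ (G : Type u) [Group G] [Finite G] (H : Subgroup G) (b : G ⧸ H) (w : G) (M : Subgroup G) (r : ℕ),
    SwapPair H b w → Stage H b w M → r.Prime → ¬ r ∣ numInv H →
    TopChar H b w M r → StageChar H b w M r ∨ ExceptedAt (stagePair H b M) r

/-- End of the descent: a stage meeting the pair stabiliser in `[D, w]` only. -/
def StageEnd : Prop :=
  ∀ (G : Type u) [Group G] [Finite G] (H : Subgroup G) (b : G ⧸ H) (w : G) (M : Subgroup G),
    SwapPair H b w → Stage H b w M → stagePair H b M ≤ tee H b w →
    InvComm H ∧ Odd ((SERegular.invCent H).relIndex H)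

/-- `[D, w]` is inverted by `w` when an element centralised by `w` acts freely on the inverted elements. -/
def TAbelian : Prop :=
  ∀ (G : Type u) [Group G] [Finite G] (H : Subgroup G) (b : G ⧸ H) (w : G) (r : ℕ) (x : G),
    SwapPair H b w → r.Prime → ¬ r ∣ numInv H → x ∈ pairStab (basePt H) b → orderOf x = r →
    w * x = x * w → FreeOn H b w x → TeeInverted H b w

/-- The endgame for commuting: a stage generated by the involutions of `H`, no proper normal subgroup of
which meets `[D, w]`, with faithful action on `[D, w]`. -/
def CommEnd : Prop :=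
  ∀ (G : Type u) [Group G] [Finite G] (H : Subgroup G) (b : G ⧸ H) (w : G) (M : Subgroup G) (r : ℕ)
    (x t : G), EndData H b w M r x → t ∈ H → orderOf t = 2 → x * t = t * x →
    Subgroup.closure {s : G | orderOf s = 2 ∧ s ∈ H} = M →
    (∀ N : Subgroup G, N ≤ M → M ≤ normalizer (N : Set G) → N ≠ M → N ⊓ tee H b w = ⊥) →
    (∀ d ∈ stagePair H b M, (∀ k ∈ tee H b w, d * k = k * d) → d ∈ tee H b w) →
    CommModCore H

/-- An abelian group regular on the non-identity elements of an elementary abelian 2-group, with an
element of prime order normalising it, fixing a point and acting freely on it: the stabiliser of the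
point in the normaliser acts freely. -/
def SingerFrob : Prop :=
  ∀ (X : Type u) [Group X] [Finite X] (W T A : Subgroup X) [W.Normal] (e x : X) (r : ℕ),
    (∀ v ∈ W, v * v = 1) → e ∈ W → e ≠ 1 → (∀ s ∈ T, ∀ s' ∈ T, s * s' = s' * s) →
    (∀ v ∈ W, v ≠ 1 → ∃! s, s ∈ T ∧ s * e * s⁻¹ = v) →
    A ≤ normalizer (T : Set X) → (∀ a ∈ A, a * e = e * a) →
    (∀ a ∈ A, (∀ v ∈ W, a * v = v * a) → a = 1) →
    r.Prime → x ∈ A → orderOf x = r → (∀ s ∈ T, x * s = s * x → s = 1) →
    ∀ a ∈ A, a ≠ 1 → ∀ s ∈ T, a * s = s * a → s = 1

end Cfsg.Agent.SEMain
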