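import Cfsg.Agent.Lib.SEMain.KernelTrans
import Cfsg.Agent.Lib.Solvable.MinimalNonNilpotent
import Cfsg.Agent.Lib.OddChar.OddTheorem

/-!
Normal subgroups of a transitive subgroup `L` of a point stabiliser whose two-point part is an abelian
semiregular `T` times the rest (step C1 of the endgame).  One meeting `T` gives a quotient of prime order
trivial on `T`; one with an involution not meeting `T` gives commutation modulo the odd core.
-/

set_option autoImplicit false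
set_option linter.style.haveILetI false
set_option linter.unusedSectionVars false

namespace Cfsg.Agent.SEMain

open Subgroup MulAction

universe u

variable {G : Type u} [Group G] [Finite G] {H : Subgroup G}

/-- A nontrivial element of a subgroup gives one of prime order among its powers. -/
theorem exists_prime_power_of_ne_one {g : G} (hg : g ≠ 1) :
    ∃ (p n : ℕ), p.Prime ∧ orderOf (g ^ n) = p := by
  obtain ⟨p, hp, m, hm⟩ := Nat.exists_prime_and_dvd (fun h => hg (orderOf_eq_one_iff.1 h))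
  have hm0 : m ≠ 0 := by rintro rfl; rw [mul_zero] at hm; exact (orderOf_pos g).ne' hm
  refine ⟨p, m, hp, ?_⟩
  rw [orderOf_pow' _ hm0, hm, Nat.gcd_eq_right (dvd_mul_left m p),
    Nat.mul_div_cancel _ (Nat.pos_of_ne_zero hm0)]

variable (hH : Cfsg.IsStronglyEmbedded H)
include hH

/-- C1: a proper normal subgroup of `L` meeting `T` lies, with `T`, in a normal subgroup of prime index. -/
theorem exists_prime_quotient {a b : G ⧸ H} (hab : a ≠ b) {L N T : Subgroup G}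
    (hLa : L ≤ stabilizer G a) (htr : ∀ z, z ≠ a → ∃ h ∈ L, h • b = z)
    (hTD : T ≤ L ⊓ pairStab a b) (hTn : L ⊓ pairStab a b ≤ normalizer (T : Set G))
    (hTc : ∀ s ∈ T, ∀ t ∈ T, s * t = t * s)
    (honly : ∀ t ∈ T, t ≠ 1 → OnlyTwo (zpowers t) a b)
    {x : G} (hx : x ∈ L ⊓ pairStab a b) (hfpf : ∀ s ∈ T, x * s = s * x → s = 1)
    (hNL : N ≤ L) (hNn : L ≤ normalizer (N : Set G)) (hne : N ≠ L)
    {t₀ : G} (ht₀ : t₀ ∈ T) (ht₀N : t₀ ∈ N) (ht₀1 : t₀ ≠ 1) :
    ∃ M : Subgroup G, N ≤ M ∧ T ≤ M ∧ M ≤ L ∧ L ≤ normalizer (M : Set G) ∧ (M.relIndex L).Prime := by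
  classical
  set D := L ⊓ pairStab a b with hD
  obtain ⟨p, n, hp, hord⟩ := exists_prime_power_of_ne_one ht₀1
  haveI := Fact.mk hp
  have hP : IsPGroup p (zpowers (t₀ ^ n)) := IsPGroup.of_card (n := 1) (by rw [Nat.card_zpowers, hord, pow_one])
  have hne1 : t₀ ^ n ≠ 1 := fun e => hp.ne_one (by rw [← hord, e, orderOf_one])
  have hPb : zpowers (t₀ ^ n) ≤ stabilizer G b :=
    zpowers_le.2 (mem_pairStab.1 (hTD (pow_mem ht₀ n)).2).2
  have hdec : ∀ h ∈ L, ∃ k ∈ N, k⁻¹ * h ∈ D := by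
    intro h hh
    have hhb : h • b ≠ a := fun e => hab (smul_left_cancel h ((hLa hh).trans e.symm))
    obtain ⟨k, hk, hkb⟩ := normal_transitive_of hab hLa htr (hNL.trans hLa) hNn hP
      (zpowers_le.2 (pow_mem ht₀N n)) hPb (honly _ (pow_mem ht₀ n) hne1) (Ne.symm hab) hhb
    refine ⟨k, hk, mem_inf.2 ⟨mul_mem (inv_mem (hNL hk)) hh, mem_pairStab.2 ⟨?_, ?_⟩⟩⟩
    · rw [mul_smul, show h • a = a from hLa hh]
      exact inv_mem (show k ∈ stabilizer G a from hLa (hNL hk))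
    · rw [mul_smul, ← hkb, inv_smul_smul]
  have hTL : T ≤ L := hTD.trans inf_le_left
  set M₀ := N ⊔ T with hM₀
  have hM₀L : M₀ ≤ L := sup_le hNL hTL
  have hM₀n : L ≤ normalizer (M₀ : Set G) := by
    intro h hh
    obtain ⟨k, hk, hd⟩ := hdec h hh
    have hd' : k⁻¹ * h ∈ normalizer (M₀ : Set G) := by
      refine SEBrick.mem_normalizer_of fun m hm => ?_
      have h1 : M₀.map (MulAut.conj (k⁻¹ * h)).toMonoidHom ≤ M₀ := by
        rw [hM₀, Subgroup.map_sup]
        refine sup_le ?_ ?_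
        · rintro _ ⟨y, hy, rfl⟩
          exact mem_sup_left (SEBrick.conj_mem_of (hNn hd.1) hy)
        · rintro _ ⟨y, hy, rfl⟩
          exact mem_sup_right (SEBrick.conj_mem_of (hTn hd) hy)
      exact h1 ⟨m, hm, rfl⟩
    have := mul_mem (le_normalizer (mem_sup_left hk : k ∈ M₀)) hd'
    rwa [mul_inv_cancel_left] at this
  have hM₀ne : M₀ ≠ L := by
    intro hM
    have h1 : x ∈ ((N ⊔ T : Subgroup G) : Set G) := hM.ge hx.1
    rw [coe_mul_of_right_le_normalizer_left N T (hTL.trans hNn)] at h1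
    obtain ⟨k, hk, t, ht, hkt⟩ := h1
    have hkt' : k * t = x := hkt
    have hcomm : ∀ s ∈ T, s * x * s⁻¹ * x⁻¹ ∈ N := by
      intro s hs
      have e : s * x * s⁻¹ * x⁻¹ = s * k * s⁻¹ * k⁻¹ := by
        have hts : t * s⁻¹ = s⁻¹ * t := hTc t ht s⁻¹ (inv_mem hs)
        rw [← hkt', mul_inv_rev]
        calc s * (k * t) * s⁻¹ * (t⁻¹ * k⁻¹) = s * k * (t * s⁻¹) * t⁻¹ * k⁻¹ := by group
          _ = s * k * s⁻¹ * k⁻¹ := by rw [hts]; group
      rw [e]
      exact mul_mem (SEBrick.conj_mem_of (hNn (hTL hs)) hk) (inv_mem hk)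
    have hf : ∀ s : T, (s : G) * x * (s : G)⁻¹ * x⁻¹ ∈ T := fun s => by
      rw [show (s : G) * x * (s : G)⁻¹ * x⁻¹ = (s : G) * (x * (s : G)⁻¹ * x⁻¹) by group]
      exact mul_mem s.2 (SEBrick.conj_mem_of (hTn hx) (inv_mem s.2))
    have hsurj : Function.Surjective fun s : T => (⟨_, hf s⟩ : T) := by
      refine Finite.surjective_of_injective fun s r e => ?_
      have e' : (s : G) * x * (s : G)⁻¹ * x⁻¹ = (r : G) * x * (r : G)⁻¹ * x⁻¹ := congrArg Subtype.val e
      have h2 : x * ((r : G)⁻¹ * s) = (r : G)⁻¹ * s * x := by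
        have e'' := mul_right_cancel e'
        calc x * ((r : G)⁻¹ * s) = (r : G)⁻¹ * ((r : G) * x * (r : G)⁻¹) * s := by group
          _ = (r : G)⁻¹ * ((s : G) * x * (s : G)⁻¹) * s := by rw [e'']
          _ = _ := by group
      exact Subtype.ext (inv_mul_eq_one.1 (hfpf _ (mul_mem (inv_mem r.2) s.2) h2)).symm
    have hTN : T ≤ N := fun s hs => by
      obtain ⟨r, hr⟩ := hsurj ⟨s, hs⟩
      have := hcomm r r.2
      rwa [show (r : G) * x * (r : G)⁻¹ * x⁻¹ = s from congrArg Subtype.val hr] at this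
    exact hne (le_antisymm hNL (hM.ge.trans (sup_le le_rfl hTN)))
  haveI : (M₀.subgroupOf L).Normal := (normal_subgroupOf_iff_le_normalizer hM₀L).2 hM₀n
  haveI : Nontrivial (L ⧸ M₀.subgroupOf L) := by
    rw [← Finite.one_lt_card_iff_nontrivial, ← index_eq_card]
    exact one_lt_index_of_ne_top fun e => hM₀ne (le_antisymm hM₀L (subgroupOf_eq_top.1 e))
  haveI : Group.IsSolvable D :=
    OddChar.oddSolvable D ((pairStab_odd hH hab).of_dvd_nat (card_dvd_of_le inf_le_right))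
  haveI : Group.IsSolvable (L ⧸ M₀.subgroupOf L) := by
    refine Group.isSolvable_of_surjective (f := (QuotientGroup.mk' (M₀.subgroupOf L)).comp
      (inclusion (inf_le_left : D ≤ L))) fun z => ?_
    induction z using QuotientGroup.induction_on with
    | _ h =>
      obtain ⟨k, hk, hd⟩ := hdec h h.2
      refine ⟨⟨_, hd⟩, ?_⟩
      show (QuotientGroup.mk (inclusion inf_le_left ⟨_, hd⟩) : L ⧸ M₀.subgroupOf L) = _
      rw [QuotientGroup.eq, mem_subgroupOf]
      show (k⁻¹ * (h : G))⁻¹ * (h : G) ∈ M₀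
      rw [show (k⁻¹ * (h : G))⁻¹ * (h : G) = (h : G)⁻¹ * k * (h : G)⁻¹⁻¹ by group]
      exact mem_sup_left (SEBrick.conj_mem_of (inv_mem (hNn h.2)) hk)
  obtain ⟨Q, hQn, hQp, -⟩ := SolvMinNN.exists_normal_prime_index (G := L ⧸ M₀.subgroupOf L)
  haveI := hQn
  refine ⟨(Q.comap (QuotientGroup.mk' (M₀.subgroupOf L))).map L.subtype, ?_, ?_, map_subtype_le _, ?_, ?_⟩
  · exact fun y hy => ⟨⟨y, hNL hy⟩, by
      rw [SetLike.mem_coe, mem_comap, QuotientGroup.mk'_apply, (QuotientGroup.eq_one_iff _).2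
        (mem_subgroupOf.2 (mem_sup_left hy : y ∈ M₀))]
      exact one_mem Q, rfl⟩
  · exact fun y hy => ⟨⟨y, hTL hy⟩, by
      rw [SetLike.mem_coe, mem_comap, QuotientGroup.mk'_apply, (QuotientGroup.eq_one_iff _).2
        (mem_subgroupOf.2 (mem_sup_right hy : y ∈ M₀))]
      exact one_mem Q, rfl⟩
  · exact SESolv.le_normalizer_map (hQn.comap _)
  · rw [relIndex, ← comap_subtype, comap_map_eq_self_of_injective L.subtype_injective,
      index_comap_of_surjective _ (QuotientGroup.mk'_surjective _)]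
    exact hQp

/-- C1, second half: a normal subgroup of `L` with an involution, not meeting `T`. -/
theorem commModCore_of_not_meet {b : G ⧸ H} (hab : ((1 : G) : G ⧸ H) ≠ b) {L N T : Subgroup G}
    (hLH : L ≤ H) (hLn : H ≤ normalizer (L : Set G))
    (hTD : T ≤ L ⊓ pairStab ((1 : G) : G ⧸ H) b)
    (hTn : L ⊓ pairStab ((1 : G) : G ⧸ H) b ≤ normalizer (T : Set G))
    (honly : ∀ t ∈ T, t ≠ 1 → OnlyTwo (zpowers t) ((1 : G) : G ⧸ H) b) {t₀ : G} (ht₀ : t₀ ∈ T)
    (ht₀1 : t₀ ≠ 1)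
    (hcent : ∀ d ∈ L ⊓ pairStab ((1 : G) : G ⧸ H) b, (∀ t ∈ T, d * t = t * d) → d ∈ T)
    (hNL : N ≤ L) (hNn : L ≤ normalizer (N : Set G)) (hNT : ∀ t ∈ T, t ∈ N → t = 1)
    {s : G} (hs : orderOf s = 2) (hsN : s ∈ N) : CommModCore H := by
  obtain ⟨p, n, hp, hord⟩ := exists_prime_power_of_ne_one ht₀1
  haveI := Fact.mk hp
  refine commModCore_of_regular_of (r := p) hH hab hLH hLn (k := t₀ ^ n)
    (by rw [← hord, pow_orderOf_eq_one]) (hTD (pow_mem ht₀ n)).1 (hTD (pow_mem ht₀ n)).2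
    (honly _ (pow_mem ht₀ n) fun e => hp.ne_one (by rw [← hord, e, orderOf_one]))
    hNL hNn hs hsN fun m hm hmb => ?_
  have hmD : m ∈ L ⊓ pairStab ((1 : G) : G ⧸ H) b :=
    ⟨hNL hm, mem_pairStab.2 ⟨SEBrick.fix_base_iff.2 (hLH (hNL hm)), hmb⟩⟩
  refine hNT m (hcent m hmD fun t ht => ?_) hm
  have h1 : m * t * m⁻¹ * t⁻¹ ∈ T := mul_mem (SEBrick.conj_mem_of (hTn hmD) ht) (inv_mem ht)
  have h2 : m * t * m⁻¹ * t⁻¹ ∈ N := by
    rw [show m * t * m⁻¹ * t⁻¹ = m * (t * m⁻¹ * t⁻¹) by group]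
    exact mul_mem hm (SEBrick.conj_mem_of (hNn (hTD ht).1) (inv_mem hm))
  exact mul_inv_eq_iff_eq_mul.1 (mul_inv_eq_one.1 (hNT _ h1 h2))

end Cfsg.Agent.SEMain
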