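import Cfsg.Agent.Lib.SEMain.PairField
import Mathlib.GroupTheory.Transfer
import Mathlib.Data.ZMod.QuotientGroup

/-!
# The terminal shape

Without a single-involution element of prime order in the field part, the transfer of `H` to the quotient
of the stabiliser of a pair by its torus has a kernel which is the required normal subgroup of odd index.
-/

set_option autoImplicit false
set_option linter.style.haveILetI false
set_option linter.unusedSectionVars false

namespace Cfsg.Agent.SEMain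

open Subgroup MulAction

universe u

variable {G : Type u} [Group G] [Finite G] {H : Subgroup G} {b : G ⧸ H}

/-- The terminal shape exists on each pair. -/
theorem exists_frobData (hS : Setting H) (hw : SETrans.Weak G (G ⧸ H) ((1 : G) : G ⧸ H)) (hc : InvComm H)
    (hab : ((1 : G) : G ⧸ H) ≠ b)
    (hker : ∀ d ∈ pairStab ((1 : G) : G ⧸ H) b, d ∈ SERegular.invCent H → d = 1) :
    ∃ H₁ T : Subgroup G, FrobData H b H₁ T := by
  classical
  obtain ⟨T, hT⟩ := exists_torus hS hw hc hab hker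
  obtain ⟨t₀, ht₀H, ht₀⟩ := Invol.exists_invol hS.se.2.1
  by_cases hbig : ∀ z ∈ fieldPart b t₀, (orderOf z).Prime → ∃ x ∈ T, x ≠ 1 ∧ z * x = x * z
  swap
  · simp only [not_forall] at hbig
    obtain ⟨z, hz, hzp, hno⟩ := hbig
    exact ⟨H, T, frobData_of_single hT ht₀H ht₀ hc hker hS hab hz hzp rfl fun x hx hzx =>
      not_not.1 fun h1 => hno ⟨x, hx, h1, hzx⟩⟩
  set D := pairStab ((1 : G) : G ⧸ H) b with hD
  set F := fieldPart b t₀ with hF
  have hDH : D ≤ H := fun x hx => mem_of_pairStab hx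
  set D' := D.subgroupOf H with hD'
  set T' : Subgroup D' := (T.subgroupOf H).subgroupOf D' with hT'
  have hmemT : ∀ {x : D'}, x ∈ T' ↔ ((x : H) : G) ∈ T := fun {x} => by
    rw [hT', mem_subgroupOf, mem_subgroupOf]
  haveI : T'.Normal := ⟨fun x hx y => hmemT.2 (SEBrick.conj_mem_of (hT.norm y.2) (hmemT.1 hx))⟩
  letI instA : CommGroup (D' ⧸ T') :=
    { (inferInstance : Group (D' ⧸ T')) with
      mul_comm := fun p q => QuotientGroup.induction_on p fun x => QuotientGroup.induction_on q fun y => by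
        rw [← QuotientGroup.mk_mul, ← QuotientGroup.mk_mul, QuotientGroup.eq, hmemT]
        have h1 := commutator_mem_torus hT ht₀H ht₀ hc hker (inv_mem (show ((y : H) : G) ∈ D from y.2))
          (inv_mem (show ((x : H) : G) ∈ D from x.2))
        rw [inv_inv, inv_inv] at h1
        simpa [mul_assoc] using h1 }
  -- the quotient has the order of the field part
  let ρ : F → D' ⧸ T' := fun f =>
    QuotientGroup.mk (⟨⟨f, hDH (mem_fieldPart.1 f.2).1⟩, (mem_fieldPart.1 f.2).1⟩ : D')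
  have hρ : Function.Bijective ρ := by
    refine ⟨fun f f' h => Subtype.ext ?_, fun q => QuotientGroup.induction_on q fun x => ?_⟩
    · have h1 := hmemT.1 (QuotientGroup.eq.1 h)
      exact inv_mul_eq_one.1 (torus_field_eq_one hT ht₀H ht₀ h1 (mul_mem (inv_mem f.2) f'.2))
    · obtain ⟨s, hs, f, hf, hsf⟩ := exists_decomp hT ht₀H ht₀ (show ((x : H) : G) ∈ D from x.2)
      refine ⟨⟨f, hf⟩, QuotientGroup.eq.2 (hmemT.2 ?_)⟩
      show f⁻¹ * ((x : H) : G) ∈ T
      rw [← hsf]
      have := SEBrick.conj_mem_of (hT.norm (inv_mem (mem_fieldPart.1 hf).1)) hs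
      rwa [inv_inv, mul_assoc] at this
  have hcard : Nat.card (D' ⧸ T') = Nat.card F := (Nat.card_eq_of_bijective ρ hρ).symm
  set V := MonoidHom.transfer (QuotientGroup.mk' T') with hV
  have hpow : ∀ x : D', V (x : H) = (QuotientGroup.mk' T' x) ^ D'.index := by
    intro x
    haveI : Fintype (Quotient (orbitRel (zpowers (x : H)) (H ⧸ D'))) := Fintype.ofFinite _
    rw [hV, MonoidHom.transfer_eq_prod_quotient_orbitRel_zpowers_quot,
      index_eq_sum_minimalPeriod D' (x : H), ← Finset.prod_pow_eq_pow_sum]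
    refine Finset.prod_congr rfl fun q _ => ?_
    rw [← map_pow]
    set k := Function.minimalPeriod ((x : H) • ·) q.out with hk
    set y : H := q.out.out with hy
    refine QuotientGroup.eq.2 (hmemT.2 ?_)
    have hx' : ((x : H) : G) ^ k ∈ D := pow_mem (show ((x : H) : G) ∈ D from x.2) k
    have hyk : (y : G)⁻¹ * ((x : H) : G) ^ k * ((y : G)⁻¹)⁻¹ ∈ D := by
      rw [inv_inv]
      exact QuotientGroup.out_conj_pow_minimalPeriod_mem D' (x : H) q.out
    have h1 := conj_mem_torus hT ht₀H ht₀ hc hker hS hab hw hbig hx' (inv_mem y.2) hyk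
    rw [inv_inv] at h1
    have h2 := SEBrick.conj_mem_of (hT.norm (inv_mem (show (y : G)⁻¹ * ((x : H) : G) ^ k * (y : G) ∈ D by
      rw [inv_inv] at hyk; exact hyk))) (inv_mem h1)
    show ((y : G)⁻¹ * ((x : H) : G) ^ k * (y : G))⁻¹ * ((x : H) : G) ^ k ∈ T
    convert h2 using 1
    group
  have hcop : (Nat.card (D' ⧸ T')).Coprime D'.index := by
    refine Nat.coprime_of_dvd fun r hr hrA hrn => ?_
    exact not_dvd_relIndex hT ht₀H ht₀ hc hker hS hab hw hbig hr (hcard ▸ hrA) hrn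
  have hkerV : ∀ x : D', V (x : H) = 1 ↔ x ∈ T' := by
    intro x
    rw [hpow, ← QuotientGroup.eq_one_iff (N := T') x]
    refine ⟨fun h1 => ?_, fun h1 => by rw [QuotientGroup.mk'_apply, h1, one_pow]⟩
    exact orderOf_eq_one_iff.1 (Nat.eq_one_of_dvd_coprimes hcop (orderOf_dvd_natCard _)
      (orderOf_dvd_of_pow_eq_one h1))
  obtain ⟨W, hkerW⟩ : ∃ W : H →* D' ⧸ T', ∀ x : D', W (x : H) = 1 ↔ x ∈ T' := ⟨V, hkerV⟩
  clear hkerV hpow hV
  clear V
  set H₁ := W.ker.map H.subtype with hH₁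
  have hmem₁ : ∀ {g : G}, g ∈ H₁ ↔ ∃ hg : g ∈ H, W ⟨g, hg⟩ = 1 := fun {g} => by
    constructor
    · rintro ⟨y, hy, rfl⟩; exact ⟨y.2, hy⟩
    · rintro ⟨hg, h⟩; exact ⟨⟨g, hg⟩, h, rfl⟩
  have hsub : H₁ ≤ H := map_subtype_le _
  have hinT : ∀ {d : G}, d ∈ H₁ ⊓ D → d ∈ T := by
    intro d hd
    obtain ⟨hg, h⟩ := hmem₁.1 (mem_inf.1 hd).1
    exact hmemT.1 ((hkerW ⟨⟨d, hg⟩, (mem_inf.1 hd).2⟩).1 h)
  refine ⟨H₁, T, hsub, fun g hg => SEBrick.mem_normalizer_of fun x hx => ?_, ?_, fun x hx => ?_,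
    fun d hd x hx => SEBrick.conj_mem_of (hT.norm (mem_inf.1 hd).2) hx, hT.comm,
    fun d hd hdT => absurd (hinT hd) hdT, hT.semi, hT.free, hT.trans⟩
  · obtain ⟨y, hy, rfl⟩ := hx
    exact ⟨⟨g, hg⟩ * y * (⟨g, hg⟩ : H)⁻¹, (MonoidHom.normal_ker W).conj_mem y hy ⟨g, hg⟩, rfl⟩
  · rw [relIndex, subgroupOf, hH₁, comap_map_eq_self_of_injective H.subtype_injective, index_ker]
    have hodd : Odd (Nat.card (D' ⧸ T')) := by
      rw [hcard]
      exact (pairStab_odd hS.se hab).of_dvd_nat (card_dvd_of_le (fun x hx => (mem_fieldPart.1 hx).1))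
    exact hodd.of_dvd_nat (card_subgroup_dvd_card _)
  · have hxD := hT.le hx
    exact mem_inf.2 ⟨hmem₁.2 ⟨hDH hxD, (hkerW ⟨⟨x, hDH hxD⟩, hxD⟩).2 (hmemT.2 hx)⟩, hxD⟩

/-- The input from the endgame. -/
theorem endShape : EndShape.{u} := by
  intro G _ _ H hS _ hw hc _ hker
  obtain ⟨g, hg⟩ := exists_not_mem hS.se
  have hab : ((1 : G) : G ⧸ H) ≠ (g : G ⧸ H) := fun e => hg (by
    rw [QuotientGroup.eq, inv_one, one_mul] at e
    exact e)
  obtain ⟨H₁, T, h⟩ := exists_frobData hS hw hc hab (hker _ hab)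
  exact Or.inr ⟨_, H₁, T, hab, h⟩

/-- The odd index from Theorem M. -/
theorem oddIndex_of_theoremM (hM : TheoremM.{u}) : OddIndex.{u} := oddIndex_of_endShape hM endShape

end Cfsg.Agent.SEMain
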