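import Mathlib.Algebra.Algebra.ZMod
import Mathlib.Algebra.CharP.Lemmas
import Mathlib.FieldTheory.Finite.Basic
import Mathlib.FieldTheory.Galois.Basic

/-!
# Automorphisms of a regular abelian group of automorphisms

An elementary abelian 2-group with an abelian group `T` of automorphisms regular on its non-identity
elements is a field; the automorphisms normalising `T` and fixing a chosen element are field automorphisms.
-/

set_option autoImplicit false
set_option linter.style.haveILetI false
set_option linter.unusedSectionVars false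

namespace Cfsg.Agent.SEMain

open Subgroup

universe u

/-- The automorphisms fixing `e₀` and normalising a regular abelian group form a cyclic group, and one of
them fixing all fixed points of another is a power of it. -/
theorem cyclic_of_regular_normalizer {E : Type u} [CommGroup E] [Finite E] (h2 : ∀ x : E, x * x = 1)
    {e₀ : E} (he : e₀ ≠ 1) (T F : Subgroup (MulAut E)) (hTc : ∀ σ ∈ T, ∀ τ ∈ T, σ * τ = τ * σ)
    (htr : ∀ x : E, x ≠ 1 → ∃ τ ∈ T, τ e₀ = x) (hfree : ∀ τ ∈ T, τ e₀ = e₀ → τ = 1)
    (hF0 : ∀ f ∈ F, f e₀ = e₀) (hFn : ∀ f ∈ F, ∀ τ ∈ T, f * τ * f⁻¹ ∈ T) :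
    IsCyclic F ∧ ∀ z ∈ F, ∀ f ∈ F, (∀ x : E, z x = x → f x = x) → f ∈ zpowers z := by
  classical
  choose! τ hτT hτe using htr
  have huniq : ∀ σ ∈ T, ∀ x : E, x ≠ 1 → σ e₀ = x → σ = τ x := by
    intro σ hσ x hx hσe
    have h1 := hfree _ (mul_mem (inv_mem (hτT x hx)) hσ) (by
      show (τ x)⁻¹ (σ e₀) = e₀
      rw [hσe]; nth_rw 2 [← hτe x hx]
      exact (τ x).symm_apply_apply e₀)
    exact (inv_mul_eq_one.1 h1).symm
  have hne : ∀ x y : E, x ≠ 1 → y ≠ 1 → τ x y ≠ 1 := fun x y hx hy h =>
    hy ((τ x).map_eq_one_iff.1 h)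
  let mul' : E → E → E := fun x y => if x = 1 then 1 else τ x y
  have hm1 : ∀ y, mul' 1 y = 1 := fun y => if_pos rfl
  have hmτ : ∀ {x}, x ≠ 1 → ∀ y, mul' x y = τ x y := fun {x} hx y => if_neg hx
  have hmr : ∀ x, mul' x 1 = 1 := fun x => by
    by_cases hx : x = 1
    · rw [hx, hm1]
    · rw [hmτ hx, map_one]
  have hcomm : ∀ x y, mul' x y = mul' y x := by
    intro x y
    by_cases hx : x = 1
    · rw [hx, hm1, hmr]
    by_cases hy : y = 1
    · rw [hy, hm1, hmr]
    rw [hmτ hx, hmτ hy]
    calc τ x y = τ x (τ y e₀) := by rw [hτe y hy]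
      _ = (τ x * τ y) e₀ := rfl
      _ = (τ y * τ x) e₀ := by rw [hTc _ (hτT x hx) _ (hτT y hy)]
      _ = τ y x := by rw [MulAut.mul_apply, hτe x hx]
  have hassoc : ∀ x y z, mul' (mul' x y) z = mul' x (mul' y z) := by
    intro x y z
    by_cases hx : x = 1
    · rw [hx, hm1, hm1, hm1]
    by_cases hy : y = 1
    · rw [hy, hmr, hm1, hmr]
    rw [hmτ hx, hmτ hx, hmτ hy, hmτ (hne x y hx hy)]
    rw [← huniq _ (mul_mem (hτT x hx) (hτT y hy)) _ (hne x y hx hy)
      (by rw [MulAut.mul_apply, hτe y hy])]
    rfl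
  have hdist : ∀ x y z, mul' x (y * z) = mul' x y * mul' x z := by
    intro x y z
    by_cases hx : x = 1
    · rw [hx, hm1, hm1, hm1, one_mul]
    · rw [hmτ hx, hmτ hx, hmτ hx, map_mul]
  have hone : ∀ y, mul' e₀ y = y := fun y => by
    rw [hmτ he, ← huniq 1 (one_mem T) e₀ he rfl]; rfl
  letI instF : Field (Additive E) :=
    { (inferInstance : AddCommGroup (Additive E)) with
      mul := fun x y => Additive.ofMul (mul' x.toMul y.toMul)
      one := Additive.ofMul e₀
      mul_assoc := fun x y z => congrArg Additive.ofMul (hassoc _ _ _)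
      one_mul := fun x => congrArg Additive.ofMul (hone _)
      mul_one := fun x => congrArg Additive.ofMul ((hcomm _ _).trans (hone _))
      zero_mul := fun x => congrArg Additive.ofMul (hm1 _)
      mul_zero := fun x => congrArg Additive.ofMul (hmr _)
      left_distrib := fun x y z => congrArg Additive.ofMul (hdist _ _ _)
      right_distrib := fun x y z => by
        refine congrArg Additive.ofMul ?_
        show mul' (x.toMul * y.toMul) z.toMul = mul' x.toMul z.toMul * mul' y.toMul z.toMul
        rw [hcomm _ z.toMul, hdist, hcomm _ x.toMul, hcomm _ y.toMul]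
      mul_comm := fun x y => congrArg Additive.ofMul (hcomm _ _)
      exists_pair_ne := ⟨Additive.ofMul e₀, 0, fun h => he (congrArg Additive.toMul h)⟩
      inv := fun x => if x = 0 then 0 else Additive.ofMul ((τ x.toMul)⁻¹ e₀)
      mul_inv_cancel := fun x hx => by
        have hx' : x.toMul ≠ 1 := fun h => hx (congrArg Additive.ofMul h)
        refine (congrArg (fun z => Additive.ofMul (mul' x.toMul (Additive.toMul z))) (if_neg hx)).trans ?_
        refine congrArg Additive.ofMul ?_
        show mul' x.toMul ((τ x.toMul)⁻¹ e₀) = e₀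
        rw [hmτ hx']; exact (τ x.toMul).apply_symm_apply e₀
      inv_zero := if_pos rfl
      nnqsmul := _
      qsmul := _ }
  haveI : CharP (Additive E) 2 := CharTwo.of_one_ne_zero_of_two_eq_zero one_ne_zero (by
    rw [← one_add_one_eq_two]; exact congrArg Additive.ofMul (h2 e₀))
  letI : Algebra (ZMod 2) (Additive E) := ZMod.algebra _ 2
  have hfmul : ∀ f ∈ F, ∀ x y, f (mul' x y) = mul' (f x) (f y) := by
    intro f hf x y
    by_cases hx : x = 1
    · rw [hx, hm1, map_one, hm1]
    have hfx : f x ≠ 1 := fun h => hx (f.map_eq_one_iff.1 h)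
    rw [hmτ hx, hmτ hfx, ← huniq _ (hFn f hf _ (hτT x hx)) _ hfx
      (by
        show f ((τ x) (f⁻¹ e₀)) = f x
        rw [show f⁻¹ e₀ = e₀ from hF0 _ (inv_mem hf), hτe x hx])]
    show f (τ x y) = f ((τ x) (f⁻¹ (f y)))
    rw [show f⁻¹ (f y) = y from f.symm_apply_apply y]
  let ring : F → (Additive E ≃+* Additive E) := fun f =>
    { toFun := fun x => Additive.ofMul ((f : MulAut E) x.toMul)
      invFun := fun x => Additive.ofMul ((f : MulAut E).symm x.toMul)
      left_inv := fun x => congrArg Additive.ofMul ((f : MulAut E).symm_apply_apply _)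
      right_inv := fun x => congrArg Additive.ofMul ((f : MulAut E).apply_symm_apply _)
      map_mul' := fun x y => congrArg Additive.ofMul (hfmul f f.2 _ _)
      map_add' := fun x y => congrArg Additive.ofMul (map_mul (f : MulAut E) _ _) }
  let Ψ : F →* (Additive E ≃ₐ[ZMod 2] Additive E) :=
    { toFun := fun f => AlgEquiv.ofRingEquiv (f := ring f) fun x => RingHom.congr_fun
        (Subsingleton.elim ((ring f).toRingHom.comp (algebraMap (ZMod 2) (Additive E)))
          (algebraMap (ZMod 2) (Additive E))) x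
      map_one' := AlgEquiv.ext fun _ => rfl
      map_mul' := fun _ _ => AlgEquiv.ext fun _ => rfl }
  have hΨ : Function.Injective Ψ := fun f g h => Subtype.ext (MulEquiv.ext fun x =>
    congrArg Additive.toMul (AlgEquiv.congr_fun h (Additive.ofMul x)))
  refine ⟨isCyclic_of_injective Ψ hΨ, fun z hz f hf hfix => ?_⟩
  have h1 : Ψ ⟨f, hf⟩ ∈ IntermediateField.fixingSubgroup
      (IntermediateField.fixedField (zpowers (Ψ ⟨z, hz⟩))) := by
    rw [IntermediateField.mem_fixingSubgroup_iff]
    intro x hx
    rw [IntermediateField.mem_fixedField_iff] at hx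
    exact congrArg Additive.ofMul (hfix x.toMul (congrArg Additive.toMul (hx _ (mem_zpowers _))))
  rw [IntermediateField.fixingSubgroup_fixedField] at h1
  obtain ⟨i, hi⟩ := mem_zpowers_iff.1 h1
  rw [← map_zpow] at hi
  exact ⟨i, congrArg Subtype.val (hΨ hi)⟩

end Cfsg.Agent.SEMain
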