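import Cfsg.Agent.Lib.SEMain.PreConfig
import Cfsg.Agent.Lib.SEMain.MaxThree

/-!
# A moved `r`-group gives a W-configuration

For a largest configuration either the cores prime to `r` of the two-point stabilisers give it, or the
centre of the Thompson subgroup of a Sylow subgroup of the stabiliser of a point in the normaliser.
-/

set_option autoImplicit false
set_option linter.style.haveILetI false
set_option linter.unusedSectionVars false

namespace Cfsg.Agent.SEMain

open Subgroup MulAction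

universe u

variable {G : Type u} [Group G] [Finite G] {H : Subgroup G}

/-- A W-configuration. -/
def WShape (H : Subgroup G) : Prop :=
  ∃ (p q : G ⧸ H) (W : Subgroup G) (t g : G), p ≠ q ∧ W ≠ ⊥ ∧ W ≤ stabilizer G p ∧
    pairStab p q ≤ normalizer (W : Set G) ∧ orderOf t = 2 ∧ t • p = p ∧
    t ∈ normalizer (W : Set G) ∧ g ∈ normalizer (W : Set G) ∧ g • p = q

/-- Translation of the core of a pair. -/
theorem coreOf_map_le {r : ℕ} (h : G) (p q : G ⧸ H) :
    (coreOf r p q).map (MulAut.conj h).toMonoidHom ≤ coreOf r (h • p) (h • q) := by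
  refine AxB.le_pPrimeCoreOf ?_ ?_ ?_
  · rintro _ ⟨x, hx, rfl⟩
    obtain ⟨h1, h2⟩ := mem_pairStab.1 (coreOf_le p q hx)
    exact mem_pairStab.2 ⟨conj_smul_eq (g := h) h1, conj_smul_eq (g := h) h2⟩
  · intro d hd
    refine SEBrick.mem_normalizer_of ?_
    rintro _ ⟨x, hx, rfl⟩
    have hd' : h⁻¹ * d * h ∈ pairStab p q := by
      obtain ⟨h1, h2⟩ := mem_pairStab.1 hd
      refine mem_pairStab.2 ⟨?_, ?_⟩ <;> rw [mul_smul, mul_smul, inv_smul_eq_iff]
      exacts [h1, h2]
    refine ⟨h⁻¹ * d * h * x * (h⁻¹ * d * h)⁻¹,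
      SEBrick.conj_mem_of (pairStab_le_normalizer_coreOf p q hd') hx, ?_⟩
    simp only [MulEquiv.coe_toMonoidHom, MulAut.conj_apply]
    group
  · rw [card_map_of_injective (MulAut.conj h).injective]
    exact coreOf_coprime p q

namespace MaxPre

variable {r : ℕ} [Fact r.Prime] {Y : Subgroup G} {p : G ⧸ H} {K : Subgroup G}

/-- A core prime to `r` gives the configuration. -/
theorem wShape_or_coreOf_eq_bot (h : MaxPre H r Y p) (hH : Cfsg.IsStronglyEmbedded H) (hr2 : r ≠ 2)
    (hD : LocalData (normalizer (Y : Set G)) p K) :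
    WShape H ∨ ∀ x ∈ normalizer (Y : Set G), x • p ≠ p → coreOf r p (x • p) = ⊥ := by
  set X := normalizer (Y : Set G) with hX
  by_cases hall : ∀ x ∈ X, x • p ≠ p → coreOf r p (x • p) = ⊥
  · exact Or.inr hall
  left
  push Not at hall
  obtain ⟨x, hx, hxp, hne⟩ := hall
  obtain ⟨E, hE, hEN⟩ := h.four
  have hYodd : Odd (Nat.card Y) := odd_of_pGroup hr2 h.pgroup
  have hYp := h.fix hH hr2
  have hYx : Y ≤ stabilizer G (x • p) := le_stabilizer_smul hx hYp
  obtain ⟨e, he, he1⟩ := SESolv.IsFour.exists_ne hE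
  have heo := hE.order he he1
  have hep : e • p = p := (hEN he).2
  have hex : (x * e * x⁻¹) • x • p = x • p := conj_smul_eq hep
  have heX : x * e * x⁻¹ ∈ X := mul_mem (mul_mem hx (hEN he).1) (inv_mem hx)
  -- the swapper and its centre
  obtain ⟨v, hvX, hv, hvp, -⟩ := exists_swap_mem hH (hEN he).1 heX heo ((Invol.order_conj x e).trans heo)
    hep hex hxp.symm
  obtain ⟨f, hf, hf1, hfe⟩ := exists_third hE e
  have hrk : ¬ BrauerSuzuki.RankOne X := fun hR =>
    hfe (congrArg Subtype.val (hR ⟨e, (hEN he).1⟩ ⟨f, (hEN hf).1⟩ (by rwa [Subgroup.orderOf_mk])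
      (by rw [Subgroup.orderOf_mk]; exact hE.order hf hf1) (Subtype.ext (hE.comm he hf)))).symm
  obtain ⟨w, hw, hwv, hvw⟩ := exists_commuting hrk (u := (⟨v, hvX⟩ : X))
    (by rw [Subgroup.orderOf_mk]; exact hv)
  rw [← Subgroup.orderOf_coe] at hw
  obtain ⟨E', hE'X, hE', hvE'⟩ := exists_four_pair hv hw hvX w.2
    (fun e => hwv (Subtype.ext e.symm)) (congrArg Subtype.val hvw)
  obtain ⟨c, hE'c⟩ := SESolv.exists_fix_four hH hE'
  have hvc : v • c = c := hE'c hvE'
  have hYc : Y ≤ stabilizer G c := SESolv.odd_fix_of_four hH hYodd hE' hE'c hE'X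
  obtain ⟨hpc, -⟩ := centre_ne hH hxp.symm hv hvp hvc
  obtain ⟨y, hyX, hyo, hyp, -⟩ := exists_swap_mem hH (hEN he).1 hvX heo hv hep hvc hpc
  set q := x • p with hq
  have hle : coreOf r p q ≤ stabilizer G c := coreOf_le_stab hH hr2 hxp.symm h.pgroup (le_inf hYp hYx)
    hE' hE'c hE'X hvE' hv hvp (h.moves v hvX hv)
  haveI : Group.IsSolvable (pairStab p c) := OddChar.oddSolvable _ (pairStab_odd hH hpc)
  have hYD : Y ≤ pairStab p c := le_inf hYp hYc
  have hle2 : coreOf r p q ≤ pairStab p c := le_inf ((coreOf_le p q).trans inf_le_left) hle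
  have h1 : coreOf r p q ≤ coreOf r p c := by
    intro z hz
    refine ⟨⟨z, hle2 hz⟩, CTransitivity.le_pPrimeCore_of_invariant (p := r) hr2
      (A := Y.subgroupOf (pairStab p c)) (D := (coreOf r p q).subgroupOf (pairStab p c))
      h.pgroup.comap_subtype ?_ ?_ ?_ (mem_subgroupOf.2 hz), rfl⟩
    · intro g hg hk
      rw [mem_subgroupOf]
      refine h.mem_of_centralizes hH hr2 hD (mem_centralizer_iff.2 fun z hz =>
        congrArg Subtype.val (mem_centralizer_iff.1 hg ⟨z, hYD hz⟩ (mem_subgroupOf.2 hz))) ?_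
      obtain ⟨k, hk⟩ := hk
      refine IsPGroup.iff_card.2 ⟨k, ?_⟩
      rw [Nat.card_zpowers, Subgroup.orderOf_coe, hk]
    · rw [Nat.card_congr (subgroupOfEquivOfLe hle2).toEquiv]
      exact coreOf_coprime p q
    · intro g hg
      refine SEBrick.mem_normalizer_of fun z hz => mem_subgroupOf.2 ?_
      exact SEBrick.conj_mem_of (pairStab_le_normalizer_coreOf p q
        ((le_inf hYp hYx : Y ≤ pairStab p q) (mem_subgroupOf.1 hg))) (mem_subgroupOf.1 hz)
  -- the two pairs are conjugate
  obtain ⟨k, -, hkp, hkc⟩ := hD.trans y x hyX hx (hyp.symm ▸ hpc.symm) hxp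
  rw [hyp, ← hq] at hkc
  have heq : coreOf r p q = coreOf r p c := by
    refine eq_of_le_of_card_ge h1 ?_
    have hm := card_le_of_le (coreOf_map_le (r := r) k p c)
    rw [hkp, hkc, card_map_of_injective (MulAut.conj k).injective] at hm
    exact hm
  have hvM : v ∈ normalizer (coreOf r p q : Set G) := swapper_mem_normalizer_coreOf hv hvp
  have hyM : y ∈ normalizer (coreOf r p q : Set G) := heq ▸ swapper_mem_normalizer_coreOf hyo hyp
  refine ⟨p, q, coreOf r p q, y * v * y⁻¹, v, hxp.symm, hne, (coreOf_le p q).trans inf_le_left,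
    pairStab_le_normalizer_coreOf p q, (Invol.order_conj y v).trans hv, ?_,
    mul_mem (mul_mem hyM hvM) (inv_mem hyM), hvM, hvp⟩
  rw [mul_smul, mul_smul, Invol.inv_self hyo, hyp, hvc, swap_back hyo hyp]

/-- A Sylow subgroup of the stabiliser of `p` in the normaliser, and a four-group normalising the centre of
its Thompson subgroup. -/
theorem exists_sylow_four (h : MaxPre H r Y p) (hH : Cfsg.IsStronglyEmbedded H) (hr2 : r ≠ 2)
    (hD : LocalData (normalizer (Y : Set G)) p K) :
    ∃ R F : Subgroup G, IsPGroup r R ∧ R ≤ normalizer (Y : Set G) ⊓ stabilizer G p ∧ Y ≤ R ∧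
      Nat.card R = r ^ preRank r Y p ∧ SEBrick.IsFour F ∧
      F ≤ normalizer (Y : Set G) ⊓ stabilizer G p ∧
      F ≤ normalizer (ZJ.zCore r False R : Set G) := by
  classical
  set X := normalizer (Y : Set G) with hX
  set L := X ⊓ stabilizer G p with hL
  obtain ⟨E, hE, hEN⟩ := h.four
  have hYK := h.le_kernel hH hr2 hD
  have hKL : K ≤ L := hD.le_stab
  set Inv : Set G := {s | s ∈ X ∧ orderOf s = 2 ∧ s • p = p} with hInv
  set L0 := K ⊔ closure Inv with hL0
  have hL0L : L0 ≤ L := sup_le hKL ((closure_le _).2 fun s hs => mem_inf.2 ⟨hs.1, hs.2.2⟩)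
  have hnL0 : L ≤ normalizer (L0 : Set G) := fun g hg => SEBrick.mem_normalizer_of fun z hz => by
    have hle : L0 ≤ L0.comap (MulAut.conj g).toMonoidHom := by
      refine sup_le (fun k hk => mem_sup_left (SEBrick.conj_mem_of (hD.norm hg.1) hk))
        ((closure_le _).2 fun s hs => mem_sup_right (subset_closure ?_))
      refine ⟨mul_mem (mul_mem hg.1 hs.1) (inv_mem hg.1), (Invol.order_conj g s).trans hs.2.1, ?_⟩
      have h1 := conj_smul_eq (g := g) hs.2.2
      rwa [show g • p = p from hg.2] at h1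
    exact hle hz
  -- the squares lie in the kernel
  have hsq : ∀ z ∈ L0, z * z ∈ K := by
    haveI : (K.subgroupOf X).Normal := normal_subgroupOf_of_le_normalizer hD.norm
    set π := QuotientGroup.mk' (K.subgroupOf X) with hπ
    have hone : ∀ z : X, π z = 1 ↔ (z : G) ∈ K := fun z =>
      (QuotientGroup.eq_one_iff z).trans mem_subgroupOf
    set Q0 := π '' {z : X | (z : G) ∈ Inv} with hQ0
    have hq2 : ∀ a ∈ Q0, a * a = 1 := by
      rintro _ ⟨a, ha, rfl⟩
      rw [← map_mul, hone, Subgroup.coe_mul, Invol.mul_self ha.2.1]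
      exact one_mem K
    have hqc : ∀ a ∈ Q0, ∀ b ∈ Q0, a * b = b * a := by
      intro _ ha' _ hb'
      obtain ⟨a, ha, rfl⟩ := ha'
      obtain ⟨b, hb, rfl⟩ := hb'
      have hab : π (a * b) * π (a * b) = 1 := by
        rw [← map_mul, hone]
        exact hD.comm a b a.2 b.2 ha.2.1 hb.2.1 ha.2.2 hb.2.2
      rw [map_mul] at hab
      calc π a * π b = (π a * π b)⁻¹ := (inv_eq_of_mul_eq_one_right hab).symm
        _ = π b * π a := by
          rw [mul_inv_rev, inv_eq_of_mul_eq_one_right (hq2 _ ⟨a, ha, rfl⟩),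
            inv_eq_of_mul_eq_one_right (hq2 _ ⟨b, hb, rfl⟩)]
    set C := closure Q0 with hC
    have hC1 : C ≤ centralizer Q0 := (closure_le _).2 fun a ha => mem_centralizer_iff.2 fun b hb => hqc b hb a ha
    have hC2 : C ≤ centralizer (C : Set (X ⧸ K.subgroupOf X)) :=
      (closure_le _).2 fun a ha => mem_centralizer_iff.2 fun b hb => (mem_centralizer_iff.1 (hC1 hb) a ha).symm
    have hCsq : ∀ a ∈ C, a * a = 1 := by
      intro a ha
      induction ha using closure_induction with
      | mem a ha => exact hq2 a ha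
      | one => exact one_mul 1
      | mul a b ha hb iha ihb =>
        have hc : b * a = a * b := mem_centralizer_iff.1 (hC2 ha) b hb
        calc a * b * (a * b) = a * (b * a) * b := by group
          _ = a * a * (b * b) := by rw [hc]; group
          _ = 1 := by rw [iha, ihb, one_mul]
      | inv a _ iha => rw [← mul_inv_rev, iha, inv_one]
    have hle : L0 ≤ (C.comap π).map X.subtype := by
      refine sup_le (fun k hk => ⟨⟨k, hD.le hk⟩, ?_, rfl⟩)
        ((closure_le _).2 fun s hs => ⟨⟨s, hs.1⟩, subset_closure ⟨⟨s, hs.1⟩, hs, rfl⟩, rfl⟩)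
      show π ⟨k, hD.le hk⟩ ∈ C
      rw [(hone _).2 hk]
      exact one_mem C
    intro z hz
    obtain ⟨w, hw, rfl⟩ := hle hz
    have hw2 := hCsq _ hw
    rwa [← map_mul, hone] at hw2
  have hKo : ¬ 2 ∣ Nat.card K := fun h => Nat.not_even_iff_odd.2 hD.odd (even_iff_two_dvd.2 h)
  -- the 2-index of the kernel
  have hfac0 : (Nat.card L0).factorization r = (Nat.card K).factorization r := by
    haveI : (K.subgroupOf L0).Normal :=
      normal_subgroupOf_of_le_normalizer (hL0L.trans (inf_le_left.trans hD.norm))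
    have h2 : IsPGroup 2 (L0 ⧸ K.subgroupOf L0) := fun z => by
      induction z using QuotientGroup.induction_on with
      | _ z =>
        refine ⟨1, ?_⟩
        rw [pow_one, pow_two, ← QuotientGroup.mk_mul, QuotientGroup.eq_one_iff, mem_subgroupOf]
        exact hsq z z.2
    obtain ⟨j, hj⟩ := IsPGroup.iff_card.1 h2
    rw [card_eq_card_quotient_mul_card_subgroup (K.subgroupOf L0), hj,
      Nat.card_congr (subgroupOfEquivOfLe (le_sup_left : K ≤ L0)).toEquiv,
      Nat.factorization_mul (pow_ne_zero _ two_ne_zero) Nat.card_pos.ne', Finsupp.add_apply,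
      Nat.Prime.factorization_pow Nat.prime_two, Finsupp.single_eq_of_ne hr2, zero_add]
  have hfacY : (Nat.card Y).factorization r = (Nat.card K).factorization r := by
    obtain ⟨S, hS⟩ := (h.pgroup.comap_subtype : IsPGroup r (Y.subgroupOf K)).exists_le_sylow
    have he := h.eq_of_le_kernel hD (S.isPGroup'.map K.subtype)
      (fun y hy => ⟨⟨y, hYK hy⟩, hS hy, rfl⟩) (map_subtype_le _)
    rw [← he, CoprimeAct.card_map_sylow, Nat.Prime.factorization_pow (Fact.out : r.Prime),
      Finsupp.single_eq_same]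
  haveI : Fact (Nat.Prime 2) := ⟨Nat.prime_two⟩
  obtain ⟨S⟩ : Nonempty (Sylow 2 L0) := inferInstance
  set S' := (S : Subgroup L0).map L0.subtype with hS'
  have hS'L0 : S' ≤ L0 := map_subtype_le _
  have hS'2 : IsPGroup 2 S' := S.isPGroup'.map _
  have hS'sq : ∀ s ∈ S', s * s = 1 := fun s hs => by
    obtain ⟨j, hj⟩ := IsPGroup.iff_card.1 hS'2
    exact orderOf_eq_one_iff.1 (Nat.eq_one_of_dvd_coprimes
      ((Nat.coprime_two_left.2 hD.odd).pow_left j)
      (hj ▸ Subgroup.orderOf_dvd_natCard S' (mul_mem hs hs))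
      (Subgroup.orderOf_dvd_natCard K (hsq s (hS'L0 hs))))
  obtain ⟨F, hFS, hF⟩ := exists_four_le hS'L0 (E := E) (fun e he => by
      by_cases he1 : e = 1
      · rw [he1]; exact one_mem _
      · exact mem_sup_right (subset_closure ⟨(hEN he).1, hE.order he he1, (hEN he).2⟩))
    hE (by rw [hS', CoprimeAct.card_map_sylow, Nat.Prime.factorization_pow Nat.prime_two, Finsupp.single_eq_same])
  -- a Sylow subgroup of the stabiliser through the normaliser of `S'`
  set M0 := L ⊓ normalizer (S' : Set G) with hM0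
  obtain ⟨T⟩ : Nonempty (Sylow r M0) := inferInstance
  set R'' := (T : Subgroup M0).map M0.subtype with hR''
  have hR''L : R'' ≤ L := (map_subtype_le _).trans inf_le_left
  have hR''N : R'' ≤ normalizer (S' : Set G) := (map_subtype_le _).trans inf_le_right
  have hR''Y : R'' ≤ normalizer (Y : Set G) := hR''L.trans inf_le_left
  set R := R'' ⊔ Y with hR
  have hRp : IsPGroup r R := (T.isPGroup'.map _).to_sup_of_normal_right' h.pgroup hR''Y
  have hRL : R ≤ L := sup_le hR''L (hYK.trans hKL)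
  have hfacR : (Nat.card R).factorization r = (Nat.card L).factorization r := by
    refine le_antisymm (factorization_le_of_dvd Nat.card_pos.ne' (card_dvd_of_le hRL) r) ?_
    have h1 := congrArg (fun n : ℕ => n.factorization r) (card_sup_mul_inf hR''Y)
    have h2 := congrArg (fun n : ℕ => n.factorization r) (frattini_card hL0L hnL0 S)
    simp only [← hS', ← hM0] at h1 h2
    rw [← hR, Nat.factorization_mul Nat.card_pos.ne' Nat.card_pos.ne',
      Nat.factorization_mul Nat.card_pos.ne' Nat.card_pos.ne', Finsupp.add_apply, Finsupp.add_apply,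
      hR'', CoprimeAct.card_map_sylow, Nat.Prime.factorization_pow (Fact.out : r.Prime),
      Finsupp.single_eq_same, ← hR''] at h1
    rw [Nat.factorization_mul Nat.card_pos.ne' Nat.card_pos.ne',
      Nat.factorization_mul Nat.card_pos.ne' Nat.card_pos.ne', Finsupp.add_apply, Finsupp.add_apply,
      hfac0, ← hfacY] at h2
    have h3 := factorization_le_of_dvd Nat.card_pos.ne'
      (card_dvd_of_le (le_inf (inf_le_left.trans (map_subtype_le _))
        (inf_le_right.trans (hYK.trans le_sup_left)) : R'' ⊓ Y ≤ M0 ⊓ L0)) r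
    omega
  have hRcard : Nat.card R = r ^ preRank r Y p := by
    obtain ⟨j, hj⟩ := IsPGroup.iff_card.1 hRp
    rw [preRank, ← hX, ← hL, ← hfacR, hj, Nat.Prime.factorization_pow (Fact.out : r.Prime),
      Finsupp.single_eq_same]
  -- the `{2, r}`-group
  set A := R'' ⊔ S' with hA
  set L' := A ⊔ Y with hL'
  have hAY : A ≤ normalizer (Y : Set G) := sup_le hR''Y (hS'L0.trans (hL0L.trans inf_le_left))
  have hL'L : L' ≤ L := sup_le (sup_le hR''L (hS'L0.trans hL0L)) (hYK.trans hKL)
  have hL'dvd : Nat.card L' ∣ Nat.card R'' * Nat.card S' * Nat.card Y := by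
    rw [← card_sup_mul_inf hR''N, mul_right_comm, ← card_sup_mul_inf hAY]
    exact Dvd.dvd.mul_right (dvd_mul_right _ _) _
  have hrpow : ∃ j, Nat.card R'' * Nat.card Y = r ^ j := by
    obtain ⟨i, hi⟩ := IsPGroup.iff_card.1 (T.isPGroup'.map M0.subtype)
    obtain ⟨j, hj⟩ := IsPGroup.iff_card.1 h.pgroup
    exact ⟨i + j, by rw [hi, hj, pow_add]⟩
  obtain ⟨jr, hjr⟩ := hrpow
  rw [mul_right_comm, hjr] at hL'dvd
  obtain ⟨j2, hj2⟩ := IsPGroup.iff_card.1 hS'2
  have hRL' : R ≤ L' := sup_le (le_sup_left.trans le_sup_left) le_sup_right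
  have hS'L' : S' ≤ L' := le_sup_right.trans le_sup_left
  have hquad : ZJ.IsQuad r L' := by
    refine isQuad_of_exponent_two hr2 fun P s hs => ?_
    obtain ⟨S1, hS1⟩ := CoprimeAct.exists_sylow_of_card (K := L') (p := 2) hS'L' (by
      rw [hj2]
      congr 1
      refine le_antisymm ?_ ?_
      · have h0 := factorization_le_of_dvd Nat.card_pos.ne' (hj2 ▸ card_dvd_of_le hS'L') 2
        rwa [Nat.Prime.factorization_pow Nat.prime_two, Finsupp.single_eq_same] at h0
      · have h0 := factorization_le_of_dvd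
          (mul_ne_zero (pow_ne_zero _ (Fact.out : r.Prime).ne_zero) Nat.card_pos.ne') hL'dvd 2
        rwa [hj2, Nat.factorization_mul (pow_ne_zero _ (Fact.out : r.Prime).ne_zero)
          (pow_ne_zero _ two_ne_zero), Finsupp.add_apply,
          Nat.Prime.factorization_pow (Fact.out : r.Prime), Finsupp.single_eq_of_ne (Ne.symm hr2),
          zero_add, Nat.Prime.factorization_pow Nat.prime_two, Finsupp.single_eq_same] at h0)
    obtain ⟨g, hg⟩ := MulAction.exists_smul_eq L' S1 P
    rw [← hg] at hs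
    replace hs : s ∈ ((MulAut.conj g • S1 : Sylow 2 L') : Subgroup L') := hs
    rw [Sylow.pointwise_smul_def] at hs
    obtain ⟨w, hw, rfl⟩ := hs
    have hw2 : w * w = 1 := Subtype.ext (hS'sq _ (hS1 ▸ ⟨w, hw, rfl⟩))
    show MulAut.conj g w * MulAut.conj g w = 1
    rw [← map_mul, hw2, map_one]
  have hYL' : Y ≤ L' := le_sup_right
  have hYn : (Y.subgroupOf L').Normal :=
    normal_subgroupOf_of_le_normalizer (hL'L.trans inf_le_left)
  have hc : centralizer (Cfsg.pCore r L' : Set L') ≤ Cfsg.pCore r L' := by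
    set C := centralizer ((Y.subgroupOf L' : Subgroup L') : Set L') with hC
    haveI := hYn
    haveI hCn : C.Normal := by
      refine ⟨fun n hn g => mem_centralizer_iff.2 fun y hy => ?_⟩
      have hy' := mem_centralizer_iff.1 hn _ (by simpa using hYn.conj_mem y hy g⁻¹ : g⁻¹ * y * g ∈ _)
      calc y * (g * n * g⁻¹) = g * (g⁻¹ * y * g * n) * g⁻¹ := by group
        _ = g * (n * (g⁻¹ * y * g)) * g⁻¹ := by rw [hy']
        _ = _ := by group
    have hodd : Odd (Nat.card C) := SEBrick.odd_card_of_orders fun w hw hw2 => by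
      rw [← Subgroup.orderOf_coe] at hw2
      have hwc : ∀ y ∈ Y, y * (w : G) = w * y := fun y hy =>
        congrArg Subtype.val (mem_centralizer_iff.1 hw ⟨y, hYL' hy⟩ (mem_subgroupOf.2 hy))
      exact h.moves w ((hL'L w.2).1) hw2 fun y hy => mem_centralizer_singleton_iff.2 (hwc y hy)
    have hCdvd : Nat.card C ∣ r ^ jr := by
      refine Nat.Coprime.dvd_of_dvd_mul_right ?_ (((card_subgroup_dvd_card C).trans hL'dvd))
      rw [hj2]
      exact (Nat.coprime_two_right.2 hodd).pow_right j2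
    obtain ⟨i, -, hi⟩ := (Nat.dvd_prime_pow (Fact.out : r.Prime)).1 hCdvd
    refine le_trans (centralizer_le ?_) (FittingCores.le_pCore hCn (IsPGroup.of_card hi))
    exact fun y hy => FittingCores.le_pCore hYn h.pgroup.comap_subtype hy
  obtain ⟨TR, hTR⟩ := CoprimeAct.exists_sylow_of_card (K := L') (p := r) hRL' (by
    rw [hRcard]
    congr 1
    refine le_antisymm ?_ (factorization_le_of_dvd Nat.card_pos.ne' (card_dvd_of_le hL'L) r)
    have h0 := factorization_le_of_dvd Nat.card_pos.ne' (hRcard ▸ card_dvd_of_le hRL') r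
    rwa [Nat.Prime.factorization_pow (Fact.out : r.Prime), Finsupp.single_eq_same] at h0)
  have hn := SESolv.le_normalizer_map (ZJ.zCore_normal hr2 hquad hc TR False)
  rw [ZJ.zCore_map L'.subtype L'.subtype_injective.injOn, hTR] at hn
  exact ⟨R, F, hRp, hRL, le_sup_right, hRcard, hF, hFS.trans (hS'L0.trans hL0L),
    hFS.trans (hS'L'.trans hn)⟩

end MaxPre

/-- A configuration gives a W-configuration. -/
theorem wShape_of_pre (hH : Cfsg.IsStronglyEmbedded H) (hcore : H.normalCore = ⊥)
    (ih : Below.{u} (Nat.card G)) {r : ℕ} [Fact r.Prime] (hr2 : r ≠ 2) {Y₀ : Subgroup G} {p₀ : G ⧸ H}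
    (h0 : Pre H r Y₀ p₀) : WShape H := by
  obtain ⟨Y, p, h⟩ := exists_maxPre h0
  obtain ⟨K, hD⟩ := h.exists_localData hH hcore ih hr2
  rcases h.wShape_or_coreOf_eq_bot hH hr2 hD with hW | hbot
  · exact hW
  set X := normalizer (Y : Set G) with hX
  obtain ⟨R, F, hRp, hRL, hYR, hRcard, hF, hFL, hFW⟩ := h.exists_sylow_four hH hr2 hD
  obtain ⟨x, hx, hxp, hRq⟩ := hD.fixed r R Fact.out hr2 hRp (hRL.trans inf_le_left) (hRL.trans inf_le_right)
  set q := x • p with hq
  have hpq : p ≠ q := hxp.symm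
  have hRpq : R ≤ pairStab p q := le_inf (hRL.trans inf_le_right) hRq
  obtain ⟨e, he, he1⟩ := SESolv.IsFour.exists_ne hF
  have heo := hF.order he he1
  have hep : e • p = p := (hFL he).2
  obtain ⟨v, hvX, hv, hvp, -⟩ := exists_swap_mem hH (hFL he).1
    (mul_mem (mul_mem hx (hFL he).1) (inv_mem hx)) heo ((Invol.order_conj x e).trans heo) hep
    (conj_smul_eq hep : (x * e * x⁻¹) • q = q) hpq
  -- some element normalising `R` moves `p` to `q`
  obtain ⟨g, hgR, hgp⟩ : ∃ g ∈ normalizer (R : Set G), g • p = q := by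
    set D := X ⊓ pairStab p q with hD'
    have hRD : R ≤ D := le_inf (hRL.trans inf_le_left) hRpq
    have hRD' : Nat.card R = r ^ (Nat.card D).factorization r := by
      rw [hRcard]
      congr 1
      refine le_antisymm ?_ (factorization_le_of_dvd Nat.card_pos.ne'
        (card_dvd_of_le (inf_le_inf_left X inf_le_left)) r)
      have h0' := factorization_le_of_dvd Nat.card_pos.ne' (hRcard ▸ card_dvd_of_le hRD) r
      rwa [Nat.Prime.factorization_pow (Fact.out : r.Prime), Finsupp.single_eq_same] at h0'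
    obtain ⟨P1, hP1⟩ := CoprimeAct.exists_sylow_of_card hRD hRD'
    have hle2 : R.map (MulAut.conj v).toMonoidHom ≤ D := by
      rintro _ ⟨z, hz, rfl⟩
      exact mem_inf.2 ⟨mul_mem (mul_mem hvX (hRD hz).1) (inv_mem hvX),
        conj_mem_pairStab hvp (swap_back hv hvp) (hRD hz).2⟩
    obtain ⟨P2, hP2⟩ := CoprimeAct.exists_sylow_of_card (p := r) hle2
      (by rw [card_map_of_injective (MulAut.conj v).injective, hRD'])
    obtain ⟨d, hd⟩ := MulAction.exists_smul_eq D P2 P1
    refine ⟨d * v, SEBrick.mem_normalizer_of fun z hz => ?_, by rw [mul_smul, hvp]; exact d.2.2.2⟩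
    obtain ⟨w, hw, hwe⟩ : v * z * v⁻¹ ∈ (P2 : Subgroup D).map D.subtype := hP2 ▸ ⟨z, hz, rfl⟩
    rw [← hP1, ← hd]
    refine ⟨MulAut.conj d w, ?_, ?_⟩
    · show _ ∈ ((MulAut.conj d • P2 : Sylow r D) : Subgroup D)
      rw [Sylow.pointwise_smul_def]
      exact ⟨w, hw, rfl⟩
    · have hwe' : (w : G) = v * z * v⁻¹ := hwe
      simp [hwe', mul_assoc]
  set W := ZJ.zCore r False R with hW
  have hR1 : R ≠ ⊥ := fun h1 => h.ne_bot (le_bot_iff.1 (h1 ▸ hYR))
  have hW1 : W ≠ ⊥ := ZJ.zCore_ne_bot hRp hR1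
  have hRW : normalizer (R : Set G) ≤ normalizer (W : Set G) :=
    (ZJ.normalizer_le_normalizer_zJ R).trans (ZJ.normalizer_zJ_le_normalizer_zCore R)
  have hWp : W ≤ stabilizer G p :=
    ((ZJ.zCore_le_zJ R).trans (ZJ.zJ_le R)).trans (hRL.trans inf_le_right)
  by_cases hfull : Nat.card R = r ^ (Nat.card (pairStab p q)).factorization r
  · -- `R` is a Sylow subgroup of the stabiliser of the pair
    have hodd : Odd (Nat.card (pairStab p q)) := pairStab_odd hH hpq
    haveI : Group.IsSolvable (pairStab p q) := OddChar.oddSolvable _ hodd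
    have hb : Cfsg.pPrimeCore r (pairStab p q) = ⊥ :=
      (Subgroup.map_eq_bot_iff_of_injective _ (pairStab p q).subtype_injective).1 (hbot x hx hxp)
    obtain ⟨S, hS⟩ := CoprimeAct.exists_sylow_of_card hRpq hfull
    have hn := SESolv.le_normalizer_map (ZJ.zCore_normal hr2 (PStable.isQuad_of_odd hr2 hodd)
      (FittingCores.centralizer_pCore_le Fact.out hb) S False)
    rw [ZJ.zCore_map (pairStab p q).subtype (pairStab p q).subtype_injective.injOn, hS] at hn
    exact ⟨p, q, W, e, g, hpq, hW1, hWp, hn, heo, hep, hFW he, hRW hgR, hgp⟩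
  exfalso
  -- the rank grows in the normaliser of `W`
  obtain ⟨S, hS⟩ := (hRp.comap_subtype : IsPGroup r (R.subgroupOf (pairStab p q))).exists_le_sylow
  set P := (S : Subgroup (pairStab p q)).map (pairStab p q).subtype with hP
  have hRP : R ≤ P := fun z hz => ⟨⟨z, hRpq hz⟩, hS hz, rfl⟩
  obtain ⟨z, hzP, hzR, hzn⟩ := exists_normalizer_gt (S.isPGroup'.map _) hRP
    (fun e => hfull ((congrArg (fun Z : Subgroup G => Nat.card Z) e).symm.trans (CoprimeAct.card_map_sylow S)))
  set X' := normalizer (W : Set G) with hX'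
  have hFX' : F ≤ X' ⊓ stabilizer G p := le_inf hFW (hFL.trans inf_le_right)
  obtain ⟨K', hD'⟩ := exists_localData hH ih (card_normalizer_lt hcore hW1 hWp) hF
    (hFX'.trans inf_le_left) (hFX'.trans inf_le_right) ⟨g, hRW hgR, hgp ▸ hpq.symm⟩
  have hlt : preRank r Y p < (Nat.card (X' ⊓ stabilizer G p : Subgroup G)).factorization r := by
    set R2 := zpowers z ⊔ R with hR2
    have hR2p : IsPGroup r R2 :=
      ((S.isPGroup'.map _).to_le (zpowers_le.2 hzP)).to_sup_of_normal_right' hRp (zpowers_le.2 hzR)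
    have hR2le : R2 ≤ X' ⊓ stabilizer G p := sup_le
      (zpowers_le.2 (mem_inf.2 ⟨hRW hzR, ((map_subtype_le _ : P ≤ pairStab p q) hzP).1⟩))
      (le_inf (le_normalizer.trans hRW) (hRL.trans inf_le_right))
    obtain ⟨j, hj⟩ := IsPGroup.iff_card.1 hR2p
    have hlt' : Nat.card R < Nat.card R2 := lt_of_le_of_ne (card_le_of_le le_sup_right) fun e =>
      hzn ((eq_of_le_of_card_ge le_sup_right e.ge).ge (mem_sup_left (mem_zpowers z)))
    rw [hRcard, hj] at hlt'
    refine ((Nat.pow_lt_pow_iff_right (Fact.out : r.Prime).one_lt).1 hlt').trans_le ?_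
    exact ((Fact.out : r.Prime).pow_dvd_iff_le_factorization Nat.card_pos.ne').1 (hj ▸ card_dvd_of_le hR2le)
  -- an element inverted by an involution at `p` inside the kernel
  obtain ⟨y, hy, hey⟩ := SetLike.not_le_iff_exists.1 (h.moves e (hFL he).1 heo)
  set d := e * y * e⁻¹ * y⁻¹ with hd
  have hyX' : y ∈ X' := hRW (le_normalizer (hYR hy))
  have hdY : d ∈ Y := mul_mem (SEBrick.conj_mem_of (hFL he).1 hy) (inv_mem hy)
  have hdodd : Odd (orderOf d) := SEBrick.odd_order (odd_of_pGroup hr2 h.pgroup) hdY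
  have hd1 : d ≠ 1 := fun h1 => hey (mem_centralizer_singleton_iff.2 (by
    rw [hd, mul_inv_eq_one, mul_inv_eq_iff_eq_mul] at h1
    exact h1.symm))
  have hdK : d ∈ K' := by
    have he2 : e * (y * e * y⁻¹) = d := by rw [hd, Invol.inv_self heo]; group
    have h2 := hD'.comm e (y * e * y⁻¹) (hFX' he).1
      (mul_mem (mul_mem hyX' (hFX' he).1) (inv_mem hyX')) heo ((Invol.order_conj y e).trans heo) hep
      (by
        have := conj_smul_eq (g := y) hep
        rwa [show y • p = p from (h.fix hH hr2) hy] at this)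
    rw [he2, ← pow_two] at h2
    obtain ⟨k, hk⟩ := Invol.exists_sqrt hdodd
    have h3 := pow_mem h2 k
    rwa [← pow_mul, mul_comm, pow_mul, hk] at h3
  have hdinv : e * d * e⁻¹ = d⁻¹ := by
    rw [hd, mul_inv_rev, mul_inv_rev, mul_inv_rev, inv_inv, inv_inv, Invol.inv_self heo]
    calc e * (e * y * e * y⁻¹) * e = e * e * y * e * y⁻¹ * e := by group
      _ = _ := by rw [Invol.mul_self heo]; group
  have hdK' : zpowers d ≤ K' := zpowers_le.2 hdK
  obtain ⟨T, hT⟩ := ((h.pgroup.to_le (zpowers_le.2 hdY)).comap_subtype :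
    IsPGroup r ((zpowers d).subgroupOf K')).exists_le_sylow
  have hdT : d ∈ (T : Subgroup K').map K'.subtype :=
    ⟨⟨d, hdK⟩, hT (mem_subgroupOf.2 (mem_zpowers d)), rfl⟩
  obtain ⟨hpre, hle⟩ := pre_of_kernel hD' hF hFX' ⟨g, hRW hgR, hgp ▸ hpq.symm⟩ T
    fun w hw hw2 ⟨n, hn, hnp⟩ hc => by
      obtain ⟨c, hwc⟩ := Invol.se_exists_fix hH hw2
      have hcp : ∀ (w' : G) (c' : G ⧸ H), orderOf w' = 2 → w' * d = d * w' → w' • c' = c' → c' = p :=
        fun w' c' hw' hcom hc' => klemma hH heo hw' hdodd hd1 hdinv hcom hep hc'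
      have h1 := hcp w c hw2 (mem_centralizer_singleton_iff.1 (hc hdT)).symm hwc
      refine hnp (hcp (n * w * n⁻¹) (n • p) ((Invol.order_conj n w).trans hw2) ?_ ?_)
      · have hd' := mem_centralizer_singleton_iff.1 (hc ((mem_normalizer_iff''.1 hn d).1 hdT))
        calc n * w * n⁻¹ * d = n * (w * (n⁻¹ * d * n)) * n⁻¹ := by group
          _ = n * (n⁻¹ * d * n * w) * n⁻¹ := by rw [hd']
          _ = _ := by group
      · rw [← h1]; exact conj_smul_eq hwc
  exact absurd (hle.trans (h.top _ p hpre)) (not_le.2 hlt)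

end Cfsg.Agent.SEMain
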