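import Cfsg.Agent.Lib.SEMain.Main
import Cfsg.Agent.Lib.SEMain.RankTwo

/-!
# A failure of the lonely condition

An element inverted by an involution, fixing its point and another one, lies in an `r`-group maximal among
those with three fixed points: this gives `HypA` or a W-configuration.
-/

set_option autoImplicit false
set_option linter.style.haveILetI false
set_option linter.unusedSectionVars false

namespace Cfsg.Agent.SEMain

open Subgroup MulAction

universe u

variable {G : Type u} [Group G] [Finite G] {H : Subgroup G}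

/-- An inverted element fixing three points gives `HypA` or a W-configuration. -/
theorem exists_hypA_or_wShape (hH : Cfsg.IsStronglyEmbedded H) (hcore : H.normalCore = ⊥)
    (ih : Below.{u} (Nat.card G)) {t k : G} {c x : G ⧸ H} (ht : orderOf t = 2)
    (hinv : t * k * t⁻¹ = k⁻¹) (hk : Odd (orderOf k)) (hk1 : k ≠ 1) (htc : t • c = c) (hkc : k • c = c)
    (hkx : k • x = x) (hxc : x ≠ c) :
    (∃ r Y F, r.Prime ∧ HypA H r Y F) ∨ WShape H := by
  classical
  set n := orderOf k with hn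
  have hn1 : n ≠ 1 := fun h => hk1 (orderOf_eq_one_iff.1 h)
  set r := n.minFac with hr
  have hrp : r.Prime := Nat.minFac_prime hn1
  haveI := Fact.mk hrp
  have hr2 : r ≠ 2 := fun h => Nat.not_even_iff_odd.2 hk (even_iff_two_dvd.2 (h ▸ Nat.minFac_dvd n))
  set d := k ^ (n / r) with hd
  have hdo : orderOf d = r := orderOf_pow_orderOf_div (orderOf_pos k).ne' (Nat.minFac_dvd n)
  have hd1 : d ≠ 1 := fun h => hrp.ne_one (hdo ▸ orderOf_eq_one_iff.2 h)
  have hdodd : Odd (orderOf d) := hdo ▸ hrp.odd_of_ne_two hr2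
  have hdinv : t * d * t⁻¹ = d⁻¹ := Invol.conj_pow hinv _
  have hdc : d • c = c := pow_mem (show k ∈ stabilizer G c from hkc) _
  have hdx : d • x = x := pow_mem (show k ∈ stabilizer G x from hkx) _
  have htx : t • x ≠ x := fun h => hxc (Invol.se_fix_unique hH ht h htc)
  have hdtx : d • t • x = t • x := by
    have h1 := conj_smul_eq (g := t) (x := d⁻¹) (inv_smul_eq_iff.2 hdx.symm)
    rwa [show t * d⁻¹ * t⁻¹ = (t * d * t⁻¹)⁻¹ by group, hdinv, inv_inv] at h1
  have hdp : IsPGroup r (zpowers d) := IsPGroup.of_card (n := 1) (by rw [Nat.card_zpowers, hdo, pow_one])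
  have hrm : r ∣ numInv H :=
    dvd_numInv hH htx.symm ht rfl (mem_pairStab.2 ⟨hdx, hdtx⟩) hd1 hdinv hdp
  obtain ⟨Y, hdY, ⟨hY, hY3⟩, hmax⟩ := Finite.exists_le_maximal
    (p := fun S : Subgroup G => IsPGroup r S ∧ FixesThree H S) (a := zpowers d)
    ⟨hdp, c, x, t • x, hxc.symm, htx.symm, fun e => hxc (by
      rw [← inv_smul_smul t x, ← e, inv_smul_eq_iff, htc]), zpowers_le.2 hdc, zpowers_le.2 hdx,
      zpowers_le.2 hdtx⟩
  have hM : MaxThree H r Y := ⟨hY, hY3, fun Z hZ hle h3 => le_antisymm (hmax ⟨hZ, h3⟩ hle) hle⟩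
  set X := normalizer (Y : Set G) with hX
  by_cases hrk : BrauerSuzuki.RankOne X
  · obtain ⟨a, b, f, hab, hbf, haf, ha, hb, hf⟩ := hY3
    exact Or.inl ⟨r, Y, _, hrp, HypA.of_pairMaximal hH hr2 hrm hY
      (hM.pairMaximal_of_rankOne hH hr2 hrk) ha hb hf hab hbf haf⟩
  right
  -- every involution of the normaliser lies in a four-group fixing a fixed point of `Y`
  have hfour : ∀ w ∈ X, orderOf w = 2 → ∃ (e : G ⧸ H) (E : Subgroup G), SEBrick.IsFour E ∧
      E ≤ X ⊓ stabilizer G e ∧ w • e = e ∧ Y ≤ stabilizer G e := by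
    intro w hw hw2
    obtain ⟨v, hv, hvw, hwv⟩ := exists_commuting hrk (u := (⟨w, hw⟩ : X))
      (by rw [Subgroup.orderOf_mk]; exact hw2)
    rw [← Subgroup.orderOf_coe] at hv
    obtain ⟨E, hEX, hE, hwE⟩ := exists_four_pair hw2 hv hw v.2
      (fun e => hvw (Subtype.ext e.symm)) (congrArg Subtype.val hwv)
    obtain ⟨e, hEe⟩ := SESolv.exists_fix_four hH hE
    exact ⟨e, E, hE, le_inf hEX hEe, hEe hwE, SESolv.odd_fix_of_four hH (odd_of_pGroup hr2 hY) hE hEe hEX⟩
  have hmoves : ∀ w ∈ X, orderOf w = 2 → ¬ Y ≤ centralizer ({w} : Set G) := by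
    intro w hw hw2 hwY
    obtain ⟨e, E, -, -, hwe, hYe⟩ := hfour w hw hw2
    obtain ⟨g, hg, hge⟩ := hM.exists_move hH hr2 hYe
    have hcd : ∀ w' : G, Y ≤ centralizer ({w'} : Set G) → w' * d = d * w' := fun w' h =>
      (mem_centralizer_singleton_iff.1 (h (hdY (mem_zpowers d)))).symm
    have h1 : e = c := klemma hH ht hw2 hdodd hd1 hdinv (hcd w hwY) htc hwe
    refine hge ((klemma hH ht ((Invol.order_conj g w).trans hw2) hdodd hd1 hdinv (hcd _ fun y hy => ?_) htc
      (conj_smul_eq hwe)).trans h1.symm)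
    have h2 := mem_centralizer_singleton_iff.1 (hwY ((mem_normalizer_iff''.1 hg y).1 hy))
    refine mem_centralizer_singleton_iff.2 ?_
    calc y * (g * w * g⁻¹) = g * (g⁻¹ * y * g * w) * g⁻¹ := by group
      _ = g * (w * (g⁻¹ * y * g)) * g⁻¹ := by rw [h2]
      _ = _ := by group
  obtain ⟨w, hw, hw2⟩ := hM.exists_invol hH hr2
  obtain ⟨e, E, hE, hEXe, -, hYe⟩ := hfour w hw2 hw
  exact wShape_of_pre hH hcore ih hr2 ⟨hY, ⟨E, hE, hEXe⟩, hM.exists_move hH hr2 hYe, hmoves⟩

/-- `NoThree` holds. -/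
theorem noThree : NoThree.{u} := by
  intro G _ _ H hS _ hw
  by_contra hno
  refine hw ⟨fun t ht _ _ h1 h2 => Invol.se_fix_unique hS.se ht h1 h2,
    fun t k c x ht hinv hk hk1 hc hkc hkx => ?_, ?_⟩
  · by_contra hxc
    exact hno (exists_hypA_or_wShape hS.se hS.core hS.below ht hinv hk hk1 hc hkc hkx hxc)
  · obtain ⟨s, t, hs, ht, hs2, ht2, hne, -⟩ := hS.pair
    exact ⟨s, t, hs2, ht2, hne, SEBrick.fix_base_iff.2 hs, SEBrick.fix_base_iff.2 ht⟩

end Cfsg.Agent.SEMain
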