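import Cfsg.Agent.Lib.SEMain.EndShape
import Cfsg.Agent.Lib.SEMain.Omega.Main

/-!
# The odd index

The terminal shape against Theorem M.
-/

set_option autoImplicit false

namespace Cfsg.Agent.SEMain

universe u

/-- Theorem M. -/
theorem theoremM : TheoremM.{u} := fun _ _ _ W _ hsq hinv hW htr =>
  Omega.not_twoTransitive ⟨inferInstance, hsq, hinv, htr⟩ hW

/-- The centraliser of commuting involutions has odd index. -/
theorem oddIndex : OddIndex.{u} := oddIndex_of_theoremM theoremM

end Cfsg.Agent.SEMain
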