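import Cfsg.Agent.Lib.SEMain.CentredSets
import Cfsg.Agent.Lib.SEMain.NoGood
import Cfsg.Agent.Lib.SEMain.NoThree
import Cfsg.Agent.Lib.SEMain.OddIndexFinal
import Cfsg.Agent.Lib.SEMain.Commute.Wired
import Cfsg.Agent.Lib.SEMain.Commute.ThreePoint

/-!
# The main statement from the part still open
-/

set_option autoImplicit false

namespace Cfsg.Agent.SEMain

universe u

/-- The main statement from the shape of `[D, u]`. -/
theorem stmt_of_tAbelian (h3 : Commute.TAbelianStmt.{u}) : Stmt.{u} :=
  stmt_of_inputs theoremA noGood noThree (Commute.weakComm_of_shape Commute.threePointStmt h3) oddIndex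

end Cfsg.Agent.SEMain
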