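import Cfsg.Agent.Lib.SEMain.PairSylow

/-!
An `r`-group `Y` maximal among those fixing `a` and three points, with a larger one fixing `a` and only one
more point, contains no Sylow subgroup of a pair at `a`.
-/

set_option autoImplicit false
set_option linter.style.haveILetI false
set_option linter.unusedSectionVars false

namespace Cfsg.Agent.SEMain

open Subgroup MulAction

universe u

variable {G : Type u} [Group G] [Finite G] {H : Subgroup G} {r : ℕ} [Fact r.Prime]

/-- The congruence for an `r`-group acting on a set with at most one fixed point. -/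
theorem dvd_or_not_dvd_of_fixed {T : Subgroup G} (hT : IsPGroup r T) (S : Set (G ⧸ H))
    (hS : ∀ t ∈ T, ∀ x ∈ S, t • x ∈ S) :
    ((∀ x ∈ S, ¬ T ≤ stabilizer G x) → r ∣ Nat.card S) ∧
    (∀ a ∈ S, T ≤ stabilizer G a → (∀ x ∈ S, T ≤ stabilizer G x → x = a) → ¬ r ∣ Nat.card S) := by
  let A : SubMulAction T (G ⧸ H) := ⟨S, fun t x hx => hS t t.2 x hx⟩
  have h := hT.card_modEq_card_fixedPoints A
  change Nat.card S ≡ _ [MOD r] at h
  have hfx : ∀ x : A, x ∈ fixedPoints T A → T ≤ stabilizer G (x : G ⧸ H) := fun x hx t ht =>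
    congrArg Subtype.val (hx ⟨t, ht⟩)
  refine ⟨fun hno => ?_, fun a ha hTa huniq hd => ?_⟩
  · haveI : IsEmpty (fixedPoints T A) := ⟨fun x => hno _ x.1.2 (hfx x.1 x.2)⟩
    rw [Nat.card_of_isEmpty (α := fixedPoints T A)] at h
    exact Nat.modEq_zero_iff_dvd.1 h
  · haveI : Nonempty (fixedPoints T A) := ⟨⟨⟨a, ha⟩, fun t => Subtype.ext (hTa t.2)⟩⟩
    haveI : Subsingleton (fixedPoints T A) := ⟨fun x y => Subtype.ext (Subtype.ext
      ((huniq _ x.1.2 (hfx x.1 x.2)).trans (huniq _ y.1.2 (hfx y.1 y.2)).symm))⟩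
    rw [(Nat.card_eq_one_iff_unique (α := fixedPoints T A)).2 ⟨inferInstance, inferInstance⟩] at h
    exact (Fact.out : r.Prime).one_lt.ne' (Nat.dvd_one.1 ((Nat.ModEq.dvd_iff h dvd_rfl).1 hd))

/-- Two involutions with different centres are swapped inside the group they generate. -/
theorem exists_swap_mem (hH : Cfsg.IsStronglyEmbedded H) {L : Subgroup G} {s u : G} (hsL : s ∈ L) (huL : u ∈ L) (hs : orderOf s = 2)
    (hu : orderOf u = 2) {x y : G ⧸ H} (hx : s • x = x) (hy : u • y = y) (hxy : x ≠ y) :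
    ∃ w ∈ L, orderOf w = 2 ∧ w • x = y ∧ w * s * w⁻¹ = u := by
  have hodd : Odd (orderOf (s * u)) := by
    rw [← Nat.not_even_iff_odd]
    intro he
    have hc := Invol.half_commute hs hu he
    have hz := Invol.half_order hs hu he (orderOf_pos _)
    set z := (s * u) ^ (orderOf (s * u) / 2)
    have h1 : z • x = x := Invol.se_fix_unique hH hs (by rw [← mul_smul, hc.1.symm.eq, mul_smul, hx]) hx
    have h2 : z • y = y := Invol.se_fix_unique hH hu (by rw [← mul_smul, hc.2.symm.eq, mul_smul, hy]) hy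
    exact hxy (Invol.se_fix_unique hH hz h1 h2)
  obtain ⟨d, hd, hdu⟩ := Invol.conj_of_odd hs hu hodd
  obtain ⟨k, hk⟩ := Invol.mem_closure_pair hs hu hd
  set w := (s * u) ^ k * s with hw
  have hwu : w * s * w⁻¹ = u := by
    rcases hk with rfl | rfl
    · rw [← hdu, hw]; group
    · exact hdu
  have hwx : w • x = y := by
    refine Invol.se_fix_unique hH hu ?_ hy
    rw [← hwu, mul_smul, inv_smul_smul, mul_smul, hx]
  exact ⟨w, mul_mem (zpow_mem (mul_mem hsL huL) k) hsL, Invol.order_two_of_sq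
    (Invol.inverted_mul_invol hs (Invol.conj_mul hs hu) k) fun e => hxy (by rw [← hwx, e, one_smul]),
    hwx, hwu⟩

theorem card_mul_inf_le {R Y : Subgroup G} (hR : R ≤ Y) (C : Subgroup G) :
    Nat.card R * Nat.card (Y ⊓ C : Subgroup G) ≤ Nat.card Y * Nat.card (R ⊓ C : Subgroup G) := by
  have hA : ∀ K : Subgroup G, Nat.card K = Nat.card (K ⊓ C : Subgroup G) * C.relIndex K := fun K => by
    rw [← inf_relIndex_right C K, inf_comm C K, ← relIndex_bot_left, ← relIndex_bot_left,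
      relIndex_mul_relIndex _ _ _ bot_le inf_le_left]
  have h1 : C.relIndex R ≤ C.relIndex Y := relIndex_le_of_le_right hR (fun e => by
    have := hA Y
    rw [e, mul_zero] at this
    exact Nat.card_pos.ne' this)
  calc Nat.card R * Nat.card (Y ⊓ C : Subgroup G)
      = Nat.card (R ⊓ C : Subgroup G) * C.relIndex R * Nat.card (Y ⊓ C : Subgroup G) := by rw [← hA R]
    _ ≤ Nat.card (R ⊓ C : Subgroup G) * C.relIndex Y * Nat.card (Y ⊓ C : Subgroup G) :=
        Nat.mul_le_mul_right _ (Nat.mul_le_mul_left _ h1)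
    _ = Nat.card Y * Nat.card (R ⊓ C : Subgroup G) := by rw [hA Y]; ring

/-- An `r`-group `Y` fixing `a` and three points, maximal as such, with a larger `r`-group in its normaliser
fixing `a` and a further point. -/
structure GoodCore (H : Subgroup G) (r : ℕ) (a : G ⧸ H) (Y : Subgroup G) : Prop where
  isP : IsPGroup r Y
  fix_a : Y ≤ stabilizer G a
  three : ∃ f g : G ⧸ H, f ≠ a ∧ g ≠ a ∧ f ≠ g ∧ Y ≤ stabilizer G f ∧ Y ≤ stabilizer G g
  maxi : ∀ T : Subgroup G, IsPGroup r T → Y < T → T ≤ stabilizer G a → ∀ f g : G ⧸ H,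
    T ≤ stabilizer G f → T ≤ stabilizer G g → f ≠ a → g ≠ a → f = g
  big : ∃ (p : G ⧸ H) (T : Subgroup G), p ≠ a ∧ IsPGroup r T ∧ Y < T ∧ T ≤ stabTwo a p ∧
    T ≤ normalizer (Y : Set G)

namespace GoodCore

variable {a : G ⧸ H} {Y : Subgroup G} (h : GoodCore H r a Y)
include h

theorem only {T : Subgroup G} {p : G ⧸ H} (hT : IsPGroup r T) (hlt : Y < T) (hTp : T ≤ stabTwo a p)
    (hp : p ≠ a) : OnlyTwo T a p := fun f hf => by
  by_cases hfa : f = a
  · exact Or.inl hfa
  · exact Or.inr (h.maxi T hT hlt (hTp.trans inf_le_left) f p hf (hTp.trans inf_le_right) hfa hp)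

theorem maxi_smul {l : G} (hl : l ∈ normalizer (Y : Set G)) {T : Subgroup G} (hT : IsPGroup r T) (hlt : Y < T)
    (hTz : T ≤ stabilizer G (l • a)) {f g : G ⧸ H} (hf : T ≤ stabilizer G f) (hg : T ≤ stabilizer G g)
    (hfz : f ≠ l • a) (hgz : g ≠ l • a) : f = g := by
  set T' := T.map (MulAut.conj l⁻¹).toMonoidHom with hT'
  have hY' : Y.map (MulAut.conj l⁻¹).toMonoidHom = Y := by
    refine eq_of_le_of_card_ge ?_ (card_map_of_injective (MulAut.conj l⁻¹).injective).ge
    rintro _ ⟨y, hy, rfl⟩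
    exact SEBrick.conj_mem_of (inv_mem hl) hy
  have hlt' : Y < T' := hY'.symm.trans_lt
    ((map_lt_map_iff_of_injective (MulAut.conj l⁻¹).injective).2 hlt)
  have := h.maxi T' (hT.map _) hlt'
    (by rw [← inv_smul_smul l a]; exact le_stabilizer_map.2 hTz) (l⁻¹ • f) (l⁻¹ • g)
    (le_stabilizer_map.2 hf) (le_stabilizer_map.2 hg)
    (fun e => hfz (inv_smul_eq_iff.1 e)) (fun e => hgz (inv_smul_eq_iff.1 e))
  exact smul_left_cancel _ this

variable (hH : Cfsg.IsStronglyEmbedded H) (hr2 : r ≠ 2)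
include hH hr2

/-- The normaliser does not have 2-rank one. -/
theorem false_of_rankOne (hrk : BrauerSuzuki.RankOne (normalizer (Y : Set G))) : False := by
  classical
  set L := normalizer (Y : Set G) with hL
  set O := (Cfsg.pPrimeCore 2 L).map L.subtype with hO
  have hOodd : Odd (Nat.card O) := by
    rw [hO, card_map_of_injective L.subtype_injective]
    exact SETrans.odd_core
  have hOL : O ≤ L := map_subtype_le _
  have hOn : ∀ l ∈ L, ∀ o ∈ O, l * o * l⁻¹ ∈ O := by
    rintro l hl _ ⟨o, ho, rfl⟩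
    haveI := FittingCores.pPrimeCore_normal (G := L) 2
    exact ⟨⟨l, hl⟩ * o * ⟨l, hl⟩⁻¹, Subgroup.Normal.conj_mem inferInstance o ho _, rfl⟩
  have hmul : ∀ {i j : G}, i ∈ L → j ∈ L → orderOf i = 2 → orderOf j = 2 → i * j ∈ O := by
    intro i j hiX hjX hi hj
    exact ⟨⟨i, hiX⟩ * ⟨j, hjX⟩, SETrans.invol_mul_mem hrk (t := (⟨j, hjX⟩ : L)) (u := ⟨i, hiX⟩)
      (by rw [Subgroup.orderOf_mk]; exact hj) (by rw [Subgroup.orderOf_mk]; exact hi), rfl⟩
  have hYfix : ∀ {z : G ⧸ H}, Y ≤ stabilizer G z → ∀ l ∈ L, Y ≤ stabilizer G (l • z) := fun hz l hl =>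
    le_stabilizer_smul hl hz
  -- two points in one orbit of the core
  have hsame : ∀ o ∈ O, o • a ≠ a → PairSyl r Y a (o • a) := by
    intro o ho hne
    by_contra hns
    obtain ⟨T, hlt, hT, hTD, hTn⟩ := exists_growth_of_not_pairSyl h.isP
      (le_inf h.fix_a (hYfix h.fix_a o (hOL ho))) hns
    set X := O ⊔ T with hX
    have hXL : X ≤ L := sup_le hOL hTn
    have hTodd : Odd (Nat.card T) := SEBrick.odd_of_le (odd_stabTwo hH (Ne.symm hne)) hTD
    have hXodd : Odd (Nat.card X) := by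
      refine (hOodd.mul hTodd).of_dvd_nat ?_
      haveI : (O.subgroupOf X).Normal := (normal_subgroupOf_iff_le_normalizer le_sup_left).2
        (SEBrick.le_normalizer_of fun x hx => hOn x (hXL hx))
      have h1 := card_eq_card_quotient_mul_card_subgroup (O.subgroupOf X)
      rw [Nat.card_congr (subgroupOfEquivOfLe (le_sup_left : O ≤ X)).toEquiv] at h1
      rw [h1, mul_comm (Nat.card O)]
      refine Nat.mul_dvd_mul_right ?_ _
      refine card_dvd_of_surjective ((QuotientGroup.mk' (O.subgroupOf X)).comp (inclusion le_sup_right))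
        fun z => ?_
      induction z using QuotientGroup.induction_on with
      | _ m =>
        have hm : (m : G) ∈ ((O ⊔ T : Subgroup G) : Set G) := m.2
        rw [Subgroup.coe_mul_of_right_le_normalizer_left O T
          (SEBrick.le_normalizer_of fun x hx => hOn x (hTn hx))] at hm
        obtain ⟨o', ho', y, hy, e⟩ := hm
        have e' : o' * y = (m : G) := e
        refine ⟨⟨y, hy⟩, ?_⟩
        show ((inclusion le_sup_right ⟨y, hy⟩ : X) : X ⧸ O.subgroupOf X) = (m : X ⧸ O.subgroupOf X)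
        rw [QuotientGroup.eq, mem_subgroupOf]
        show y⁻¹ * (m : G) ∈ O
        rw [← e', ← mul_assoc]
        simpa using hOn y⁻¹ (inv_mem (hTn hy)) o' ho'
    obtain ⟨z, hz1, hz2, hz3⟩ := exists_third_of_odd (X := X) (Φ := orbit X a) hXodd (r := r)
      (Y := T.subgroupOf X) (hT.of_equiv (subgroupOfEquivOfLe le_sup_right).symm)
      (p := ⟨a, mem_orbit_self a⟩) (q := ⟨o • a, ⟨⟨o, mem_sup_left ho⟩, rfl⟩⟩)
      (fun e => hne (congrArg Subtype.val e).symm)
      (fun y hy => Subtype.ext (hTD (mem_subgroupOf.1 hy)).1)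
      (fun y hy => Subtype.ext (hTD (mem_subgroupOf.1 hy)).2)
    exact hz2 (Subtype.ext (h.maxi T hT hlt (hTD.trans inf_le_left) _ _
      (fun t ht => congrArg Subtype.val (hz3 ⟨t, mem_sup_right ht⟩ (mem_subgroupOf.2 ht)))
      (hTD.trans inf_le_right) (fun e => hz1 (Subtype.ext e)) hne))
  -- a larger group fixing `a` and `p`
  have hkey : ∀ (p : G ⧸ H) (T : Subgroup G), p ≠ a → IsPGroup r T → Y < T → T ≤ stabTwo a p → T ≤ L →
      (∀ o ∈ O, o • a = a) ∧ ∀ u ∈ L, orderOf u = 2 → u • a = p := by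
    intro p T hp hT hlt hTD hTL
    have hoT := h.only hT hlt hTD hp
    have hYp : Y ≤ stabilizer G p := hlt.le.trans (hTD.trans inf_le_right)
    have hpO : ∀ o ∈ O, o • a ≠ p := fun o ho e => hlt.ne
      ((hsame o ho (e ▸ hp)).2.2 T hT hlt.le (e.symm ▸ hTD)).symm
    let Orb : G ⧸ H → Set (G ⧸ H) := fun z => {x | ∃ o ∈ O, o • z = x}
    have horb : ∀ {z x : G ⧸ H}, x ∈ Orb z → Y ≤ stabilizer G z → Y ≤ stabilizer G x := by
      rintro z _ ⟨o, ho, rfl⟩ hz
      exact hYfix hz o (hOL ho)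
    have hst : ∀ z, (∀ t ∈ T, t • z ∈ Orb z) → ∀ t ∈ T, ∀ x ∈ Orb z, t • x ∈ Orb z := by
      rintro z hz t ht _ ⟨o, ho, rfl⟩
      obtain ⟨o', ho', e⟩ := hz t ht
      refine ⟨t * o * t⁻¹ * o', mul_mem (hOn t (hTL ht) o ho) ho', ?_⟩
      rw [mul_smul, e, ← mul_smul, ← mul_smul]
      congr 1
      group
    have hodd : ∀ z, Odd (Nat.card (Orb z)) := fun z => by
      have e : Orb z = orbit O z := Set.ext fun x =>
        ⟨fun ⟨o, ho, hx⟩ => ⟨⟨o, ho⟩, hx⟩, fun ⟨o, hx⟩ => ⟨o, o.2, hx⟩⟩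
      rw [e, Nat.card_congr (orbitEquivQuotientStabilizer O z)]
      exact hOodd.of_dvd_nat (card_quotient_dvd_card _)
    have hone : ∀ z, (z = a ∨ z = p) → ¬ r ∣ Nat.card (Orb z) := by
      intro z hz
      have hTz : T ≤ stabilizer G z := by
        rcases hz with rfl | rfl
        · exact hTD.trans inf_le_left
        · exact hTD.trans inf_le_right
      refine (dvd_or_not_dvd_of_fixed hT (Orb z) (hst z fun t ht => ⟨1, one_mem _, ?_⟩)).2 z
        ⟨1, one_mem _, one_smul _ _⟩ hTz ?_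
      · rw [one_smul]; exact (hTz ht).symm
      rintro _ ⟨o, ho, rfl⟩ hx
      rcases hz with rfl | rfl <;> rcases hoT _ hx with e | e
      · exact e
      · exact absurd e (hpO o ho)
      · exact absurd (by rw [← e, inv_smul_smul]) (hpO o⁻¹ (inv_mem ho))
      · exact e
    have hmove : ∀ u ∈ L, orderOf u = 2 → ∀ z, (z = a ∨ z = p) → u • z ∈ Orb a ∨ u • z ∈ Orb p := by
      intro u huL hu z hz
      have hTz : T ≤ stabilizer G z := by
        rcases hz with rfl | rfl
        · exact hTD.trans inf_le_left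
        · exact hTD.trans inf_le_right
      have hstab : ∀ t ∈ T, ∀ x ∈ Orb (u • z), t • x ∈ Orb (u • z) := hst _ fun t ht => by
        have h1 : u * (t * u * t⁻¹) ∈ O := hmul huL (mul_mem (mul_mem (hTL ht) huL) (inv_mem (hTL ht))) hu
          ((Invol.order_conj t u).trans hu)
        refine ⟨u * (u * (t * u * t⁻¹)) * u⁻¹, hOn u huL _ h1, ?_⟩
        rw [← mul_smul, show u * (u * (t * u * t⁻¹)) * u⁻¹ * u = u * u * (t * u * t⁻¹) by group,
          Invol.mul_self hu, one_mul, mul_smul, inv_smul_eq_iff.2 (show t • z = z from hTz ht).symm,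
          mul_smul]
      have himg : Orb (u • z) = (u • ·) '' Orb z := by
        ext x
        constructor
        · rintro ⟨o, ho, rfl⟩
          exact ⟨(u⁻¹ * o * u⁻¹⁻¹) • z, ⟨_, hOn u⁻¹ (inv_mem huL) o ho, rfl⟩, by
            show u • _ = _
            rw [← mul_smul, ← mul_smul]
            congr 1
            group⟩
        · rintro ⟨_, ⟨o, ho, rfl⟩, rfl⟩
          refine ⟨u * o * u⁻¹, hOn u huL o ho, ?_⟩
          show _ = u • (o • z)
          rw [← mul_smul, ← mul_smul]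
          congr 1
          group
      by_contra hc
      push Not at hc
      refine hone z hz ?_
      rw [← Nat.card_image_of_injective (MulAction.injective u) (Orb z), ← himg]
      refine (dvd_or_not_dvd_of_fixed hT _ hstab).1 fun x hx hTx => ?_
      obtain ⟨o, ho, e⟩ := hx
      rcases hoT _ hTx with e' | e'
      · exact hc.1 ⟨o⁻¹, inv_mem ho, by rw [← e', ← e, inv_smul_smul]⟩
      · exact hc.2 ⟨o⁻¹, inv_mem ho, by rw [← e', ← e, inv_smul_smul]⟩
    have hcent : ∀ u ∈ L, orderOf u = 2 → ∀ z, u • z ∈ Orb z → ∃ o ∈ O, u • (o • z) = o • z := by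
      intro u huL hu z hz
      obtain ⟨o', ho', e⟩ := hz
      have hmaps : ∀ x : Orb z, u • (x : G ⧸ H) ∈ Orb z := by
        rintro ⟨_, o, ho, rfl⟩
        refine ⟨u * o * u⁻¹ * o', mul_mem (hOn u huL o ho) ho', ?_⟩
        show _ = u • (o • z)
        rw [mul_smul, e, ← mul_smul, ← mul_smul]
        congr 1
        group
      by_contra hno
      push Not at hno
      refine Nat.not_even_iff_odd.2 (hodd z) (SETrans.even_of_fpf (fun x => ⟨_, hmaps x⟩)
        (fun x => Subtype.ext ?_) fun x e => ?_)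
      · show u • (u • (x : G ⧸ H)) = x
        rw [← mul_smul, Invol.mul_self hu, one_smul]
      · obtain ⟨_, o, ho, rfl⟩ := x
        exact hno o ho (congrArg Subtype.val e)
    have hua : ∀ u ∈ L, orderOf u = 2 → u • a ∈ Orb p := by
      intro u huL hu
      refine (hmove u huL hu a (Or.inl rfl)).resolve_left fun hA => ?_
      obtain ⟨o₁, ho₁, e₁⟩ := hcent u huL hu a hA
      rcases hmove u huL hu p (Or.inr rfl) with hB | hB
      · obtain ⟨o, ho, e⟩ := hB
        obtain ⟨o', ho', e'⟩ := hA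
        refine hpO (u * o * u⁻¹ * o') (mul_mem (hOn u huL o ho) ho') ?_
        calc (u * o * u⁻¹ * o') • a = (u * o * u⁻¹) • u • a := by rw [mul_smul, e']
          _ = u • o • a := by rw [← mul_smul, ← mul_smul]; congr 1; group
          _ = p := by rw [e, ← mul_smul, Invol.mul_self hu, one_smul]
      · obtain ⟨o₂, ho₂, e₂⟩ := hcent u huL hu p hB
        refine hpO (o₂⁻¹ * o₁) (mul_mem (inv_mem ho₂) ho₁) ?_
        rw [mul_smul, Invol.se_fix_unique hH hu e₁ e₂, inv_smul_smul]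
    have hfix : ∀ o ∈ O, o • a = a := by
      intro o ho
      by_contra hne
      obtain ⟨u, hu, huL, hua', -⟩ := exists_normalizing_swapper_at hH h.isP (Ne.symm hne) h.fix_a
        (hYfix h.fix_a o (hOL ho)) fun P hP hle hPD => (hsame o ho hne).2.2 P hP hle hPD
      obtain ⟨o', ho', e⟩ := hua u huL hu
      refine hpO (o'⁻¹ * o) (mul_mem (inv_mem ho') ho) ?_
      rw [mul_smul, ← hua', ← e, inv_smul_smul]
    refine ⟨hfix, fun u huL hu => ?_⟩
    obtain ⟨o, ho, e⟩ := hua u huL hu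
    have h1 : o⁻¹ • u • a = u • a := by
      calc o⁻¹ • u • a = u • (u⁻¹ * o⁻¹ * u⁻¹⁻¹) • a := by rw [← mul_smul, ← mul_smul]; congr 1; group
        _ = u • a := by rw [hfix _ (hOn u⁻¹ (inv_mem huL) _ (inv_mem ho))]
    rw [← h1, ← e, inv_smul_smul]
  obtain ⟨p, T, hp, hT, hlt, hTD, hTL⟩ := h.big
  obtain ⟨hfixO, hswap⟩ := hkey p T hp hT hlt hTD hTL
  obtain ⟨f, g, hfa, hga, hfg, hYf, hYg⟩ := h.three
  by_cases hinv : ∃ u ∈ L, orderOf u = 2
  · obtain ⟨u, huL, hu⟩ := hinv
    -- every further point is the image of `a` under `u`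
    have hall : ∀ z, z ≠ a → Y ≤ stabilizer G z → z = p := by
      intro z hza hYz
      by_cases hs : PairSyl r Y a z
      · obtain ⟨v, hv, hvL, hva, -⟩ := exists_normalizing_swapper_at hH h.isP (Ne.symm hza) h.fix_a hYz hs.2.2
        rw [← hva, hswap v hvL hv]
      · obtain ⟨T', hlt', hT', hTD', hTn'⟩ := exists_growth_of_not_pairSyl h.isP (le_inf h.fix_a hYz) hs
        rw [← (hkey z T' hza hT' hlt' hTD' hTn').2 u huL hu, hswap u huL hu]
    exact hfg ((hall f hfa hYf).trans (hall g hga hYg).symm)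
  · push Not at hinv
    have hLa : L ≤ stabilizer G a := fun l hl => by
      refine hfixO l ⟨⟨l, hl⟩, FittingCores.le_pPrimeCore (N := ⊤) inferInstance ?_ (mem_top _), rfl⟩
      rw [card_top]
      exact Nat.coprime_two_right.2 (SEBrick.odd_card_of_orders hinv)
    by_cases hs : PairSyl r Y f g
    · obtain ⟨v, hv, hvL, -, -⟩ := exists_normalizing_swapper_at hH h.isP hfg hYf hYg hs.2.2
      exact hinv v hvL hv
    · obtain ⟨T', hlt', hT', hTD', hTn'⟩ := exists_growth_of_not_pairSyl h.isP (le_inf hYf hYg) hs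
      exact hfg (h.maxi T' hT' hlt' (hTn'.trans hLa) f g (hTD'.trans inf_le_left)
        (hTD'.trans inf_le_right) hfa hga)


/-- The normaliser has 2-rank one. -/
theorem false_of_rank_two (hrk : ¬ BrauerSuzuki.RankOne (normalizer (Y : Set G))) {R : Subgroup G}
    {x : G ⧸ H} (hRY : R ≤ Y) (hxa : a ≠ x) (hR : PairSyl r R a x) : False := by
  classical
  set L := normalizer (Y : Set G) with hL
  obtain ⟨p, T, hp, hT, hlt, hTD, hTL⟩ := h.big
  have hYodd : Odd (Nat.card Y) := by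
    obtain ⟨n, hn⟩ := IsPGroup.iff_card.1 h.isP
    rw [hn]
    exact ((Fact.out : r.Prime).odd_of_ne_two hr2).pow
  -- the centres of the involutions of `L`
  let Φ : Set (G ⧸ H) := {c | ∃ u ∈ L, orderOf u = 2 ∧ u • c = c}
  have hΦY : ∀ c ∈ Φ, Y ≤ stabilizer G c := by
    rintro c ⟨u, huL, hu, huc⟩
    obtain ⟨w, hw, hwu, huw⟩ := exists_commuting hrk (u := (⟨u, huL⟩ : L)) (by rw [Subgroup.orderOf_mk]; exact hu)
    rw [← Subgroup.orderOf_coe] at hw
    have huw' : u * (w : G) = (w : G) * u := congrArg Subtype.val huw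
    have hwc : (w : G) • c = c :=
      Invol.se_fix_unique hH hu (by rw [← mul_smul, huw', mul_smul, huc]) huc
    have hpair : HasPair (L ⊓ stabilizer G c) :=
      ⟨u, (w : G), ⟨huL, huc⟩, ⟨w.2, hwc⟩, hu, hw, fun e => hwu (Subtype.ext e.symm), huw'⟩
    obtain ⟨E, hE, hE4⟩ := hpair.exists_four
    exact SESolv.odd_fix_of_four hH hYodd hE4 (hE.trans inf_le_right) (hE.trans inf_le_left)
  have hΦL : ∀ l ∈ L, ∀ c ∈ Φ, l • c ∈ Φ := by
    rintro l hl c ⟨u, huL, hu, huc⟩
    exact ⟨l * u * l⁻¹, mul_mem (mul_mem hl huL) (inv_mem hl), (Invol.order_conj l u).trans hu,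
      SESolv.conj_stab huc⟩
  -- residues of `Φ` from groups with known fixed points
  have hres0 : ∀ T' : Subgroup G, IsPGroup r T' → T' ≤ L → (∀ c ∈ Φ, ¬ T' ≤ stabilizer G c) →
      r ∣ Nat.card Φ := fun T' hT' hTL' =>
    (dvd_or_not_dvd_of_fixed hT' Φ fun t ht c hc => hΦL t (hTL' ht) c hc).1
  have hres1 : ∀ T' : Subgroup G, IsPGroup r T' → T' ≤ L → ∀ c ∈ Φ, T' ≤ stabilizer G c →
      (∀ d ∈ Φ, T' ≤ stabilizer G d → d = c) → ¬ r ∣ Nat.card Φ := fun T' hT' hTL' =>
    (dvd_or_not_dvd_of_fixed hT' Φ fun t ht c hc => hΦL t (hTL' ht) c hc).2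
  obtain ⟨u₁, hu₁L, hu₁⟩ : ∃ u ∈ L, orderOf u = 2 := by
    by_contra hno
    exact hrk fun a b ha _ _ => absurd ⟨(a : G), a.2, by rw [Subgroup.orderOf_coe]; exact ha⟩ hno
  obtain ⟨c, hc⟩ := Invol.se_exists_fix hH hu₁
  have hcΦ : c ∈ Φ := ⟨u₁, hu₁L, hu₁, hc⟩
  -- `a` is a centre
  have haΦ : a ∈ Φ := by
    by_contra haΦ
    have hca : c ≠ a := fun e => haΦ (e ▸ hcΦ)
    have hns : ¬ PairSyl r Y c a := fun hs => by
      obtain ⟨v, -, hvL, hvc, -⟩ :=
        exists_normalizing_swapper_at hH h.isP hca (hΦY c hcΦ) h.fix_a hs.2.2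
      exact haΦ (hvc ▸ hΦL v hvL c hcΦ)
    have hne : a ≠ u₁ • a := fun e => hca (Invol.se_fix_unique hH hu₁ hc e.symm)
    have hYu : Y ≤ stabilizer G (u₁ • a) := le_stabilizer_smul hu₁L h.fix_a
    obtain ⟨T₃, hlt₃, hT₃, hTD₃, hTn₃⟩ :=
      exists_growth_of_not_pairSyl h.isP (le_inf (hΦY c hcΦ) h.fix_a) hns
    obtain ⟨T₂, hlt₂, hT₂, hTD₂, hTn₂⟩ := exists_growth_of_not_pairSyl h.isP (le_inf h.fix_a hYu)
      fun hs => hns ((pairSyl_midpoint hH hne hu₁ rfl hc h.isP h.fix_a hYu (hΦY c hcΦ)).1 hs)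
    refine hres1 T₃ hT₃ hTn₃ c hcΦ (hTD₃.trans inf_le_left) (fun d hd hTd =>
      ((h.only hT₃ hlt₃ (hTD₃.trans (stabTwo_comm c a).le) hca d hTd).resolve_left
        fun e => haΦ (e ▸ hd))) (hres0 T₂ hT₂ hTn₂ fun d hd hTd => ?_)
    rcases h.only hT₂ hlt₂ hTD₂ hne.symm d hTd with e | e
    · exact haΦ (e ▸ hd)
    · refine haΦ ?_
      have h1 := hΦL u₁ hu₁L d hd
      rwa [e, ← mul_smul, Invol.mul_self hu₁, one_smul] at h1
  obtain ⟨t, htL, ht, hta⟩ := haΦ
  -- so is `p`
  have hpΦ : p ∈ Φ := by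
    by_contra hpΦ
    have hne : p ≠ t • p := fun e => hp (Invol.se_fix_unique hH ht e.symm hta)
    have hYp : Y ≤ stabilizer G p := hlt.le.trans (hTD.trans inf_le_right)
    have hYp' : Y ≤ stabilizer G (t • p) := le_stabilizer_smul htL hYp
    have hns : ¬ PairSyl r Y a p := fun hs => hlt.ne (hs.2.2 T hT hlt.le hTD).symm
    obtain ⟨T₂, hlt₂, hT₂, hTD₂, hTn₂⟩ := exists_growth_of_not_pairSyl h.isP (le_inf hYp hYp')
      fun hs => hns ((pairSyl_midpoint hH hne ht rfl hta h.isP hYp hYp' h.fix_a).1 hs)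
    refine hres1 T hT hTL a ⟨t, htL, ht, hta⟩ (hTD.trans inf_le_left) (fun d hd hTd =>
      (h.only hT hlt hTD hp d hTd).resolve_right fun e => hpΦ (e ▸ hd))
      (hres0 T₂ hT₂ hTn₂ fun d hd hTd => hne ?_)
    have hdp : d ≠ p := fun e => hpΦ (e ▸ hd)
    have hdp' : d ≠ t • p := fun e => hpΦ (by
      have h1 := hΦL t htL d hd
      rwa [e, ← mul_smul, Invol.mul_self ht, one_smul] at h1)
    by_cases hda : d = a
    · exact h.maxi T₂ hT₂ hlt₂ (hda ▸ hTd) p (t • p) (hTD₂.trans inf_le_left) (hTD₂.trans inf_le_right)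
        hp fun e => hdp' (hda.trans e.symm)
    · obtain ⟨s, hsL, hs, hsd⟩ := hd
      obtain ⟨w, hwL, -, hwd, -⟩ := exists_swap_mem hH htL hsL ht hs hta hsd (Ne.symm hda)
      subst hwd
      exact h.maxi_smul hwL hT₂ hlt₂ hTd (hTD₂.trans inf_le_left) (hTD₂.trans inf_le_right)
        (Ne.symm hdp) (Ne.symm hdp')
  obtain ⟨s, hsL, hs, hsp⟩ := hpΦ
  obtain ⟨v, hvL, hv, hva, -⟩ := exists_swap_mem hH htL hsL ht hs hta hsp (Ne.symm hp)
  have hvp : v • p = a := by rw [← hva, ← mul_smul, Invol.mul_self hv, one_smul]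
  obtain ⟨e, hve⟩ := Invol.se_exists_fix hH hv
  have hea : e ≠ a := fun he => hp (by rw [← hva, ← he, hve])
  have hep : e ≠ p := fun he => hp (by rw [← hvp, ← he, hve])
  have hYe : Y ≤ stabilizer G e := hΦY e ⟨v, hvL, hv, hve⟩
  obtain ⟨w, hwL, -, -, hwv⟩ := exists_swap_mem hH htL hvL ht hv hta hve (Ne.symm hea)
  set D := stabTwo a p with hD
  have hvD : v ∈ normalizer (D : Set G) := SEBrick.mem_normalizer_of fun y hy => by
    have e1 := SESolv.conj_stab (g := v) hy.1
    have e2 := SESolv.conj_stab (g := v) hy.2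
    rw [hva] at e1
    rw [hvp] at e2
    exact ⟨e2, e1⟩
  have hvn : v ∈ normalizer ((L ⊓ D : Subgroup G) : Set G) := SEBrick.mem_normalizer_of fun y hy =>
    mem_inf.2 ⟨SEBrick.conj_mem_of (X := L) (le_normalizer hvL) hy.1, SEBrick.conj_mem_of hvD hy.2⟩
  have hDodd : Odd (Nat.card D) := odd_stabTwo hH (Ne.symm hp)
  have hcopD : (Nat.card (zpowers v)).Coprime (Nat.card D) := by
    rw [Nat.card_zpowers, hv]; exact Nat.coprime_two_left.2 hDodd
  have hsolv : ∀ K : Subgroup G, Odd (Nat.card K) → Group.IsSolvable (zpowers v) ∨ Group.IsSolvable K :=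
    fun K hK => Or.inr (OddChar.oddSolvable K hK)
  have hYD : Y ≤ D := le_inf h.fix_a (hlt.le.trans (hTD.trans inf_le_right))
  obtain ⟨P₀, hYP, hP₀⟩ := CoprimeAct.exists_invariant_sylow_ge (zpowers_le.2 hvn)
    (hcopD.coprime_dvd_right (Subgroup.card_dvd_of_le inf_le_right))
    (hsolv _ (SEBrick.odd_of_le hDodd inf_le_right)) (le_inf le_normalizer hYD) h.isP (zpowers_le.2 hvL)
  set P := (P₀ : Subgroup (L ⊓ D : Subgroup G)).map (L ⊓ D).subtype with hP
  have hPp : IsPGroup r P := P₀.isPGroup'.map _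
  have hPT : Nat.card T ≤ Nat.card P := by
    rw [hP, CoprimeAct.card_map_sylow]
    obtain ⟨Q, hQ⟩ := (hT.comap_subtype : IsPGroup r (T.subgroupOf (L ⊓ D))).exists_le_sylow
    rw [← CoprimeAct.card_map_sylow Q]
    exact Subgroup.card_le_of_le fun y hy => ⟨⟨y, ⟨hTL hy, hTD hy⟩⟩, hQ hy, rfl⟩
  -- the centraliser of `v` in `P` lies in `Y`
  have hPv : P ⊓ centralizer {v} ≤ Y ⊓ centralizer {v} := by
    refine le_inf ?_ inf_le_right
    have hsup : Y ⊔ (P ⊓ centralizer {v}) ≤ P := sup_le hYP inf_le_left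
    refine (le_sup_right : _ ≤ Y ⊔ (P ⊓ centralizer {v})).trans (le_of_eq (Eq.symm ?_))
    by_contra hne
    have hPD : P ≤ D := (map_subtype_le _).trans inf_le_right
    refine hep (h.maxi _ (hPp.to_le hsup) (lt_of_le_of_ne le_sup_left hne)
      (hsup.trans (hPD.trans inf_le_left)) e p (sup_le hYe fun y hy => ?_)
      (hsup.trans (hPD.trans inf_le_right)) hea hp)
    have hyv : y * v = v * y := mem_centralizer_singleton_iff.1 hy.2
    exact Invol.se_fix_unique hH hv (by rw [← mul_smul, ← hyv, mul_smul, hve]) hve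
  obtain ⟨S, hPS, hS⟩ := CoprimeAct.exists_invariant_sylow_ge (zpowers_le.2 hvD) hcopD (hsolv _ hDodd)
    ((map_subtype_le _).trans inf_le_right) hPp hP₀
  set S' := (S : Subgroup D).map D.subtype with hS'
  set m := Nat.card {s : G // orderOf s = 2 ∧ s ∈ H} with hm
  have hm0 : m ≠ 0 := by
    obtain ⟨i, hiH, hi⟩ := Invol.exists_invol hH.2.1
    haveI : Nonempty {s : G // orderOf s = 2 ∧ s ∈ H} := ⟨⟨i, hi, hiH⟩⟩
    exact Nat.card_pos.ne'
  -- the two sides
  have hSle : Nat.card S' ≤ r ^ m.factorization r * Nat.card (S' ⊓ centralizer {v} : Subgroup G) := by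
    have e : Nat.card D = m * Nat.card (stabTwo a p ⊓ centralizer {v} : Subgroup G) :=
      card_stabTwo_swap hH (Ne.symm hp) hv hva
    rw [hS', CoprimeAct.card_map_sylow, e,
      Nat.factorization_mul hm0 Nat.card_pos.ne', Finsupp.add_apply, pow_add]
    refine Nat.mul_le_mul_left _ ?_
    obtain ⟨Q⟩ : Nonempty (Sylow r (stabTwo a p ⊓ centralizer {v} : Subgroup G)) := inferInstance
    rw [← CoprimeAct.card_map_sylow Q]
    exact card_inf_centralizer_ge hH (Ne.symm hp) hv hvD S (zpowers_le.1 hS) (Q.isPGroup'.map _)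
      (map_subtype_le _)
  have hRle : r ^ m.factorization r * Nat.card (R ⊓ centralizer {t} : Subgroup G) ≤ Nat.card R := by
    rw [hR.card_eq, card_stabTwo_fix hH hxa ht hta, Nat.factorization_mul hm0 Nat.card_pos.ne',
      Finsupp.add_apply, pow_add]
    refine Nat.mul_le_mul_left _ ?_
    obtain ⟨Q, hQ⟩ := ((hR.1.to_le inf_le_left).comap_subtype : IsPGroup r
      ((R ⊓ centralizer {t}).subgroupOf (stabTwo a x ⊓ centralizer {t}))).exists_le_sylow
    rw [← CoprimeAct.card_map_sylow Q]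
    exact Subgroup.card_le_of_le fun y hy => ⟨⟨y, ⟨hR.2.1 hy.1, hy.2⟩⟩, hQ hy, rfl⟩
  have hconj : Nat.card (Y ⊓ centralizer {v} : Subgroup G) ≤ Nat.card (Y ⊓ centralizer {t} : Subgroup G) := by
    rw [← card_map_of_injective (f := (MulAut.conj w⁻¹).toMonoidHom) (MulAut.conj w⁻¹).injective]
    refine Subgroup.card_le_of_le ?_
    rintro _ ⟨y, hy, rfl⟩
    rw [MulEquiv.coe_toMonoidHom, MulAut.conj_apply]
    refine ⟨SEBrick.conj_mem_of (inv_mem hwL) hy.1, mem_centralizer_singleton_iff.2 ?_⟩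
    have hyv : y * v = v * y := mem_centralizer_singleton_iff.1 hy.2
    rw [← hwv] at hyv
    calc w⁻¹ * y * w⁻¹⁻¹ * t = w⁻¹ * (y * (w * t * w⁻¹)) * w := by group
      _ = w⁻¹ * (w * t * w⁻¹ * y) * w := by rw [hyv]
      _ = t * (w⁻¹ * y * w⁻¹⁻¹) := by group
  have h1 := card_mul_inf_le (Y := Y) hRY (centralizer {t})
  have h2 := card_mul_inf_le (Y := S') hPS (centralizer {v})
  have h3 : Nat.card P ≤ r ^ m.factorization r * Nat.card (P ⊓ centralizer {v} : Subgroup G) := by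
    refine Nat.le_of_mul_le_mul_right (c := Nat.card (S' ⊓ centralizer {v} : Subgroup G)) ?_ Nat.card_pos
    calc _ ≤ Nat.card S' * Nat.card (P ⊓ centralizer {v} : Subgroup G) := h2
      _ ≤ r ^ m.factorization r * Nat.card (S' ⊓ centralizer {v} : Subgroup G) * _ :=
          Nat.mul_le_mul_right _ hSle
      _ = _ := by ring
  have h4 : r ^ m.factorization r * Nat.card (Y ⊓ centralizer {t} : Subgroup G) ≤ Nat.card Y := by
    refine Nat.le_of_mul_le_mul_right (c := Nat.card (R ⊓ centralizer {t} : Subgroup G)) ?_ Nat.card_pos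
    calc _ = r ^ m.factorization r * Nat.card (R ⊓ centralizer {t} : Subgroup G) * _ := by ring
      _ ≤ Nat.card R * _ := Nat.mul_le_mul_right _ hRle
      _ ≤ _ := h1
  have h5 : Nat.card P ≤ Nat.card Y := calc
    Nat.card P ≤ r ^ m.factorization r * Nat.card (P ⊓ centralizer {v} : Subgroup G) := h3
    _ ≤ r ^ m.factorization r * Nat.card (Y ⊓ centralizer {t} : Subgroup G) :=
        Nat.mul_le_mul_left _ ((Subgroup.card_le_of_le hPv).trans hconj)
    _ ≤ Nat.card Y := h4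
  exact hlt.ne (eq_of_le_of_card_ge hlt.le (hPT.trans h5))

/-- Such a `Y` contains no Sylow subgroup of a pair at `a`. -/
theorem false_of_pairSyl {R : Subgroup G} {x : G ⧸ H} (hRY : R ≤ Y) (hxa : a ≠ x) (hR : PairSyl r R a x) :
    False := by
  by_cases hrk : BrauerSuzuki.RankOne (normalizer (Y : Set G))
  · exact h.false_of_rankOne hH hr2 hrk
  · exact h.false_of_rank_two hH hr2 hrk hRY hxa hR

end GoodCore

end Cfsg.Agent.SEMain
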