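import Cfsg.Agent.Lib.SEMain.WLemma
import Cfsg.Agent.Lib.SERegular.Factor

/-!
# Involutions commuting modulo the odd core

The involutions of `H` commute modulo `O(H)` when `H / O(H)` has a nontrivial normal 2-subgroup, in
particular when they generate a soluble group.
-/

set_option autoImplicit false
set_option linter.style.haveILetI false
set_option linter.unusedSectionVars false

namespace Cfsg.Agent.SEMain

open Subgroup MulAction

universe u

variable {G : Type u} [Group G] [Finite G] {H : Subgroup G}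

/-- The involutions of `H` commute modulo its odd core. -/
def CommModCore (H : Subgroup G) : Prop :=
  ∀ s t : G, s ∈ H → t ∈ H → orderOf s = 2 → orderOf t = 2 → s * t * (s * t) ∈ SESolv.oc H

/-- From a normal 2-subgroup of the quotient by the odd core. -/
theorem commModCore_of_two (hH : Cfsg.IsStronglyEmbedded H) {N : Subgroup (H ⧸ Cfsg.oddCore H)}
    [hNn : N.Normal] (hN : IsPGroup 2 N) (hN1 : N ≠ ⊥) : CommModCore H := by
  classical
  haveI : Fact (Nat.Prime 2) := ⟨Nat.prime_two⟩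
  haveI : Nontrivial N := (nontrivial_iff_ne_bot N).2 hN1
  haveI := hN.center_nontrivial
  set Z := (center N).map N.subtype with hZ
  haveI hZn : Z.Normal := by
    rw [hZ]; exact FittingCores.normal_map_of_characteristic hNn inferInstance
  have heven : Even (Nat.card Z) := by
    rw [hZ, card_map_of_injective N.subtype_injective]
    rcases (hN.to_subgroup (center N)).card_eq_or_dvd with h | h
    · exact absurd h Finite.one_lt_card.ne'
    · exact even_iff_two_dvd.2 h
  have hcomm : ∀ x ∈ Z, ∀ y ∈ Z, x * y = y * x := by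
    rintro _ ⟨x, hx, rfl⟩ _ ⟨y, -, rfl⟩
    exact congrArg Subtype.val (mem_center_iff.1 hx y).symm
  obtain ⟨z, hzZ, hz⟩ := Invol.exists_invol heven
  obtain ⟨t₀, -, ht₀, ht₀z⟩ := SESolv.exists_invol_lift (QuotientGroup.mk' (Cfsg.oddCore H))
    (L := ⊤) (by rw [QuotientGroup.ker_mk']; exact SEBrick.oddCore_odd)
    (by rw [Subgroup.map_top_of_surjective _ (QuotientGroup.mk'_surjective _)]; exact mem_top z) hz
  have hmem : ∀ (s : G) (hs : s ∈ H), orderOf s = 2 →
      ((⟨s, hs⟩ : H) : H ⧸ Cfsg.oddCore H) ∈ Z := fun s hs hs2 => by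
    have ht2 : orderOf (t₀ : G) = 2 := by rw [Subgroup.orderOf_coe]; exact ht₀
    obtain ⟨g, hg⟩ := isConj_iff.1 (Invol.se_isConj hH ht2 hs2)
    have hgH : g ∈ H := Invol.se_mem_of_conj hH ht2 t₀.2 (hg ▸ hs)
    have e : (⟨s, hs⟩ : H) = ⟨g, hgH⟩ * t₀ * (⟨g, hgH⟩ : H)⁻¹ := Subtype.ext hg.symm
    rw [e, QuotientGroup.mk_mul, QuotientGroup.mk_mul, QuotientGroup.mk_inv]
    exact hZn.conj_mem _ (by rw [QuotientGroup.mk'_apply] at ht₀z; rwa [ht₀z]) _
  intro s t hsH htH hs ht
  have hc := hcomm _ (hmem s hsH hs) _ (hmem t htH ht)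
  refine ⟨⟨s, hsH⟩ * ⟨t, htH⟩ * (⟨s, hsH⟩ * ⟨t, htH⟩), (QuotientGroup.eq_one_iff _).1 ?_, rfl⟩
  simp only [QuotientGroup.mk_mul]
  nth_rw 2 [hc]
  rw [mul_assoc, ← mul_assoc ((⟨t, htH⟩ : H) : H ⧸ Cfsg.oddCore H), ← QuotientGroup.mk_mul,
    show (⟨t, htH⟩ : H) * ⟨t, htH⟩ = 1 from Subtype.ext (Invol.mul_self ht), QuotientGroup.mk_one,
    one_mul, ← QuotientGroup.mk_mul,
    show (⟨s, hsH⟩ : H) * ⟨s, hsH⟩ = 1 from Subtype.ext (Invol.mul_self hs), QuotientGroup.mk_one]

/-- From a soluble group generated by the involutions. -/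
theorem commModCore_of_solvable (hH : Cfsg.IsStronglyEmbedded H)
    (hsol : Group.IsSolvable (invGen (H := H) ((1 : G) : G ⧸ H))) : CommModCore H := by
  classical
  set Y := invGen (H := H) ((1 : G) : G ⧸ H) with hY
  have hYH : Y ≤ H := fun x hx => SEBrick.fix_base_iff.1 (invGen_le _ hx)
  haveI hYn : (Y.subgroupOf H).Normal := ⟨fun n hn g => by
    rw [mem_subgroupOf] at hn ⊢
    exact conj_mem_invGen (SEBrick.fix_base_iff.2 g.2) hn⟩
  set M := (Y.subgroupOf H).map (QuotientGroup.mk' (Cfsg.oddCore H)) with hM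
  haveI hMn : M.Normal := hYn.map _ (QuotientGroup.mk'_surjective _)
  haveI : Group.IsSolvable (Y.subgroupOf H) :=
    Group.isSolvable_of_isSolvable_injective (f := (subgroupOfEquivOfLe hYH).toMonoidHom)
      (MulEquiv.injective _)
  haveI : Group.IsSolvable M :=
    Group.isSolvable_of_surjective ((QuotientGroup.mk' (Cfsg.oddCore H)).subgroupMap_surjective _)
  obtain ⟨z, hzH, hz⟩ := Invol.exists_invol hH.2.1
  have hzM : ((⟨z, hzH⟩ : H) : H ⧸ Cfsg.oddCore H) ∈ M :=
    mem_map_of_mem _ (show (⟨z, hzH⟩ : H) ∈ Y.subgroupOf H from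
      subset_closure ⟨hz, SEBrick.fix_base_iff.2 hzH⟩)
  have hzne : ((⟨z, hzH⟩ : H) : H ⧸ Cfsg.oddCore H) ≠ 1 := fun e =>
    Nat.not_even_iff_odd.2 SEBrick.oddCore_odd
      (Invol.even_of_invol_mem (by rw [Subgroup.orderOf_mk]; exact hz) ((QuotientGroup.eq_one_iff _).1 e))
  haveI : Nontrivial M := ⟨⟨⟨_, hzM⟩, 1, fun e => hzne (congrArg Subtype.val e)⟩⟩
  obtain ⟨l, A, hl, hAn, hA1, hAp, -⟩ := SERegular.exists_normal_elem (K := M)
  haveI := Fact.mk hl
  set N := (Cfsg.pCore l M).map M.subtype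
  haveI hNn : N.Normal := FittingCores.normal_map_of_characteristic hMn (FittingCores.pCore_characteristic l)
  have hNp : IsPGroup l N := (FittingCores.pCore_isPGroup l).map _
  have hN1 : N ≠ ⊥ := fun e => hA1 (le_bot_iff.1 ((FittingCores.le_pCore hAn hAp).trans
    ((map_eq_bot_iff_of_injective _ M.subtype_injective).1 e).le))
  rcases hl.eq_two_or_odd' with rfl | hodd
  · exact commModCore_of_two hH hNp hN1
  · exfalso
    refine hN1 (le_bot_iff.1 ((SEBrick.le_oddCore hNn ?_).trans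
      (FittingCores.pPrimeCore_quotient_eq_bot 2 _ rfl).le))
    obtain ⟨n, hn⟩ := IsPGroup.iff_card.1 hNp
    rw [hn]
    exact hodd.pow

end Cfsg.Agent.SEMain
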