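import Cfsg.Agent.Lib.SEMain.Main
import Cfsg.Agent.Lib.SEMain.PairSylow
import Cfsg.Agent.Lib.CN.FpfAut
import Mathlib.GroupTheory.Transfer

/-!
# The odd index without a field part

When an element of a two-point stabiliser centralising one involution of `H` centralises all of them, the
centraliser of the involutions of `H` has index `m`, which is odd.
-/

set_option autoImplicit false
set_option linter.style.haveILetI false
set_option linter.unusedSectionVars false

namespace Cfsg.Agent.SEMain

open Subgroup MulAction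

universe u

/-- A subgroup of order prime to the index of a normal subgroup lies in it. -/
theorem le_of_coprime_index {A : Type u} [Group A] [Finite A] {N : Subgroup A} [N.Normal] {K : Subgroup A}
    (h : (Nat.card K).Coprime N.index) : K ≤ N := fun x hx => by
  have h1 : orderOf (QuotientGroup.mk' N x) ∣ Nat.card K :=
    (orderOf_map_dvd _ x).trans (by
      have h2 := orderOf_dvd_natCard (⟨x, hx⟩ : K)
      rwa [Subgroup.orderOf_mk] at h2)
  have h2 : orderOf (QuotientGroup.mk' N x) ∣ N.index := orderOf_dvd_natCard _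
  exact (QuotientGroup.eq_one_iff x).1 (orderOf_eq_one_iff.1 (Nat.eq_one_of_dvd_coprimes h h1 h2))

/-- A Hall subgroup with cyclic Sylow subgroups whose normalisers lie in it has a normal complement. -/
theorem exists_normal_compl (n : ℕ) : ∀ {A : Type u} [Group A] [Finite A] (B : Subgroup A),
    Nat.card B = n → IsZGroup B → (Nat.card B).Coprime B.index →
    (∀ (r : ℕ) (P : Subgroup A), r.Prime → r ∣ Nat.card B → P ≤ B →
      Nat.card P = r ^ (Nat.card A).factorization r → normalizer (P : Set A) ≤ B) →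
    ∃ M : Subgroup A, M.Normal ∧ Nat.card M = B.index := by
  induction n using Nat.strong_induction_on with
  | _ n ih =>
  intro A _ _ B hBn hZ hcop hN
  classical
  by_cases hB1 : Nat.card B = 1
  · refine ⟨⊤, inferInstance, ?_⟩
    rw [card_eq_one.1 hB1, index_bot, card_top]
  set r := (Nat.card B).minFac with hr
  have hrp : r.Prime := Nat.minFac_prime hB1
  haveI := Fact.mk hrp
  have hrd : r ∣ Nat.card B := Nat.minFac_dvd _
  obtain ⟨PB⟩ : Nonempty (Sylow r B) := inferInstance
  set P := (PB : Subgroup B).map B.subtype with hPdef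
  have hPB : P ≤ B := map_subtype_le _
  have hri : ¬ r ∣ B.index := fun h =>
    hrp.not_dvd_one (hcop ▸ Nat.dvd_gcd hrd h)
  have hfac : (Nat.card A).factorization r = (Nat.card B).factorization r := by
    rw [← B.card_mul_index, Nat.factorization_mul Nat.card_pos.ne' B.index_ne_zero_of_finite,
      Finsupp.add_apply, Nat.factorization_eq_zero_of_not_dvd hri, add_zero]
  have hPcard : Nat.card P = r ^ (Nat.card A).factorization r := by
    rw [hfac, hPdef, card_map_of_injective B.subtype_injective, PB.card_eq_multiplicity]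
  let PA : Sylow r A := Sylow.ofCard P hPcard
  have hPcyc : IsCyclic PB := PB.isPGroup'.isCyclic_of_isZGroup
  have hcent : normalizer (P : Set A) ≤ centralizer (P : Set A) := by
    intro g hg
    have hgB : g ∈ B := hN r P hrp hrd hPB hPcard hg
    have h1 : (⟨g, hgB⟩ : B) ∈ normalizer ((PB : Subgroup B) : Set B) :=
      SEBrick.mem_normalizer_of fun y hy => by
        obtain ⟨y', hy', e⟩ := SEBrick.conj_mem_of hg (mem_map_of_mem B.subtype hy)
        obtain rfl : y' = ⟨g, hgB⟩ * y * (⟨g, hgB⟩ : B)⁻¹ := Subtype.ext e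
        exact hy'
    have h2 := IsCyclic.normalizer_le_centralizer (P := PB) hr.symm hPcyc h1
    rintro _ ⟨y, hy, rfl⟩
    exact congrArg Subtype.val (h2 y hy)
  set M₁ := (MonoidHom.transferSylow PA hcent).ker with hM₁
  have hcompl : M₁.IsComplement' PA := MonoidHom.ker_transferSylow_isComplement' PA hcent
  have hidx : M₁.index = r ^ (Nat.card A).factorization r := hcompl.symm.index_eq_card.trans hPcard
  have hcardM : Nat.card M₁ * Nat.card P = Nat.card A := hcompl.card_mul_card
  set B₁ := B.subgroupOf M₁ with hB₁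
  have hsup : M₁ ⊔ B = ⊤ := by
    refine eq_top_iff.2 (le_trans ?_ (sup_le_sup_left hPB _))
    exact hcompl.sup_eq_top.ge
  have hB₁card : Nat.card B₁ * M₁.index = Nat.card B := by
    have h1 : Nat.card B₁ = Nat.card (B ⊓ M₁ : Subgroup A) := by
      rw [hB₁, ← card_map_of_injective M₁.subtype_injective, subgroupOf_map_subtype]
    have h2 : M₁.relIndex B = M₁.index := by
      rw [← relIndex_sup_right, sup_comm, hsup, relIndex_top_right]
    have h3 := card_mul_index (M₁.subgroupOf B)
    rw [← card_map_of_injective B.subtype_injective, subgroupOf_map_subtype, inf_comm] at h3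
    change _ * M₁.relIndex B = _ at h3
    rw [h1, ← h3, h2]
  have hB₁idx : B₁.index = B.index := by
    have h1 := B₁.card_mul_index
    have h2 := B.card_mul_index
    have h3 := M₁.card_mul_index
    rw [← hB₁card] at h2
    rw [← h3, ← h1] at h2
    have h4 : Nat.card B₁ * M₁.index * B.index = Nat.card B₁ * M₁.index * B₁.index := by
      rw [h2]; ring
    exact (Nat.eq_of_mul_eq_mul_left (Nat.mul_pos Nat.card_pos
      (Nat.pos_of_ne_zero M₁.index_ne_zero_of_finite)) h4).symm
  have hlt : Nat.card B₁ < n := by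
    rw [← hBn, ← hB₁card]
    refine lt_mul_of_one_lt_right Nat.card_pos ?_
    rw [hidx]
    exact one_lt_pow₀ hrp.one_lt (hrp.factorization_pos_of_dvd Nat.card_pos.ne'
      (hrd.trans (card_subgroup_dvd_card B))).ne'
  have hZ₁ : IsZGroup B₁ := by
    haveI := hZ
    let f : B₁ →* B :=
      { toFun := fun x => ⟨((x : M₁) : A), x.2⟩
        map_one' := rfl
        map_mul' := fun _ _ => rfl }
    exact IsZGroup.of_injective (f := f) fun x y h =>
      Subtype.ext (Subtype.ext (congrArg (fun z : B => (z : A)) h))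
  obtain ⟨M, hMn, hMc⟩ := ih _ hlt B₁ rfl hZ₁ (by
      rw [hB₁idx]; exact hcop.coprime_dvd_left ⟨_, hB₁card.symm⟩) (fun q Q hq hqd hQB hQc g hg => by
    haveI := Fact.mk hq
    have hqr : ¬ q ∣ M₁.index := by
      rw [hidx]
      intro h
      have hqr' : q = r := (Nat.prime_dvd_prime_iff_eq hq hrp).1 (hq.dvd_of_dvd_pow h)
      subst hqr'
      have h1 := MonoidHom.not_dvd_card_ker_transferSylow PA hcent
      exact h1 (hqd.trans (card_subgroup_dvd_card B₁))
    have hQA : Nat.card (Q.map M₁.subtype) = q ^ (Nat.card A).factorization q := by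
      rw [card_map_of_injective M₁.subtype_injective, hQc, ← M₁.card_mul_index,
        Nat.factorization_mul Nat.card_pos.ne' M₁.index_ne_zero_of_finite, Finsupp.add_apply,
        Nat.factorization_eq_zero_of_not_dvd hqr, add_zero]
    refine hN q _ hq (hqd.trans ⟨_, hB₁card.symm⟩) ?_ hQA (SEBrick.mem_normalizer_of ?_)
    · rintro _ ⟨y, hy, rfl⟩
      exact hQB hy
    · rintro _ ⟨y, hy, rfl⟩
      exact ⟨_, SEBrick.conj_mem_of hg hy, rfl⟩)
  refine ⟨M.map M₁.subtype, ⟨?_⟩, by rw [card_map_of_injective M₁.subtype_injective, hMc, hB₁idx]⟩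
  rintro _ ⟨x, hx, rfl⟩ g
  haveI : M₁.Normal := MonoidHom.normal_ker _
  let K := ((M.map M₁.subtype).map (MulAut.conj g).toMonoidHom).subgroupOf M₁
  have hKle : (M.map M₁.subtype).map (MulAut.conj g).toMonoidHom ≤ M₁ := by
    rintro _ ⟨_, ⟨y, -, rfl⟩, rfl⟩
    exact Subgroup.Normal.conj_mem inferInstance _ y.2 g
  have hKM : K ≤ M := le_of_coprime_index (by
    rw [Nat.card_congr (subgroupOfEquivOfLe hKle).toEquiv, card_map_of_injective (MulAut.conj g).injective,
      card_map_of_injective M₁.subtype_injective]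
    have h1 : M.index = Nat.card B₁ := by
      have h2 := M.card_mul_index
      rw [hMc, ← B₁.card_mul_index, mul_comm (Nat.card B₁)] at h2
      exact Nat.eq_of_mul_eq_mul_left (Nat.pos_of_ne_zero B₁.index_ne_zero_of_finite) h2
    rw [h1, hMc, hB₁idx]
    exact (hcop.coprime_dvd_left ⟨_, hB₁card.symm⟩).symm)
  have hgx : g * (x : A) * g⁻¹ ∈ (M.map M₁.subtype).map (MulAut.conj g).toMonoidHom :=
    mem_map_of_mem _ (mem_map_of_mem _ hx)
  exact ⟨⟨_, hKle hgx⟩, hKM (mem_subgroupOf.2 hgx), rfl⟩

variable {G : Type u} [Group G] [Finite G] {H : Subgroup G}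

/-- The involutions of `H` with the identity. -/
def invSub (H : Subgroup G) (hc : InvComm H) : Subgroup H where
  carrier := {h | h * h = 1}
  one_mem' := one_mul 1
  mul_mem' {x y} hx hy := by
    by_cases hx1 : x = 1
    · rw [hx1, one_mul]; exact hy
    by_cases hy1 : y = 1
    · rw [hy1, mul_one]; exact hx
    have hord : ∀ {z : H}, z * z = 1 → z ≠ 1 → orderOf (z : G) = 2 := fun {z} hz hz1 =>
      Invol.order_two_of_sq (congrArg Subtype.val hz) fun e => hz1 (Subtype.ext e)
    have e : x * y = y * x := Subtype.ext (hc _ _ x.2 y.2 (hord hx hx1) (hord hy hy1))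
    show x * y * (x * y) = 1
    calc x * y * (x * y) = x * (y * x) * y := by group
      _ = x * x * (y * y) := by rw [← e]; group
      _ = 1 := by rw [hx, hy, one_mul]
  inv_mem' {x} hx := by
    show x⁻¹ * x⁻¹ = 1
    rw [← mul_inv_rev, hx, inv_one]

instance invSub_normal (hc : InvComm H) : (invSub H hc).Normal := ⟨fun x hx g => by
  show g * x * g⁻¹ * (g * x * g⁻¹) = 1
  rw [show g * x * g⁻¹ * (g * x * g⁻¹) = g * (x * x) * g⁻¹ by group, show x * x = 1 from hx]
  group⟩

theorem order_of_mem_invSub {hc : InvComm H} {e : invSub H hc} (he : e ≠ 1) :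
    orderOf ((e : H) : G) = 2 :=
  Invol.order_two_of_sq (congrArg Subtype.val (show (e : H) * e = 1 from e.2))
    fun h => he (Subtype.ext (Subtype.ext h))

theorem card_invSub_ne_one (hc : InvComm H) :
    Nat.card {e : invSub H hc // e ≠ 1} = numInv H :=
  Nat.card_congr
    { toFun := fun e => ⟨(e.1 : H), order_of_mem_invSub e.2, (e.1 : H).2⟩
      invFun := fun t => ⟨⟨⟨t.1, t.2.2⟩, Subtype.ext (Invol.mul_self t.2.1)⟩, fun h =>
        Invol.ne_one t.2.1 (congrArg (fun z : invSub H hc => ((z : H) : G)) h)⟩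
      left_inv := fun _ => rfl
      right_inv := fun _ => rfl }

/-- The action of `H` on its involutions. -/
noncomputable def invAct (hc : InvComm H) : H →* MulAut (invSub H hc) := MulAut.conjNormal

theorem invAct_eq_self {hc : InvComm H} {h : H} {e : invSub H hc} :
    invAct hc h e = e ↔ (h : G) * (e : H) = (e : H) * h := by
  constructor
  · intro he
    have h2 : h * (e : H) * h⁻¹ = e :=
      (MulAut.conjNormal_apply h e).symm.trans (congrArg Subtype.val he)
    exact congrArg Subtype.val (mul_inv_eq_iff_eq_mul.1 h2)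
  · intro he
    refine Subtype.ext ((MulAut.conjNormal_apply h e).trans (mul_inv_eq_iff_eq_mul.2 (Subtype.ext he)))

theorem ker_invAct (hc : InvComm H) : (invAct hc).ker = (SERegular.invCent H).subgroupOf H := by
  ext h
  rw [MonoidHom.mem_ker, mem_subgroupOf, SERegular.invCent, mem_inf, mem_centralizer_iff]
  constructor
  · intro he
    refine ⟨h.2, fun t ht => ?_⟩
    have h1 : invAct hc h ⟨⟨t, ht.2⟩, Subtype.ext (Invol.mul_self ht.1)⟩ =
        ⟨⟨t, ht.2⟩, Subtype.ext (Invol.mul_self ht.1)⟩ := by rw [he]; rfl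
    exact (invAct_eq_self.1 h1).symm
  · intro he
    refine MulEquiv.ext fun e => ?_
    by_cases he1 : e = 1
    · rw [he1, map_one, map_one]
    exact invAct_eq_self.2 (he.2 _ ⟨order_of_mem_invSub he1, (e : H).2⟩).symm

/-- Elements of `pairStab` of the base point and `b` centralising one involution of `H` centralise all. -/
def NoField (H : Subgroup G) (b : G ⧸ H) : Prop :=
  ∀ d ∈ pairStab ((1 : G) : G ⧸ H) b, ∀ t ∈ H, orderOf t = 2 → d * t = t * d → d ∈ SERegular.invCent H

/-- Without a field part the centraliser of the involutions has index `m`. -/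
theorem relIndex_of_noField (hS : Setting H) (hw : SETrans.Weak G (G ⧸ H) ((1 : G) : G ⧸ H))
    (hc : InvComm H) {b : G ⧸ H} (hab : ((1 : G) : G ⧸ H) ≠ b) (hno : NoField H b) :
    (SERegular.invCent H).relIndex H = numInv H := by
  classical
  set a := ((1 : G) : G ⧸ H) with ha
  haveI : Nontrivial (G ⧸ H) := ⟨⟨_, _, hab⟩⟩
  have hH := hS.se
  set E := invSub H hc with hE
  set D := pairStab a b with hD
  have hDH : D ≤ H := fun x hx => SEBrick.fix_base_iff.1 (mem_pairStab.1 hx).1
  set φ := invAct hc with hφ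
  set A := φ.range
  set B : Subgroup A := (D.subgroupOf H).map φ.rangeRestrict with hB
  obtain ⟨t₀, ht₀H, ht₀⟩ := Invol.exists_invol hH.2.1
  set e₀ : E := ⟨⟨t₀, ht₀H⟩, Subtype.ext (Invol.mul_self ht₀)⟩ with he₀
  have he₀1 : e₀ ≠ 1 := fun h => Invol.ne_one ht₀ (congrArg (fun z : E => ((z : H) : G)) h)
  haveI : Nontrivial E := ⟨⟨e₀, 1, he₀1⟩⟩
  have htrans : ∀ e : E, e ≠ 1 → ∃ g ∈ B, (g : MulAut E) e₀ = e := by
    intro e he
    obtain ⟨d, hd, hde⟩ := pairStab_trans hH hab ht₀ (SEBrick.fix_base_iff.2 ht₀H)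
      (order_of_mem_invSub he) (SEBrick.fix_base_iff.2 (e : H).2)
    refine ⟨φ.rangeRestrict ⟨d, hDH hd⟩, mem_map_of_mem _ (mem_subgroupOf.2 hd), ?_⟩
    exact Subtype.ext ((MulAut.conjNormal_apply _ e₀).trans (Subtype.ext hde))
  have hfree : ∀ g ∈ B, ∀ e : E, (g : MulAut E) e = e → e ≠ 1 → g = 1 := by
    rintro _ ⟨⟨d, hdH⟩, hd, rfl⟩ e he he1
    have h1 := hno d (mem_subgroupOf.1 hd) _ (e : H).2 (order_of_mem_invSub he1) (invAct_eq_self.1 he)
    have h2 : (⟨d, hdH⟩ : H) ∈ φ.ker := by rw [hφ, ker_invAct, mem_subgroupOf]; exact h1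
    exact Subtype.ext h2
  have horbB : orbit B e₀ = {e | e ≠ 1} := by
    ext e
    constructor
    · rintro ⟨g, rfl⟩ h
      exact he₀1 (((g : A) : MulAut E).map_eq_one_iff.1 h)
    · intro he
      obtain ⟨g, hg, hge⟩ := htrans e he
      exact ⟨⟨g, hg⟩, hge⟩
  have horbA : orbit A e₀ = {e | e ≠ 1} := by
    ext e
    constructor
    · rintro ⟨g, rfl⟩ h
      exact he₀1 ((g : MulAut E).map_eq_one_iff.1 h)
    · intro he
      obtain ⟨g, -, hge⟩ := htrans e he
      exact ⟨g, hge⟩
  have hm : ({e : E | e ≠ 1}).ncard = numInv H := by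
    rw [← Nat.card_coe_set_eq, ← card_invSub_ne_one hc]; rfl
  have hBm : Nat.card B = numInv H := by
    have h1 : stabilizer B e₀ = ⊥ := (eq_bot_iff_forall _).2 fun g hg =>
      Subtype.ext (hfree _ g.2 e₀ hg he₀1)
    have h2 := index_stabilizer (G := B) e₀
    rw [h1, index_bot, horbB, hm] at h2
    exact h2
  set Ax := stabilizer A e₀ with hAx
  have hAxi : Ax.index = numInv H := by rw [hAx, index_stabilizer, horbA, hm]
  have hBi : B.index = Nat.card Ax := by
    have h1 := B.card_mul_index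
    rw [← Ax.card_mul_index, hBm, hAxi, mul_comm (Nat.card Ax)] at h1
    exact Nat.eq_of_mul_eq_mul_left (numInv_pos hH) h1
  have hodd := numInv_odd hH ⟨a, b, hab⟩
  -- a Sylow subgroup of `H` inside `D`
  have hsyl : ∀ r : ℕ, r.Prime → r ∣ numInv H → ∃ S : Sylow r H,
      (S : Subgroup H) ≤ D.subgroupOf H ∧
      ∀ g : H, g ∈ normalizer ((S : Subgroup H) : Set H) → (g : G) • b = b := by
    intro r hr hrm
    haveI := Fact.mk hr
    have hm' : r ∣ Nat.card {s : G // orderOf s = 2 ∧ s • a = a} := by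
      rwa [Nat.card_congr (Equiv.subtypeEquivRight fun s =>
        and_congr_right fun _ => SEBrick.fix_base_iff)]
    obtain ⟨R, -, hR, hRD, hRmax⟩ :=
      exists_pairSyl (r := r) (IsPGroup.of_bot (G := G)) (p := a) (q := b) bot_le
    obtain ⟨honly, htop⟩ := hw.sylow_pair hm' hab hR hRD fun Q hQ hQD hle => hRmax Q hQ hle hQD
    let S : Sylow r H :=
      { toSubgroup := R.subgroupOf H
        isPGroup' := hR.comap_subtype
        is_maximal' := fun {Q} hQ hle => by
          have h1 := htop _ (hQ.map H.subtype) (fun z hz => by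
              obtain ⟨y, -, rfl⟩ := hz
              exact SEBrick.fix_base_iff.2 y.2) fun z hz =>
            ⟨⟨z, hDH (hRD hz)⟩, hle hz, rfl⟩
          ext z
          rw [mem_subgroupOf, ← h1]
          exact ⟨fun hz => ⟨z, hz, rfl⟩, fun ⟨z', hz', e'⟩ => Subtype.ext e' ▸ hz'⟩ }
    refine ⟨S, fun x hx => hRD hx, fun g hg => ?_⟩
    have hga : (g : G) • a = a := SEBrick.fix_base_iff.2 g.2
    refine ((honly _ fun y hy => ?_).resolve_left fun e => hab
      (MulAction.injective (g : G) (hga.trans e.symm)))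
    have h1 : g⁻¹ * ⟨y, hDH (hRD hy)⟩ * g⁻¹⁻¹ ∈ (S : Subgroup H) :=
      SEBrick.conj_mem_of (inv_mem hg) (show _ ∈ (S : Subgroup H) from hy)
    have h2 : ((g : G)⁻¹ * y * (g : G)⁻¹⁻¹) • b = b := (mem_inf.1 (hRD h1)).2
    rw [inv_inv, mul_smul, mul_smul, inv_smul_eq_iff] at h2
    exact h2
  have hsurj := φ.rangeRestrict_surjective
  have hcop : (Nat.card B).Coprime B.index := by
    refine Nat.coprime_of_dvd fun r hr hrB hri => ?_
    haveI := Fact.mk hr
    obtain ⟨S, hSD, -⟩ := hsyl r hr (hBm ▸ hrB)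
    set P := S.mapSurjective hsurj with hP
    have hPB : (P : Subgroup A) ≤ B := by rw [hP, Sylow.coe_mapSurjective]; exact map_mono hSD
    exact P.not_dvd_index (hri.trans (index_dvd_of_le hPB))
  have hZ : IsZGroup B :=
    CN.isZGroup_of_fpf (Z := E) (hBm ▸ hodd) (A.subtype.comp B.subtype) fun g hg e he => by
      by_contra he1
      exact hg (Subtype.ext (hfree _ g.2 e he he1))
  have hN : ∀ (r : ℕ) (P : Subgroup A), r.Prime → r ∣ Nat.card B → P ≤ B →
      Nat.card P = r ^ (Nat.card A).factorization r → normalizer (P : Set A) ≤ B := by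
    intro r P hr hrB hPB hPc g hg
    haveI := Fact.mk hr
    obtain ⟨S, hSD, hSN⟩ := hsyl r hr (hBm ▸ hrB)
    set P₀ := S.mapSurjective hsurj with hP₀
    have hP₀B : (P₀ : Subgroup A) ≤ B := by rw [hP₀, Sylow.coe_mapSurjective]; exact map_mono hSD
    obtain ⟨c, hc'⟩ := exists_smul_eq B (P₀.subtype hP₀B) ((Sylow.ofCard P hPc).subtype hPB)
    rw [Sylow.smul_subtype] at hc'
    have hcP : (c : A) • P₀ = Sylow.ofCard P hPc := Sylow.subtype_injective hc'
    have hgP : g • Sylow.ofCard P hPc = Sylow.ofCard P hPc := Sylow.smul_eq_iff_mem_normalizer.2 hg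
    set x := ((c : A))⁻¹ * (g * c) with hx
    suffices hxB : x ∈ B by
      have := mul_mem (mul_mem c.2 hxB) (inv_mem c.2)
      rwa [hx, show (c : A) * ((c : A)⁻¹ * (g * c)) * (c : A)⁻¹ = g by group] at this
    have hxP : x • P₀ = P₀ := by rw [hx, mul_smul, mul_smul, hcP, hgP, ← hcP, inv_smul_smul]
    have hxN := Sylow.smul_eq_iff_mem_normalizer.1 hxP
    obtain ⟨h, hh⟩ := hsurj x
    set K := (P₀ : Subgroup A).comap φ.rangeRestrict with hK
    have hSK : (S : Subgroup H) ≤ K := fun y hy => by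
      rw [hK, mem_comap, hP₀, Sylow.coe_mapSurjective]; exact mem_map_of_mem _ hy
    have hhK : ((h • S : Sylow r H) : Subgroup H) ≤ K := by
      intro y hy
      rw [Sylow.coe_subgroup_smul, mem_pointwise_smul_iff_inv_smul_mem, MulAut.smul_def,
        MulAut.conj_inv_apply] at hy
      have h1 := hSK hy
      rw [hK, mem_comap, map_mul, map_mul, map_inv, hh] at h1
      have h2 := SEBrick.conj_mem_of hxN h1
      rw [hK, mem_comap]
      rwa [show x * (x⁻¹ * φ.rangeRestrict y * x) * x⁻¹ = φ.rangeRestrict y by group] at h2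
    obtain ⟨k, hk⟩ := exists_smul_eq K ((h • S).subtype hhK) (S.subtype hSK)
    rw [Sylow.smul_subtype] at hk
    have hkS : ((k : H) * h) • S = S := by rw [mul_smul]; exact Sylow.subtype_injective hk
    have hkD : (k : H) * h ∈ D.subgroupOf H := mem_subgroupOf.2 (mem_pairStab.2
      ⟨SEBrick.fix_base_iff.2 ((k : H) * h).2, hSN _ (Sylow.smul_eq_iff_mem_normalizer.1 hkS)⟩)
    have h1 : φ.rangeRestrict ((k : H) * h) ∈ B := mem_map_of_mem _ hkD
    rw [map_mul, hh] at h1
    exact (mul_mem_cancel_left (hP₀B k.2)).1 h1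
  obtain ⟨M, hMn, hMc⟩ := exists_normal_compl _ B rfl hZ hcop hN
  have hMi : M.index = numInv H := by
    have h1 := M.card_mul_index
    rw [hMc, ← B.card_mul_index, mul_comm (Nat.card B), hBm] at h1
    exact Nat.eq_of_mul_eq_mul_left (Nat.pos_of_ne_zero B.index_ne_zero_of_finite) h1
  have hAM : Ax = M := eq_of_le_of_card_ge
    (le_of_coprime_index (by rw [hMi, ← hBi, ← hBm]; exact hcop.symm)) (by rw [hMc, hBi])
  have hbot : Ax = ⊥ := (eq_bot_iff_forall _).2 fun x hx => by
    refine Subtype.ext (MulEquiv.ext fun e => ?_)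
    by_cases he1 : e = 1
    · rw [he1, map_one, map_one]
    obtain ⟨g, -, hge⟩ := htrans e he1
    have h1 : g⁻¹ * x * g⁻¹⁻¹ ∈ Ax := hAM ▸ hMn.conj_mem x (hAM ▸ hx) g⁻¹
    rw [inv_inv, mem_stabilizer_iff] at h1
    have h2 : g • e₀ = e := hge
    rw [mul_smul, mul_smul, inv_smul_eq_iff, h2] at h1
    exact h1
  have hcard : Nat.card A = numInv H := by
    rw [← Ax.card_mul_index, hAxi, hbot, card_bot, one_mul]
  rw [relIndex, ← ker_invAct hc, index_ker]
  exact hcard

/-- The residual case of the odd index: some element of a two-point stabiliser centralises one involution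
of `H` but not all of them. -/
def G1Star : Prop :=
  ∀ (G : Type u) [Group G] [Finite G] (H : Subgroup G), Setting H → TwoTrans H →
    SETrans.Weak G (G ⧸ H) ((1 : G) : G ⧸ H) → InvComm H →
    (∀ b : G ⧸ H, ((1 : G) : G ⧸ H) ≠ b → ¬ NoField H b) → Odd ((SERegular.invCent H).relIndex H)

/-- The odd index follows from the residual case. -/
theorem oddIndex_of_g1Star (h : G1Star.{u}) : OddIndex.{u} := by
  intro G _ _ H hS h2 hw hc
  by_cases hno : ∃ b : G ⧸ H, ((1 : G) : G ⧸ H) ≠ b ∧ NoField H b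
  · obtain ⟨b, hab, hb⟩ := hno
    rw [relIndex_of_noField hS hw hc hab hb]
    exact numInv_odd hS.se ⟨_, b, hab⟩
  · push Not at hno
    exact h G H hS h2 hw hc hno

end Cfsg.Agent.SEMain
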