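import Cfsg.Agent.Lib.SEMain.OddIndex
import Cfsg.Agent.Lib.SEMain.MaxThree
import Cfsg.Agent.Lib.SEMain.LocalBender
import Cfsg.Agent.Lib.SEMain.LocalTools

/-!
# The odd index with a kernel on a pair

In the weak, doubly transitive situation with commuting involutions, a non-trivial element of a two-point
stabiliser centralising all involutions of `H` gives the odd index.
-/

set_option autoImplicit false
set_option linter.style.haveILetI false
set_option linter.unusedSectionVars false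

namespace Cfsg.Agent.SEMain

open Subgroup MulAction

universe u

variable {G : Type u} [Group G] [Finite G] {H : Subgroup G}

/-- An odd `p`-group fixing three points is centralised by an involution moving any given one of them. -/
theorem exists_centralizing_invol (hH : Cfsg.IsStronglyEmbedded H)
    (hw : SETrans.Weak G (G ⧸ H) ((1 : G) : G ⧸ H)) {p : ℕ} [Fact p.Prime] (hp2 : p ≠ 2) {V : Subgroup G}
    (hV : IsPGroup p V) (h3 : FixesThree H V) {a : G ⧸ H} :
    ∃ w : G, orderOf w = 2 ∧ w • a ≠ a ∧ ∀ y ∈ V, w * y = y * w := by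
  classical
  haveI : Nontrivial (G ⧸ H) := ⟨⟨_, _, (exists_ne_one hH).choose_spec⟩⟩
  obtain ⟨Z, hVZ, ⟨hZp, hZ3⟩, hmax⟩ := Finite.exists_le_maximal
    (p := fun Z : Subgroup G => IsPGroup p Z ∧ FixesThree H Z) ⟨hV, h3⟩
  have hZ : MaxThree H p Z := ⟨hZp, hZ3, fun S hS hle hS3 => le_antisymm (hmax ⟨hS, hS3⟩ hle) hle⟩
  have hcen : ∀ v : G, orderOf v = 2 → v ∈ normalizer (Z : Set G) → ∀ y ∈ Z, v * y = y * v := by
    intro v hv hvZ y hy
    obtain ⟨x₁, x₂, x₃, h12, h23, h13, hx1, hx2, hx3⟩ := hZ3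
    set k := y * v * y⁻¹ * v with hk
    have hkZ : k ∈ Z := by
      rw [hk, show y * v * y⁻¹ * v = y * (v * y⁻¹ * v) by group]
      refine mul_mem hy ?_
      have := SEBrick.conj_mem_of hvZ (inv_mem hy)
      rwa [Invol.inv_self hv] at this
    by_cases hk1 : k = 1
    · rw [hk, mul_eq_one_iff_eq_inv, Invol.inv_self hv, mul_inv_eq_iff_eq_mul] at hk1
      exact hk1.symm
    exfalso
    have hinv : v * k * v⁻¹ = k⁻¹ := by
      rw [hk, mul_inv_rev, mul_inv_rev, mul_inv_rev, inv_inv, Invol.inv_self hv]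
      calc v * (y * v * y⁻¹ * v) * v = v * (y * (v * y⁻¹)) * (v * v) := by group
        _ = v * (y * (v * y⁻¹)) := by rw [Invol.mul_self hv, mul_one]
    have hkodd : Odd (orderOf k) := by
      obtain ⟨n, hn⟩ := IsPGroup.iff_orderOf.1 hZp ⟨k, hkZ⟩
      rw [Subgroup.orderOf_mk] at hn
      rw [hn]
      exact ((Fact.out : p.Prime).odd_of_ne_two hp2).pow
    obtain ⟨x, hx, hvx⟩ : ∃ x, Z ≤ stabilizer G x ∧ v • x ≠ x := by
      by_cases h1 : v • x₁ = x₁
      · exact ⟨x₂, hx2, fun h2 => h12 (Invol.se_fix_unique hH hv h1 h2)⟩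
      · exact ⟨x₁, hx1, h1⟩
    rcases hw.fix_pair ⟨hk1, hkodd, v, x, hv, hinv, hx hkZ, hvx⟩ (hx1 hkZ) (hx2 hkZ) (hx3 hkZ) h12 with h | h
    · exact h13 h.symm
    · exact h23 h.symm
  obtain ⟨v, hv, hvZ⟩ := hZ.exists_invol hH hp2
  by_cases hva : v • a = a
  swap
  · exact ⟨v, hv, hva, fun y hy => hcen v hv hvZ y (hVZ hy)⟩
  by_cases hZa : Z ≤ stabilizer G a
  swap
  · obtain ⟨x₁, x₂, x₃, h12, -, -, hx1, hx2, -⟩ := hZ3
    obtain ⟨x, hx, hvx⟩ : ∃ x, Z ≤ stabilizer G x ∧ v • x ≠ x := by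
      by_cases h1 : v • x₁ = x₁
      · exact ⟨x₂, hx2, fun h2 => h12 (Invol.se_fix_unique hH hv h1 h2)⟩
      · exact ⟨x₁, hx1, h1⟩
    exfalso
    refine hZa fun y hy => mem_stabilizer_iff.2 (Invol.se_fix_unique hH hv ?_ hva)
    rw [← mul_smul, hcen v hv hvZ y hy, mul_smul, hva]
  obtain ⟨g, hgZ, hga⟩ := hZ.exists_move hH hp2 hZa
  refine ⟨g * v * g⁻¹, (Invol.order_conj g v).trans hv, fun h => hga ?_, fun y hy => ?_⟩
  · exact Invol.se_fix_unique hH ((Invol.order_conj g v).trans hv) (conj_smul_eq hva) h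
  · exact hcen _ ((Invol.order_conj g v).trans hv) (mul_mem (mul_mem hgZ hvZ) (inv_mem hgZ)) y (hVZ hy)

/-- In a proper subgroup with a four-group at the base point, moving it, the 2-elements of the point
stabiliser centralise the involutions there modulo an odd normal subgroup. -/
theorem two_elements_centralize (hH : Cfsg.IsStronglyEmbedded H) (ih : Below.{u} (Nat.card G))
    {X : Subgroup G} (hX : Nat.card X < Nat.card G) (hp : HasPair (H.subgroupOf X))
    (hmove : ∃ g ∈ X, g ∉ H) {y t : G} (hy : y ∈ X) (hyH : y ∈ H) {n : ℕ} (hy2 : y ^ 2 ^ n = 1) (ht : t ∈ X)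
    (htH : t ∈ H) (ht2 : orderOf t = 2) : ∃ k : G, Odd (orderOf k) ∧ y * t * y⁻¹ * t = k := by
  classical
  haveI : Fact (Nat.Prime 2) := ⟨Nat.prime_two⟩
  set P := H.subgroupOf X with hP
  have hse : Cfsg.IsStronglyEmbedded P :=
    SESolv.se_sub hH ht2 htH ht fun hle => by obtain ⟨g, hgX, hgH⟩ := hmove; exact hgH (hle hgX)
  set N := P.normalCore with hN
  have hKodd : Odd (Nat.card N) := SEBender.odd_normalCore hse
  have hNP : N ≤ P := P.normalCore_le
  set π := QuotientGroup.mk' N with hπ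
  obtain ⟨-, hodd⟩ := ih (X ⧸ N) (P.map π)
    ((Nat.card_le_card_of_surjective _ QuotientGroup.mk_surjective).trans_lt hX)
    (se_map hNP hKodd hse) (core_map hNP (le_refl N)) (pair_map hNP hKodd hp).exists_four
  set P' := P.map π with hP'
  set C := SERegular.invCent P' with hC
  have hyP : π ⟨y, hy⟩ ∈ P' := mem_map_of_mem _ (show (⟨y, hy⟩ : X) ∈ P from hyH)
  haveI hCn : (C.subgroupOf P').Normal := ⟨fun c hc g => by
    rw [mem_subgroupOf, hC, SERegular.invCent, mem_inf] at hc ⊢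
    refine ⟨(g * c * g⁻¹).2, mem_centralizer_iff.2 fun s hs => ?_⟩
    have h2 : ((g : X ⧸ N))⁻¹ * s * (g : X ⧸ N) ∈ {t : X ⧸ N | orderOf t = 2 ∧ t ∈ P'} :=
      ⟨by
        have := (Invol.order_conj (g : X ⧸ N)⁻¹ s).trans hs.1
        rwa [inv_inv] at this, mul_mem (mul_mem (inv_mem g.2) hs.2) g.2⟩
    have h3 := mem_centralizer_iff.1 hc.2 _ h2
    rw [Subgroup.coe_mul, Subgroup.coe_mul, Subgroup.coe_inv]
    calc s * ((g : X ⧸ N) * c * (g : X ⧸ N)⁻¹)
        = g * (((g : X ⧸ N))⁻¹ * s * g * c) * (g : X ⧸ N)⁻¹ := by group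
      _ = g * (c * (((g : X ⧸ N))⁻¹ * s * g)) * (g : X ⧸ N)⁻¹ := by rw [h3]
      _ = _ := by group⟩
  have hyC : π ⟨y, hy⟩ ∈ C := by
    have hodd' : Odd (Nat.card (P' ⧸ C.subgroupOf P')) := hodd
    have h1 : orderOf (QuotientGroup.mk' (C.subgroupOf P') ⟨_, hyP⟩) ∣ 2 ^ n := by
      refine orderOf_dvd_of_pow_eq_one ?_
      rw [← map_pow]
      have : (⟨_, hyP⟩ : P') ^ 2 ^ n = 1 := Subtype.ext (by
        rw [SubmonoidClass.coe_pow, ← map_pow, show (⟨y, hy⟩ : X) ^ 2 ^ n = 1 from Subtype.ext hy2,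
          map_one]; rfl)
      rw [this, map_one]
    obtain ⟨i, -, hi⟩ := (Nat.dvd_prime_pow Nat.prime_two).1 h1
    have h2 : Odd (orderOf (QuotientGroup.mk' (C.subgroupOf P') ⟨_, hyP⟩)) :=
      hodd'.of_dvd_nat (orderOf_dvd_natCard _)
    rw [hi] at h2
    rcases Nat.eq_zero_or_pos i with rfl | hpos
    · have := orderOf_eq_one_iff.1 (hi.trans (pow_zero 2))
      exact mem_subgroupOf.1 ((QuotientGroup.eq_one_iff (⟨_, hyP⟩ : P')).1 this)
    · exact absurd ((Nat.even_pow.2 ⟨even_two, hpos.ne'⟩)) (Nat.not_even_iff_odd.2 h2)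
  have hπt : orderOf (π ⟨t, ht⟩) = 2 := order_mk hNP hKodd (by rwa [Subgroup.orderOf_mk])
  have hc := mem_centralizer_iff.1 (mem_inf.1 hyC).2 (π ⟨t, ht⟩)
    ⟨hπt, mem_map_of_mem _ (show (⟨t, ht⟩ : X) ∈ P from htH)⟩
  have hk : π (⟨y, hy⟩ * ⟨t, ht⟩ * ⟨y, hy⟩⁻¹ * ⟨t, ht⟩) = 1 := by
    rw [map_mul, map_mul, map_mul, map_inv, ← hc, mul_inv_cancel_right, Invol.mul_self hπt]
  refine ⟨_, ?_, rfl⟩
  have h := (QuotientGroup.eq_one_iff _).1 hk
  have h3 := SEBrick.odd_order hKodd h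
  rwa [← Subgroup.orderOf_coe] at h3

/-- A non-trivial kernel on a pair gives the odd index. -/
theorem odd_relIndex_of_kernel (hS : Setting H) (h2 : TwoTrans H)
    (hw : SETrans.Weak G (G ⧸ H) ((1 : G) : G ⧸ H)) (hc : InvComm H) {b : G ⧸ H}
    (hab : ((1 : G) : G ⧸ H) ≠ b) {d : G} (hd : d ∈ pairStab ((1 : G) : G ⧸ H) b)
    (hdC : d ∈ SERegular.invCent H) (hd1 : d ≠ 1) : Odd ((SERegular.invCent H).relIndex H) := by
  classical
  set a := ((1 : G) : G ⧸ H) with ha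
  have hH := hS.se
  set C := SERegular.invCent H with hC
  set D := pairStab a b with hD
  set N := C ⊓ D with hN
  haveI : Nontrivial N := ⟨⟨⟨d, hdC, hd⟩, 1, fun e => hd1 (congrArg Subtype.val e)⟩⟩
  obtain ⟨p, hp, hpd⟩ := Nat.exists_prime_and_dvd (Finite.one_lt_card (α := N)).ne'
  haveI := Fact.mk hp
  have hNodd : Odd (Nat.card N) := (pairStab_odd hH hab).of_dvd_nat (card_dvd_of_le inf_le_right)
  have hp2 : p ≠ 2 := fun e => Nat.not_even_iff_odd.2 hNodd (even_iff_two_dvd.2 (e ▸ hpd))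
  obtain ⟨SV⟩ : Nonempty (Sylow p N) := inferInstance
  set V := (SV : Subgroup N).map N.subtype with hV
  have hVN : V ≤ N := map_subtype_le _
  have hVp : IsPGroup p V := SV.isPGroup'.map _
  have hVC : V ≤ C := hVN.trans inf_le_left
  have hVcard : Nat.card V = p ^ (Nat.card N).factorization p := CoprimeAct.card_map_sylow SV
  have hV1 : V ≠ ⊥ := fun e => by
    rw [e, card_bot] at hVcard
    exact (Nat.one_lt_pow (hp.factorization_pos_of_dvd Nat.card_pos.ne' hpd).ne' hp.one_lt).ne hVcard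
  have hCH : C ≤ H := inf_le_left
  have hVa : V ≤ stabilizer G a := fun x hx => SEBrick.fix_base_iff.2 (hCH (hVC hx))
  have hVb : V ≤ stabilizer G b := fun x hx => (mem_inf.1 (mem_inf.1 (hVN hx)).2).2
  obtain ⟨s, s', hsH, hs'H, hs, hs', hne, hss⟩ := hS.pair
  have hcent : ∀ {t : G}, t ∈ H → orderOf t = 2 → ∀ x ∈ C, t * x = x * t := fun {t} htH ht x hx =>
    mem_centralizer_iff.1 (mem_inf.1 hx).2 t ⟨ht, htH⟩
  have h3 : FixesThree H V := by
    have hsa : s • a = a := SEBrick.fix_base_iff.2 hsH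
    refine ⟨a, b, s • b, hab, fun e => hab (Invol.se_fix_unique hH hs hsa e.symm), fun e => hab ?_,
      hVa, hVb, fun x hx => ?_⟩
    · exact MulAction.injective s (hsa.trans e)
    · rw [mem_stabilizer_iff, ← mul_smul, ← hcent hsH hs x (hVC hx), mul_smul,
        show x • b = b from hVb hx]
  obtain ⟨w, hw2, hwa, hwc⟩ := exists_centralizing_invol hH hw hp2 hVp h3 (a := a)
  set X := normalizer (V : Set G) with hX
  have hnorm : ∀ t : G, (∀ y ∈ V, t * y = y * t) → t ∈ X := fun t ht => SEBrick.mem_normalizer_of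
    fun y hy => by rw [ht y hy, mul_inv_cancel_right]; exact hy
  have hwX : w ∈ X := hnorm w hwc
  have hIX : ∀ {t : G}, t ∈ H → orderOf t = 2 → t ∈ X := fun {t} htH ht =>
    hnorm t fun y hy => hcent htH ht y (hVC hy)
  have hXlt := card_normalizer_lt hS.core hV1 hVa
  have hpX : HasPair (H.subgroupOf X) := ⟨⟨s, hIX hsH hs⟩, ⟨s', hIX hs'H hs'⟩, hsH, hs'H,
    by rwa [Subgroup.orderOf_mk], by rwa [Subgroup.orderOf_mk], fun e => hne (congrArg Subtype.val e),
    Subtype.ext hss⟩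
  have hwH : w ∉ H := fun h => hwa (SEBrick.fix_base_iff.2 h)
  -- `V` is a Sylow subgroup of `C`
  obtain ⟨S, hSV⟩ := (hVp.comap_subtype (K := C) : IsPGroup p (V.subgroupOf C)).exists_le_sylow
  have hSeq : (S : Subgroup C).map C.subtype = V := by
    by_contra hne'
    set P := (S : Subgroup C).map C.subtype with hP
    have hVP : V ≤ P := fun x hx => ⟨⟨x, hVC hx⟩, hSV (mem_subgroupOf.2 hx), rfl⟩
    obtain ⟨g, hgP, hgX, hgV⟩ := exists_normalizer_gt (S.isPGroup'.map _) hVP hne'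
    set R := V ⊔ zpowers g with hR
    have hRP : R ≤ P := sup_le hVP (zpowers_le.2 hgP)
    have hPC : P ≤ C := map_subtype_le _
    obtain ⟨E, hEH, hE⟩ := hpX.exists_four
    obtain ⟨K, hK⟩ := exists_localData hH hS.below hXlt (E := E.map X.subtype) (p := a)
      (hE.map X.subtype X.subtype_injective.injOn) (map_subtype_le _)
      (by rintro _ ⟨e, he, rfl⟩; exact SEBrick.fix_base_iff.2 (hEH he)) ⟨w, hwX, hwa⟩
    obtain ⟨x, hxX, hxa, hRx⟩ := hK.fixed p R hp hp2 ((S.isPGroup'.map _).to_le hRP)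
      (sup_le le_normalizer (zpowers_le.2 hgX))
      (fun z hz => SEBrick.fix_base_iff.2 (hCH (hPC (hRP hz))))
    obtain ⟨h, hha, hhb⟩ := h2 a b (x • a) (Ne.symm hab) hxa
    have hhH : h ∈ H := SEBrick.fix_base_iff.1 hha
    have hle : R.map (MulAut.conj h⁻¹).toMonoidHom ≤ N := by
      rintro _ ⟨z, hz, rfl⟩
      have hzH : h⁻¹ * z * h⁻¹⁻¹ ∈ H := mul_mem (mul_mem (inv_mem hhH) (hCH (hPC (hRP hz))))
        (inv_mem (inv_mem hhH))
      refine mem_inf.2 ⟨mem_inf.2 ⟨hzH, mem_centralizer_iff.2 fun t ht => ?_⟩,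
        mem_pairStab.2 ⟨SEBrick.fix_base_iff.2 hzH, ?_⟩⟩
      · have h1 := hcent (t := h * t * h⁻¹) (mul_mem (mul_mem hhH ht.2) (inv_mem hhH))
          ((Invol.order_conj h t).trans ht.1) z (hPC (hRP hz))
        show t * (h⁻¹ * z * h⁻¹⁻¹) = h⁻¹ * z * h⁻¹⁻¹ * t
        calc t * (h⁻¹ * z * h⁻¹⁻¹) = h⁻¹ * (h * t * h⁻¹ * z) * h := by group
          _ = h⁻¹ * (z * (h * t * h⁻¹)) * h := by rw [h1]
          _ = _ := by group
      · show (h⁻¹ * z * h⁻¹⁻¹) • b = b
        rw [inv_inv, mul_smul, mul_smul, hhb, show z • x • a = x • a from hRx hz, ← hhb, inv_smul_smul]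
    have hcardR : Nat.card R ≤ Nat.card V := by
      have hinj : Nat.card (R.map (MulAut.conj h⁻¹).toMonoidHom) = Nat.card R :=
        card_map_of_injective (MulAut.conj h⁻¹).injective
      rw [hVcard, ← hinj]
      have hmp : IsPGroup p (R.map (MulAut.conj h⁻¹).toMonoidHom) := ((S.isPGroup'.map _).to_le hRP).map _
      obtain ⟨j, hj⟩ := IsPGroup.iff_card.1 hmp
      rw [hj]
      exact Nat.pow_le_pow_right hp.pos
        ((hp.pow_dvd_iff_le_factorization Nat.card_pos.ne').1 (hj ▸ card_dvd_of_le hle))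
    exact hgV ((eq_of_le_of_card_ge (le_sup_left : V ≤ R) hcardR).symm ▸ mem_sup_right (mem_zpowers g))
  -- a Sylow 2-subgroup of `N_H(V)` lies in `C`
  set M := H ⊓ X with hM
  have hCn : H ≤ normalizer (C : Set G) := fun g hg => SEBrick.mem_normalizer_of fun x hx =>
    mem_inf.2 ⟨mul_mem (mul_mem hg (hCH hx)) (inv_mem hg), mem_centralizer_iff.2 fun t ht => by
      have h1 := hcent (t := g⁻¹ * t * g) (mul_mem (mul_mem (inv_mem hg) ht.2) hg)
        (by have := (Invol.order_conj g⁻¹ t).trans ht.1; rwa [inv_inv] at this) x hx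
      calc t * (g * x * g⁻¹) = g * (g⁻¹ * t * g * x) * g⁻¹ := by group
        _ = g * (x * (g⁻¹ * t * g)) * g⁻¹ := by rw [h1]
        _ = _ := by group⟩
  have hsup : M ⊔ C = H := le_antisymm (sup_le inf_le_left hCH) fun g hg => by
    obtain ⟨k, hk, hkg⟩ := frattini_local hCn S hg
    rw [hSeq] at hkg
    rw [show g = k * (k⁻¹ * g) by group]
    exact mul_mem (mem_sup_right hk) (mem_sup_left (mem_inf.2 ⟨H.mul_mem (H.inv_mem (hCH hk)) hg, hkg⟩))
  haveI : (C.subgroupOf H).Normal := normal_subgroupOf_of_le_normalizer hCn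
  have hMH : M ≤ H := inf_le_left
  have hsup' : M.subgroupOf H ⊔ C.subgroupOf H = ⊤ := by
    rw [← subgroupOf_sup hMH hCH, hsup, subgroupOf_self]
  have hrel : C.relIndex H = C.relIndex M := by
    rw [← relIndex_subgroupOf (H := C) hMH, ← relIndex_sup_right (H := M.subgroupOf H) (K := C.subgroupOf H),
      hsup', relIndex_top_right]
    rfl
  rw [hrel]
  haveI : Fact (Nat.Prime 2) := ⟨Nat.prime_two⟩
  obtain ⟨T⟩ : Nonempty (Sylow 2 M) := inferInstance
  rw [← Nat.not_even_iff_odd, even_iff_two_dvd]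
  refine fun hdvd => T.not_dvd_index (hdvd.trans (index_dvd_of_le fun y hy => ?_))
  rw [mem_subgroupOf]
  refine mem_inf.2 ⟨(mem_inf.1 y.2).1, mem_centralizer_iff.2 fun t ht => ?_⟩
  obtain ⟨n, hn⟩ := IsPGroup.iff_orderOf.1 T.isPGroup' ⟨y, hy⟩
  have hyn : (y : G) ^ 2 ^ n = 1 := by
    rw [← hn, Subgroup.orderOf_mk, ← Subgroup.orderOf_coe]; exact pow_orderOf_eq_one _
  obtain ⟨k, hk, hke⟩ := two_elements_centralize hH hS.below hXlt hpX ⟨w, hwX, hwH⟩ (mem_inf.1 y.2).2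
    (mem_inf.1 y.2).1 hyn (hIX ht.2 ht.1) ht.2 ht.1
  set s₀ := (y : G) * t * (y : G)⁻¹ with hs₀
  have hs₀H : s₀ ∈ H := mul_mem (mul_mem (mem_inf.1 y.2).1 ht.2) (inv_mem (mem_inf.1 y.2).1)
  have hs₀2 : orderOf s₀ = 2 := (Invol.order_conj _ t).trans ht.1
  have hk2 : k ^ 2 = 1 := by
    rw [← hke, pow_two]
    calc s₀ * t * (s₀ * t) = s₀ * (t * s₀) * t := by group
      _ = s₀ * s₀ * (t * t) := by rw [hc t s₀ ht.2 hs₀H ht.1 hs₀2]; group
      _ = 1 := by rw [Invol.mul_self hs₀2, Invol.mul_self ht.1, one_mul]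
  rw [Invol.eq_one_of_sq_of_odd hk hk2] at hke
  rw [mul_eq_one_iff_eq_inv, Invol.inv_self ht.1, hs₀, mul_inv_eq_iff_eq_mul] at hke
  exact hke.symm

/-- The residual case of the odd index after the kernel step: the centraliser of the involutions of `H`
meets every two-point stabiliser at the base point trivially, and there is a field part. -/
def G1Residual : Prop :=
  ∀ (G : Type u) [Group G] [Finite G] (H : Subgroup G), Setting H → TwoTrans H →
    SETrans.Weak G (G ⧸ H) ((1 : G) : G ⧸ H) → InvComm H →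
    (∀ b : G ⧸ H, ((1 : G) : G ⧸ H) ≠ b → ¬ NoField H b) →
    (∀ b : G ⧸ H, ((1 : G) : G ⧸ H) ≠ b → ∀ d ∈ pairStab ((1 : G) : G ⧸ H) b,
      d ∈ SERegular.invCent H → d = 1) → Odd ((SERegular.invCent H).relIndex H)

/-- The odd index follows from the residual case. -/
theorem oddIndex_of_residual (h : G1Residual.{u}) : OddIndex.{u} :=
  oddIndex_of_g1Star fun G _ _ H hS h2 hw hc hno => by
    by_cases hk : ∀ b : G ⧸ H, ((1 : G) : G ⧸ H) ≠ b → ∀ d ∈ pairStab ((1 : G) : G ⧸ H) b,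
        d ∈ SERegular.invCent H → d = 1
    · exact h G H hS h2 hw hc hno hk
    · push Not at hk
      obtain ⟨b, hab, d, hd, hdC, hd1⟩ := hk
      exact odd_relIndex_of_kernel hS h2 hw hc hab hd hdC hd1

end Cfsg.Agent.SEMain
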