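import Cfsg.Agent.Lib.SEMain.PairTorus
import Cfsg.Agent.Lib.SEMain.FieldAut

/-!
# The field part on a pair

The complement `F` of the torus on a pair is cyclic. Unless one of its elements of prime order centralises a
single involution of `H`, the quotient by the torus is unchanged by fusion in `H`.
-/

set_option autoImplicit false
set_option linter.style.haveILetI false
set_option linter.unusedSectionVars false

namespace Cfsg.Agent.SEMain

open Subgroup MulAction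

universe u

variable {G : Type u} [Group G] [Finite G] {H : Subgroup G} {b : G ⧸ H} {T : Subgroup G} {t₀ : G}

/-- The part of a two-point stabiliser centralising the involution `t₀`. -/
def fieldPart (b : G ⧸ H) (t₀ : G) : Subgroup G :=
  pairStab ((1 : G) : G ⧸ H) b ⊓ centralizer ({t₀} : Set G)

theorem mem_fieldPart {x : G} :
    x ∈ fieldPart b t₀ ↔ x ∈ pairStab ((1 : G) : G ⧸ H) b ∧ x * t₀ = t₀ * x := by
  rw [fieldPart, mem_inf, mem_centralizer_singleton_iff]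

theorem mem_of_pairStab {x : G} (hx : x ∈ pairStab ((1 : G) : G ⧸ H) b) : x ∈ H :=
  SEBrick.fix_base_iff.1 (mem_pairStab.1 hx).1

theorem comm_of_conj_eq {k t : G} (h : k * t * k⁻¹ = t) : k * t = t * k := mul_inv_eq_iff_eq_mul.1 h

variable (hT : TorusData H b T) (ht₀H : t₀ ∈ H) (ht₀ : orderOf t₀ = 2)
include hT ht₀H ht₀

theorem torus_field_eq_one {x : G} (hx : x ∈ T) (hxF : x ∈ fieldPart b t₀) : x = 1 :=
  hT.free x hx t₀ ht₀H ht₀ (mem_fieldPart.1 hxF).2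

theorem eq_of_mem_field {f f' : G} (hf : f ∈ fieldPart b t₀) (hf' : f' ∈ fieldPart b t₀)
    (h : f' * f⁻¹ ∈ T) : f' = f :=
  mul_inv_eq_one.1 (torus_field_eq_one hT ht₀H ht₀ h (mul_mem hf' (inv_mem hf)))

theorem exists_decomp {d : G} (hd : d ∈ pairStab ((1 : G) : G ⧸ H) b) :
    ∃ s ∈ T, ∃ f ∈ fieldPart b t₀, s * f = d := by
  obtain ⟨s, hs, hse⟩ := hT.trans t₀ (d * t₀ * d⁻¹) ht₀H
    (mul_mem (mul_mem (mem_of_pairStab hd) ht₀H) (inv_mem (mem_of_pairStab hd))) ht₀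
    ((Invol.order_conj d t₀).trans ht₀)
  refine ⟨s, hs, s⁻¹ * d, mem_fieldPart.2 ⟨mul_mem (inv_mem (hT.le hs)) hd, comm_of_conj_eq ?_⟩, by group⟩
  calc s⁻¹ * d * t₀ * (s⁻¹ * d)⁻¹ = s⁻¹ * (d * t₀ * d⁻¹) * s := by group
    _ = t₀ := by rw [← hse]; group

section Field

variable (hc : InvComm H) (hker : ∀ d ∈ pairStab ((1 : G) : G ⧸ H) b, d ∈ SERegular.invCent H → d = 1)
include hc hker

/-- The field part is cyclic and detected by its fixed involutions. -/
theorem fieldPart_cyclic : IsCyclic (fieldPart b t₀) ∧ ∀ z ∈ fieldPart b t₀, ∀ f ∈ fieldPart b t₀,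
    (∀ t ∈ H, orderOf t = 2 → z * t = t * z → f * t = t * f) → f ∈ zpowers z := by
  classical
  letI instE : CommGroup (invSub H hc) :=
    { (inferInstance : Group (invSub H hc)) with
      mul_comm := fun x y => by
        by_cases hx : x = 1
        · rw [hx, one_mul, mul_one]
        by_cases hy : y = 1
        · rw [hy, one_mul, mul_one]
        exact Subtype.ext (Subtype.ext (hc _ _ (x : H).2 (y : H).2 (order_of_mem_invSub hx)
          (order_of_mem_invSub hy))) }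
  set φ := invAct hc with hφ
  let e₀ : invSub H hc := ⟨⟨t₀, ht₀H⟩, Subtype.ext (Invol.mul_self ht₀)⟩
  have he₀ : e₀ ≠ 1 := fun h => Invol.ne_one ht₀ (congrArg (fun z : invSub H hc => ((z : H) : G)) h)
  have hinj : ∀ x y : H, (x : G) ∈ pairStab ((1 : G) : G ⧸ H) b → (y : G) ∈ pairStab ((1 : G) : G ⧸ H) b →
      φ x = φ y → x = y := by
    intro x y hx hy he
    have h1 : x⁻¹ * y ∈ φ.ker := by rw [MonoidHom.mem_ker, map_mul, map_inv, he, inv_mul_cancel]
    rw [hφ, ker_invAct, mem_subgroupOf] at h1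
    exact inv_mul_eq_one.1 (Subtype.ext (hker _ (mul_mem (inv_mem hx) hy) h1))
  have hFH : fieldPart b t₀ ≤ H := fun x hx => mem_of_pairStab (mem_fieldPart.1 hx).1
  have hTH : T ≤ H := fun x hx => mem_of_pairStab (hT.le hx)
  obtain ⟨hcyc, hpow⟩ := cyclic_of_regular_normalizer (E := invSub H hc) (fun x => Subtype.ext x.2) he₀
    ((T.subgroupOf H).map φ) (((fieldPart b t₀).subgroupOf H).map φ)
    (by
      rintro _ ⟨x, hx, rfl⟩ _ ⟨y, hy, rfl⟩
      rw [← map_mul, ← map_mul, show x * y = y * x from Subtype.ext (hT.comm _ hx _ hy)])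
    (fun e he => by
      obtain ⟨s, hs, hse⟩ := hT.trans t₀ (e : H) ht₀H (e : H).2 ht₀ (order_of_mem_invSub he)
      exact ⟨φ ⟨s, hTH hs⟩, mem_map_of_mem _ hs,
        Subtype.ext ((MulAut.conjNormal_apply _ e₀).trans (Subtype.ext hse))⟩)
    (by
      rintro _ ⟨x, hx, rfl⟩ he
      have h1 : x = 1 := Subtype.ext (hT.free _ hx t₀ ht₀H ht₀ (invAct_eq_self.1 he))
      rw [h1, map_one])
    (by
      rintro _ ⟨x, hx, rfl⟩
      exact invAct_eq_self.2 (mem_fieldPart.1 hx).2)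
    (by
      rintro _ ⟨x, hx, rfl⟩ _ ⟨y, hy, rfl⟩
      rw [← map_inv, ← map_mul, ← map_mul]
      exact mem_map_of_mem _ (mem_subgroupOf.2
        (SEBrick.conj_mem_of (hT.norm (mem_fieldPart.1 hx).1) hy)))
  refine ⟨?_, fun z hz f hf hfix => ?_⟩
  · let g : fieldPart b t₀ →* ((fieldPart b t₀).subgroupOf H).map φ :=
      { toFun := fun x => ⟨φ ⟨x, hFH x.2⟩, mem_map_of_mem _ x.2⟩
        map_one' := Subtype.ext (map_one φ)
        map_mul' := fun x y => Subtype.ext (map_mul φ ⟨x, hFH x.2⟩ ⟨y, hFH y.2⟩) }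
    haveI := hcyc
    refine isCyclic_of_injective g fun x y h => Subtype.ext ?_
    exact congrArg (fun v : H => (v : G)) (hinj ⟨x, hFH x.2⟩ ⟨y, hFH y.2⟩ (mem_fieldPart.1 x.2).1
      (mem_fieldPart.1 y.2).1 (congrArg Subtype.val h))
  · obtain ⟨i, hi⟩ := mem_zpowers_iff.1 (hpow (φ ⟨z, hFH hz⟩) (mem_map_of_mem _ hz) (φ ⟨f, hFH hf⟩)
      (mem_map_of_mem _ hf) fun e he => by
        by_cases he1 : e = 1
        · rw [he1, map_one]
        exact invAct_eq_self.2 (hfix _ (e : H).2 (order_of_mem_invSub he1) (invAct_eq_self.1 he)))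
    rw [← map_zpow] at hi
    exact ⟨i, congrArg Subtype.val (hinj (⟨z, hFH hz⟩ ^ i) ⟨f, hFH hf⟩
      (by rw [SubgroupClass.coe_zpow]; exact zpow_mem (mem_fieldPart.1 hz).1 i)
      (mem_fieldPart.1 hf).1 hi)⟩

theorem fieldPart_comm {f f' : G} (hf : f ∈ fieldPart b t₀) (hf' : f' ∈ fieldPart b t₀) :
    f * f' = f' * f := by
  haveI := (fieldPart_cyclic hT ht₀H ht₀ hc hker).1
  obtain ⟨⟨g, hg⟩, hgen⟩ := IsCyclic.exists_generator (α := fieldPart b t₀)
  obtain ⟨i, hi⟩ := hgen ⟨f, hf⟩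
  obtain ⟨j, hj⟩ := hgen ⟨f', hf'⟩
  have hi' : g ^ i = f := congrArg Subtype.val hi
  have hj' : g ^ j = f' := congrArg Subtype.val hj
  rw [← hi', ← hj', ← zpow_add, ← zpow_add, add_comm]

/-- The quotient of the stabiliser of the pair by the torus is abelian. -/
theorem commutator_mem_torus {x y : G} (hx : x ∈ pairStab ((1 : G) : G ⧸ H) b)
    (hy : y ∈ pairStab ((1 : G) : G ⧸ H) b) : x * y * x⁻¹ * y⁻¹ ∈ T := by
  obtain ⟨s, hs, f, hf, rfl⟩ := exists_decomp hT ht₀H ht₀ hx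
  obtain ⟨s', hs', f', hf', rfl⟩ := exists_decomp hT ht₀H ht₀ hy
  have hn : ∀ {k v : G}, k ∈ fieldPart b t₀ → v ∈ T → k * v * k⁻¹ ∈ T := fun hk hv =>
    SEBrick.conj_mem_of (hT.norm (mem_fieldPart.1 hk).1) hv
  have e : s * f * (s' * f') * (s * f)⁻¹ * (s' * f')⁻¹ =
      s * (f * s' * f⁻¹) * (f' * s⁻¹ * f'⁻¹) * s'⁻¹ := by
    calc s * f * (s' * f') * (s * f)⁻¹ * (s' * f')⁻¹
        = s * (f * s' * f⁻¹) * (f * f' * f⁻¹) * s⁻¹ * f'⁻¹ * s'⁻¹ := by group
      _ = _ := by rw [fieldPart_comm hT ht₀H ht₀ hc hker hf hf']; group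
  rw [e]
  exact mul_mem (mul_mem (mul_mem hs (hn hf hs')) (hn hf' (inv_mem hs))) (inv_mem hs')

variable (hS : Setting H) (hab : ((1 : G) : G ⧸ H) ≠ b)
include hS hab

/-- An element of prime order of the field part centralising a single involution gives the terminal shape. -/
theorem frobData_of_single {z : G} (hz : z ∈ fieldPart b t₀) {r : ℕ} (hr : r.Prime) (hzr : orderOf z = r)
    (h : ∀ x ∈ T, z * x = x * z → x = 1) : FrobData H b H T := by
  haveI := Fact.mk hr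
  have hall : ∀ f ∈ fieldPart b t₀, f ∈ zpowers z := by
    intro f hf
    refine (fieldPart_cyclic hT ht₀H ht₀ hc hker).2 z hz f hf fun t htH ht hzt => ?_
    obtain ⟨x, hx, hxt⟩ := hT.trans t₀ t ht₀H htH ht₀ ht
    have hzD := (mem_fieldPart.1 hz).1
    have h1 : x⁻¹ * (z * x * z⁻¹) = 1 := by
      refine hT.free _ (mul_mem (inv_mem hx) (SEBrick.conj_mem_of (hT.norm hzD) hx)) t₀ ht₀H ht₀
        (comm_of_conj_eq ?_)
      have h0 : z⁻¹ * t₀ * z = t₀ := by
        rw [mul_assoc, ← (mem_fieldPart.1 hz).2, inv_mul_cancel_left]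
      calc x⁻¹ * (z * x * z⁻¹) * t₀ * (x⁻¹ * (z * x * z⁻¹))⁻¹
          = x⁻¹ * (z * (x * (z⁻¹ * t₀ * z) * x⁻¹) * z⁻¹) * x := by group
        _ = x⁻¹ * (z * t * z⁻¹) * x := by rw [h0, hxt]
        _ = x⁻¹ * t * x := by rw [hzt, mul_inv_cancel_right]
        _ = t₀ := by rw [← hxt]; group
    rw [inv_mul_eq_one] at h1
    rw [h x hx (mul_inv_eq_iff_eq_mul.1 h1.symm), one_mul, inv_one, mul_one] at hxt
    rw [← hxt]
    exact (mem_fieldPart.1 hf).2
  refine ⟨le_rfl, le_normalizer, by rw [relIndex_self]; exact odd_one,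
    le_inf (fun x hx => mem_of_pairStab (hT.le hx)) hT.le,
    fun d hd x hx => SEBrick.conj_mem_of (hT.norm (mem_inf.1 hd).2) hx, hT.comm,
    fun d hd hdT x hx e => ?_, hT.semi, hT.free, hT.trans⟩
  obtain ⟨s, hs, f, hf, rfl⟩ := exists_decomp hT ht₀H ht₀ (mem_inf.1 hd).2
  have hfx : Commute f x := by
    have h1 : Commute (s * f) x := e
    have h2 : Commute s⁻¹ x := (show Commute s x from hT.comm s hs x hx).inv_left
    simpa using h2.mul_left h1
  have hf1 : f ≠ 1 := fun e' => hdT (by rw [e', mul_one]; exact hs)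
  have heq : zpowers f = zpowers z := eq_of_le_of_card_ge (zpowers_le.2 (hall f hf)) (by
    obtain ⟨i, rfl⟩ := mem_zpowers_iff.1 (hall f hf)
    have hd' : orderOf (z ^ i) ∣ r := by
      rw [← hzr]
      exact orderOf_dvd_iff_pow_eq_one.2 (by rw [← zpow_natCast, ← zpow_mul, mul_comm, zpow_mul, zpow_natCast,
        pow_orderOf_eq_one, one_zpow])
    rw [Nat.card_zpowers, Nat.card_zpowers, hzr,
      ((Nat.dvd_prime hr).1 hd').resolve_left (mt orderOf_eq_one_iff.1 hf1)])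
  obtain ⟨j, hj⟩ := mem_zpowers_iff.1 (heq.symm ▸ mem_zpowers z : z ∈ zpowers f)
  exact h x hx (hj ▸ hfx.zpow_left j).eq

variable (hw : SETrans.Weak G (G ⧸ H) ((1 : G) : G ⧸ H))
include hw

/-- The local facts at an element of prime order of the field part centralising two involutions of `H`. -/
theorem local_at {z : G} (hz : z ∈ fieldPart b t₀) {r : ℕ} [hr : Fact r.Prime] (hzr : orderOf z = r)
    (hbig : ∃ x ∈ T, x ≠ 1 ∧ z * x = x * z) :
    (∀ y y' : G ⧸ H, y ≠ ((1 : G) : G ⧸ H) → y' ≠ ((1 : G) : G ⧸ H) → z • y = y → z • y' = y' →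
      ∃ q ∈ H, (∃ n : ℕ, q ^ 2 ^ n = 1) ∧ q * z = z * q ∧ q • y = y' ∧
        ∀ t ∈ H, orderOf t = 2 → z * t = t * z → q * t = t * q) ∧
    ∀ (l : ℕ) (Q : Subgroup G), l.Prime → l ≠ 2 → IsPGroup l Q → Q ≤ H → (∀ x ∈ Q, x * z = z * x) →
      ∃ y : G ⧸ H, y ≠ ((1 : G) : G ⧸ H) ∧ z • y = y ∧ Q ≤ stabilizer G y := by
  classical
  have hH := hS.se
  set a := ((1 : G) : G ⧸ H) with ha
  obtain ⟨hzD, hzt⟩ := mem_fieldPart.1 hz
  obtain ⟨hza, hzb⟩ := mem_pairStab.1 hzD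
  have hr2 : r ≠ 2 := fun e => by
    have := odd_of_mem_pairStab hH hab hzD
    rw [hzr, e] at this
    exact Nat.not_odd_iff_even.2 even_two this
  set V := zpowers z with hV
  have hVp : IsPGroup r V := IsPGroup.of_card (n := 1) (by rw [Nat.card_zpowers, hzr, pow_one])
  have hta : t₀ • a = a := SEBrick.fix_base_iff.2 ht₀H
  have h3 : FixesThree H V := by
    refine ⟨a, b, t₀ • b, hab, fun e => hab (Invol.se_fix_unique hH ht₀ hta e.symm), fun e => hab ?_,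
      zpowers_le.2 hza, zpowers_le.2 hzb, zpowers_le.2 (mem_stabilizer_iff.2 ?_)⟩
    · exact MulAction.injective t₀ (hta.trans e)
    · rw [← mul_smul, hzt, mul_smul, hzb]
  set X := centralizer ({z} : Set G) with hX
  have hmX : ∀ {g : G}, g ∈ X ↔ g * z = z * g := fun {g} => mem_centralizer_singleton_iff
  have ht₀X : t₀ ∈ X := hmX.2 hzt.symm
  have hlink : ∀ {y : G ⧸ H}, z • y = y → ∃ w : G, orderOf w = 2 ∧ w • y = y ∧ w ∈ X := by
    intro y hy
    obtain ⟨w, hw2, hwy, hwc⟩ := exists_invol_at_fixed hS hw hr2 hVp h3 (x := y) (zpowers_le.2 hy)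
    exact ⟨w, hw2, hwy, hmX.2 (hwc z (mem_zpowers z))⟩
  have hXlt : Nat.card X < Nat.card G := by
    refine lt_of_le_of_lt (card_le_of_le ?_) (card_normalizer_lt hS.core (W := V) (p := a) ?_
      (zpowers_le.2 hza))
    · refine fun g hg => SEBrick.mem_normalizer_of fun v hv => ?_
      obtain ⟨i, rfl⟩ := mem_zpowers_iff.1 hv
      rw [((show Commute g z from hmX.1 hg).zpow_right i).eq, mul_inv_cancel_right]
      exact zpow_mem (mem_zpowers z) i
    · rw [hV, Ne, zpowers_eq_bot]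
      intro e
      rw [e, orderOf_one] at hzr
      exact hr.out.one_lt.ne hzr
  obtain ⟨x, hx, hx1, hzx⟩ := hbig
  have hxX : x ∈ X := hmX.2 hzx.symm
  have hxH : x ∈ H := mem_of_pairStab (hT.le hx)
  set s := x * t₀ * x⁻¹ with hs
  have hsH : s ∈ H := mul_mem (mul_mem hxH ht₀H) (inv_mem hxH)
  have hs2 : orderOf s = 2 := (Invol.order_conj x t₀).trans ht₀
  have hst : t₀ ≠ s := fun e => hx1 (hT.free x hx t₀ ht₀H ht₀ (comm_of_conj_eq e.symm))
  have hpX : HasPair (H.subgroupOf X) := ⟨⟨t₀, ht₀X⟩, ⟨s, mul_mem (mul_mem hxX ht₀X) (inv_mem hxX)⟩,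
    ht₀H, hsH, by rwa [Subgroup.orderOf_mk], by rwa [Subgroup.orderOf_mk],
    fun e => hst (congrArg Subtype.val e), Subtype.ext (hc t₀ s ht₀H hsH ht₀ hs2)⟩
  obtain ⟨w, hw2, hwb, hwX⟩ := hlink hzb
  have hwa : w • a ≠ a := fun e => hab (Invol.se_fix_unique hH hw2 e hwb)
  have hse : Cfsg.IsStronglyEmbedded ((stabilizer G a).subgroupOf X) :=
    SESolv.se_sub (se_stab hH a) ht₀ hta ht₀X fun hle => hwa (hle hwX)
  have horb : ∀ {y : G ⧸ H}, z • y = y → ∃ g ∈ X, g • a = y := by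
    intro y hy
    obtain ⟨v, hv2, hvy, hvX⟩ := hlink hy
    obtain ⟨⟨g, hgX⟩, hg⟩ := isConj_iff.1 (Invol.se_isConj hse
      (by rwa [Subgroup.orderOf_mk] : orderOf (⟨t₀, ht₀X⟩ : X) = 2)
      (by rwa [Subgroup.orderOf_mk] : orderOf (⟨v, hvX⟩ : X) = 2))
    refine ⟨g, hgX, Invol.se_fix_unique hH hv2 ?_ hvy⟩
    rw [← show g * t₀ * g⁻¹ = v from congrArg Subtype.val hg]
    exact conj_smul_eq hta
  obtain ⟨E, hEH, hE⟩ := hpX.exists_four
  obtain ⟨K, hK⟩ := exists_localData hH hS.below hXlt (E := E.map X.subtype) (p := a)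
    (hE.map X.subtype X.subtype_injective.injOn) (map_subtype_le _)
    (by rintro _ ⟨e, he, rfl⟩; exact SEBrick.fix_base_iff.2 (hEH he)) ⟨w, hwX, hwa⟩
  have hfixX : ∀ {g : G}, g ∈ X → z • g • a = g • a := fun {g} hg => by
    rw [← mul_smul, ← hmX.1 hg, mul_smul, hza]
  have hfix : ∀ (l : ℕ) (Q : Subgroup G), l.Prime → l ≠ 2 → IsPGroup l Q → Q ≤ H → Q ≤ X →
      ∃ y : G ⧸ H, y ≠ a ∧ z • y = y ∧ Q ≤ stabilizer G y := by
    intro l Q hl hl2 hQ hQH hQX
    obtain ⟨g, hg, hga, hQg⟩ := hK.fixed l Q hl hl2 hQ hQX fun v hv => SEBrick.fix_base_iff.2 (hQH hv)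
    exact ⟨_, hga, hfixX hg, hQg⟩
  set M := X ⊓ H with hM
  have htr : ∀ {y y' : G ⧸ H}, y ≠ a → y' ≠ a → z • y = y → z • y' = y' → ∃ h ∈ M, h • y = y' := by
    intro y y' hy hy' hzy hzy'
    obtain ⟨g, hg, rfl⟩ := horb hzy
    obtain ⟨g', hg', rfl⟩ := horb hzy'
    obtain ⟨h, hhX, hha, hh⟩ := hK.trans g g' hg hg' hy hy'
    exact ⟨h, mem_inf.2 ⟨hhX, SEBrick.fix_base_iff.1 hha⟩, hh⟩
  -- a Sylow 2-subgroup is transitive
  haveI : Fact (Nat.Prime 2) := ⟨Nat.prime_two⟩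
  set B := (stabilizer G b).subgroupOf M with hB
  have hBodd : Odd (Nat.card B) := SEBrick.odd_card_of_orders fun d hd hd2 => hab
    (Invol.se_fix_unique hH (show orderOf ((d : M) : G) = 2 by rwa [Subgroup.orderOf_coe])
      (SEBrick.fix_base_iff.2 (mem_inf.1 (d : M).2).2) hd)
  obtain ⟨S⟩ : Nonempty (Sylow 2 M) := inferInstance
  have hcop : (Nat.card S).Coprime (Nat.card B) := by
    rw [S.card_eq_multiplicity]
    exact Nat.Coprime.pow_left _ (Nat.coprime_two_left.2 hBodd)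
  have hmul : Nat.card S * Nat.card B = Nat.card M := by
    refine Nat.eq_of_factorization_eq (Nat.mul_pos Nat.card_pos Nat.card_pos).ne' Nat.card_pos.ne' fun l => ?_
    rw [Nat.factorization_mul Nat.card_pos.ne' Nat.card_pos.ne', Finsupp.add_apply, S.card_eq_multiplicity,
      Nat.Prime.factorization_pow Nat.prime_two]
    by_cases hl2 : l = 2
    · subst hl2
      rw [Finsupp.single_eq_same, Nat.factorization_eq_zero_of_not_dvd (n := Nat.card B)
        (fun h => Nat.not_even_iff_odd.2 hBodd (even_iff_two_dvd.2 h)), add_zero]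
    rw [Finsupp.single_eq_of_ne hl2, zero_add]
    refine le_antisymm (factorization_le_of_dvd Nat.card_pos.ne' (card_subgroup_dvd_card B) l) ?_
    by_cases hl : l.Prime
    swap
    · rw [Nat.factorization_eq_zero_of_not_prime _ hl]; exact Nat.zero_le _
    haveI := Fact.mk hl
    obtain ⟨L⟩ : Nonempty (Sylow l M) := inferInstance
    obtain ⟨y, hy, hzy, hLy⟩ := hfix l ((L : Subgroup M).map M.subtype) hl hl2 (L.isPGroup'.map _)
      ((map_subtype_le _).trans inf_le_right) ((map_subtype_le _).trans inf_le_left)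
    obtain ⟨h, hh, hhy⟩ := htr hy hab.symm hzy hzb
    have hle : (L : Subgroup M).map (MulAut.conj (⟨h, hh⟩ : M)).toMonoidHom ≤ B := by
      rintro _ ⟨v, hv, rfl⟩
      rw [hB, mem_subgroupOf, mem_stabilizer_iff, ← hhy]
      exact conj_smul_eq (hLy (mem_map_of_mem _ hv))
    have h1 := factorization_le_of_dvd Nat.card_pos.ne' (card_dvd_of_le hle) l
    rwa [card_map_of_injective (f := (MulAut.conj (⟨h, hh⟩ : M)).toMonoidHom)
      (MulAut.conj (⟨h, hh⟩ : M)).injective, L.card_eq_multiplicity, Nat.Prime.factorization_pow hl,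
      Finsupp.single_eq_same] at h1
  have hcompl : (S : Subgroup M).IsComplement' B := isComplement'_of_card_mul_and_disjoint hmul
    (disjoint_iff.2 (inf_eq_bot_of_coprime hcop))
  have hS' : ∀ y : G ⧸ H, y ≠ a → z • y = y → ∃ q ∈ (S : Subgroup M), (q : G) • b = y := by
    intro y hy hzy
    obtain ⟨h, hh, rfl⟩ := htr hab.symm hy hzb hzy
    obtain ⟨⟨⟨q, hq⟩, ⟨k, hk⟩⟩, hqk⟩ := hcompl.2 ⟨h, hh⟩
    refine ⟨q, hq, ?_⟩
    rw [← show (q : G) * k = h from congrArg Subtype.val hqk, mul_smul, show (k : G) • b = b from hk]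
  refine ⟨fun y y' hy hy' hzy hzy' => ?_, fun l Q hl hl2 hQ hQH hQc =>
    hfix l Q hl hl2 hQ hQH fun v hv => hmX.2 (hQc v hv)⟩
  obtain ⟨q₁, hq₁, rfl⟩ := hS' y hy hzy
  obtain ⟨q₂, hq₂, rfl⟩ := hS' y' hy' hzy'
  set q : M := q₂ * q₁⁻¹ with hq
  obtain ⟨n, hn⟩ := IsPGroup.iff_orderOf.1 S.isPGroup' ⟨q, mul_mem hq₂ (inv_mem hq₁)⟩
  have hqn : (q : G) ^ 2 ^ n = 1 := by
    rw [← hn, Subgroup.orderOf_mk, ← Subgroup.orderOf_coe]; exact pow_orderOf_eq_one _
  obtain ⟨hqX, hqH⟩ := mem_inf.1 q.2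
  refine ⟨q, hqH, ⟨n, hqn⟩, hmX.1 hqX, ?_, fun t htH ht hzt' => ?_⟩
  · rw [hq, Subgroup.coe_mul, Subgroup.coe_inv, mul_smul, inv_smul_smul]
  obtain ⟨k, hk, hke⟩ := two_elements_centralize hH hS.below hXlt hpX
    ⟨w, hwX, fun h => hwa (SEBrick.fix_base_iff.2 h)⟩ hqX hqH hqn (hmX.2 hzt'.symm) htH ht
  have hs₀H : (q : G) * t * (q : G)⁻¹ ∈ H := mul_mem (mul_mem hqH htH) (inv_mem hqH)
  have hs₀2 : orderOf ((q : G) * t * (q : G)⁻¹) = 2 := (Invol.order_conj _ t).trans ht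
  set s₀ := (q : G) * t * (q : G)⁻¹
  have hk2 : k ^ 2 = 1 := by
    rw [← hke, pow_two]
    calc s₀ * t * (s₀ * t) = s₀ * (t * s₀) * t := by group
      _ = s₀ * s₀ * (t * t) := by rw [hc t s₀ htH hs₀H ht hs₀2]; group
      _ = 1 := by rw [Invol.mul_self hs₀2, Invol.mul_self ht, one_mul]
  rw [Invol.eq_one_of_sq_of_odd hk hk2, mul_eq_one_iff_eq_inv, Invol.inv_self ht] at hke
  exact comm_of_conj_eq hke

section Fusion

variable (hbig : ∀ z ∈ fieldPart b t₀, (orderOf z).Prime → ∃ x ∈ T, x ≠ 1 ∧ z * x = x * z)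
include hbig

/-- Fusion in `H` does not move the elements of prime power order of the field part. -/
theorem conj_field_eq {f h : G} (hf : f ∈ fieldPart b t₀) (hh : h ∈ H)
    (hf' : h * f * h⁻¹ ∈ fieldPart b t₀) {r k : ℕ} (hr : r.Prime) (hfr : orderOf f = r ^ (k + 1)) :
    h * f * h⁻¹ = f := by
  classical
  haveI := Fact.mk hr
  set a := ((1 : G) : G ⧸ H) with ha
  obtain ⟨z, hzdef⟩ : ∃ z, z = f ^ r ^ k := ⟨_, rfl⟩
  have hz : z ∈ fieldPart b t₀ := hzdef ▸ pow_mem hf _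
  have hzr : orderOf z = r := by
    rw [hzdef, orderOf_pow_of_dvd (pow_ne_zero _ hr.ne_zero) (by rw [hfr]; exact pow_dvd_pow r k.le_succ),
      hfr, pow_succ, Nat.mul_div_cancel_left _ (pow_pos hr.pos k)]
  obtain ⟨z', hz'def⟩ : ∃ z', z' = h * z * h⁻¹ := ⟨_, rfl⟩
  have hz' : z' ∈ fieldPart b t₀ := by rw [hz'def, hzdef, ← conj_pow]; exact pow_mem hf' _
  have hz'r : orderOf z' = r := by rw [hz'def]; exact (Invol.order_conj h z).trans hzr
  obtain ⟨hloc, -⟩ := local_at hT ht₀H ht₀ hc hker hS hab hw hz' hz'r (hbig z' hz' (hz'r ▸ hr))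
  have hha : h • a = a := SEBrick.fix_base_iff.2 hh
  have hhb : h • b ≠ a := fun e => hab (MulAction.injective h (e.trans hha.symm)).symm
  have hz'hb : z' • h • b = h • b := by
    rw [hz'def]; exact conj_smul_eq (mem_pairStab.1 (mem_fieldPart.1 hz).1).2
  obtain ⟨q, hqH, ⟨n, hqn⟩, hqz, hqb, hqc⟩ := hloc (h • b) b hhb hab.symm hz'hb
    (mem_pairStab.1 (mem_fieldPart.1 hz').1).2
  set d := q * h with hd
  have hdD : d ∈ pairStab a b := mem_pairStab.2
    ⟨SEBrick.fix_base_iff.2 (mul_mem hqH hh), by rw [hd, mul_smul, hqb]⟩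
  have hdz : d * z * d⁻¹ = z' := by
    calc d * z * d⁻¹ = q * (h * z * h⁻¹) * q⁻¹ := by rw [hd]; group
      _ = z' := by rw [← hz'def, hqz, mul_inv_cancel_right]
  have hzz : z' = z := eq_of_mem_field hT ht₀H ht₀ hz hz'
    (hdz ▸ commutator_mem_torus hT ht₀H ht₀ hc hker hdD (mem_fieldPart.1 hz).1)
  subst hzz
  set f' := h * f * h⁻¹ with hf'def
  have hf'' : d * f * d⁻¹ = q * f' * q⁻¹ := by rw [hd, hf'def]; group
  have hdf : d * f * d⁻¹ ∈ pairStab a b := mul_mem (mul_mem hdD (mem_fieldPart.1 hf).1) (inv_mem hdD)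
  have hact : ∀ t ∈ H, orderOf t = 2 → z' * t = t * z' → d * f * d⁻¹ * t * (d * f * d⁻¹)⁻¹ = f' * t * f'⁻¹ := by
    intro t htH ht hzt
    have hf'H : f' ∈ H := mem_of_pairStab (mem_fieldPart.1 hf').1
    have hqt : q⁻¹ * t * q = t := by rw [mul_assoc, ← hqc t htH ht hzt, inv_mul_cancel_left]
    have hzf : Commute z' f' := fieldPart_comm hT ht₀H ht₀ hc hker hz' hf'
    have h2 := hqc (f' * t * f'⁻¹) (mul_mem (mul_mem hf'H htH) (inv_mem hf'H))
      ((Invol.order_conj f' t).trans ht) ((hzf.mul_right hzt).mul_right hzf.inv_right).eq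
    rw [hf'']
    calc q * f' * q⁻¹ * t * (q * f' * q⁻¹)⁻¹ = q * (f' * (q⁻¹ * t * q) * f'⁻¹) * q⁻¹ := by group
      _ = _ := by rw [hqt, h2, mul_inv_cancel_right]
  have hdF : d * f * d⁻¹ ∈ fieldPart b t₀ := mem_fieldPart.2 ⟨hdf, comm_of_conj_eq (by
    rw [hact t₀ ht₀H ht₀ (mem_fieldPart.1 hz').2, mul_inv_eq_iff_eq_mul]
    exact (mem_fieldPart.1 hf').2)⟩
  have hdff : d * f * d⁻¹ = f := eq_of_mem_field hT ht₀H ht₀ hf hdF
    (commutator_mem_torus hT ht₀H ht₀ hc hker hdD (mem_fieldPart.1 hf).1)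
  obtain ⟨j, hj⟩ := mem_zpowers_iff.1 ((fieldPart_cyclic hT ht₀H ht₀ hc hker).2 z' hz' (f⁻¹ * f')
    (mul_mem (inv_mem hf) hf') fun t htH ht hzt => comm_of_conj_eq (by
      have h1 := hact t htH ht hzt
      rw [hdff] at h1
      calc f⁻¹ * f' * t * (f⁻¹ * f')⁻¹ = f⁻¹ * (f' * t * f'⁻¹) * f := by group
        _ = t := by rw [← h1]; group))
  have hqf : q * f * q⁻¹ = f * (z' ^ j)⁻¹ := by
    have h1 : q * (f * z' ^ j) * q⁻¹ = f := by
      rw [show f * z' ^ j = f' by rw [hj]; group, ← hf'', hdff]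
    have hqzj : Commute q (z' ^ j) := (show Commute q z' from hqz).zpow_right j
    calc q * f * q⁻¹ = q * (f * z' ^ j) * q⁻¹ * (q * (z' ^ j)⁻¹ * q⁻¹) := by group
      _ = _ := by rw [h1, (hqzj.inv_right).eq, mul_inv_cancel_right]
  have hiter : ∀ i : ℕ, q ^ i * f * (q ^ i)⁻¹ = f * ((z' ^ j)⁻¹) ^ i := by
    intro i
    induction i with
    | zero => simp
    | succ i ih =>
      have hqzj : Commute q (((z' ^ j)⁻¹) ^ i) :=
        (((show Commute q z' from hqz).zpow_right j).inv_right).pow_right i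
      calc q ^ (i + 1) * f * (q ^ (i + 1))⁻¹ = q * (q ^ i * f * (q ^ i)⁻¹) * q⁻¹ := by
            rw [pow_succ']; group
        _ = q * f * (((z' ^ j)⁻¹) ^ i * q⁻¹) := by rw [ih]; group
        _ = q * f * q⁻¹ * ((z' ^ j)⁻¹) ^ i := by rw [(hqzj.inv_left).eq.symm]; group
        _ = _ := by rw [hqf, pow_succ']; group
  have h1 := hiter (2 ^ n)
  rw [hqn, one_mul, inv_one, mul_one, left_eq_mul] at h1
  have hzj : z' ^ j = 1 := by
    have h2 : orderOf (z' ^ j)⁻¹ ∣ 2 ^ n := orderOf_dvd_of_pow_eq_one h1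
    obtain ⟨i, -, hi⟩ := (Nat.dvd_prime_pow Nat.prime_two).1 h2
    have h3 : Odd (orderOf (z' ^ j)⁻¹) := odd_of_mem_pairStab hS.se hab
      (inv_mem (zpow_mem (mem_fieldPart.1 hz').1 j))
    rw [hi] at h3
    rcases Nat.eq_zero_or_pos i with rfl | hpos
    · exact inv_eq_one.1 (orderOf_eq_one_iff.1 (hi.trans (pow_zero 2)))
    · exact absurd (Nat.even_pow.2 ⟨even_two, hpos.ne'⟩) (Nat.not_even_iff_odd.2 h3)
  rw [hj, inv_mul_eq_one] at hzj
  exact hzj.symm

/-- Fusion in `H` is trivial modulo the torus, for elements of prime power order. -/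
theorem conj_mem_torus_pow {x h : G} (hx : x ∈ pairStab ((1 : G) : G ⧸ H) b) (hh : h ∈ H)
    (hx' : h * x * h⁻¹ ∈ pairStab ((1 : G) : G ⧸ H) b) {r k : ℕ} [hr : Fact r.Prime]
    (hxr : orderOf x = r ^ k) : h * x * h⁻¹ * x⁻¹ ∈ T := by
  classical
  set a := ((1 : G) : G ⧸ H) with ha
  rcases Nat.eq_zero_or_pos k with rfl | hk
  · rw [pow_zero, orderOf_eq_one_iff] at hxr
    rw [hxr]; simp
  have hr2 : r ≠ 2 := fun e => by
    have := odd_of_mem_pairStab hS.se hab hx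
    rw [hxr, e] at this
    exact Nat.not_odd_iff_even.2 (Nat.even_pow.2 ⟨even_two, hk.ne'⟩) this
  have hha : h • a = a := SEBrick.fix_base_iff.2 hh
  obtain ⟨hxa, hxb⟩ := mem_pairStab.1 hx
  by_cases h3 : FixesThree H (zpowers x)
  swap
  · have hyb : h⁻¹ • b = b := by
      have hfix : x • h⁻¹ • b = h⁻¹ • b := by
        rw [eq_inv_smul_iff, ← mul_smul, ← mul_smul]; exact (mem_pairStab.1 hx').2
      by_contra hne
      refine h3 ⟨a, b, h⁻¹ • b, hab, fun e => hne e.symm, fun e => hab ?_, zpowers_le.2 hxa,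
        zpowers_le.2 hxb, zpowers_le.2 hfix⟩
      rw [eq_inv_smul_iff, hha] at e
      exact e
    exact commutator_mem_torus hT ht₀H ht₀ hc hker
      (mem_pairStab.2 ⟨hha, (inv_smul_eq_iff.1 hyb).symm⟩) hx
  obtain ⟨w, hw2, hwa, hwx⟩ := exists_invol_at_fixed hS hw hr2
    (IsPGroup.of_card (n := k) (by rw [Nat.card_zpowers, hxr])) h3 (x := a) (zpowers_le.2 hxa)
  have hwH : w ∈ H := SEBrick.fix_base_iff.1 hwa
  have hto : ∀ {y v : G}, y ∈ pairStab a b → v ∈ H → orderOf v = 2 → v * y = y * v →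
      ∃ s ∈ T, s * y * s⁻¹ ∈ fieldPart b t₀ := by
    intro y v hy hvH hv hvy
    obtain ⟨s, hs, hst⟩ := hT.trans v t₀ hvH ht₀H hv ht₀
    refine ⟨s, hs, mem_fieldPart.2 ⟨mul_mem (mul_mem (hT.le hs) hy) (inv_mem (hT.le hs)), ?_⟩⟩
    rw [← hst]
    calc s * y * s⁻¹ * (s * v * s⁻¹) = s * (y * v) * s⁻¹ := by group
      _ = s * (v * y) * s⁻¹ := by rw [hvy]
      _ = _ := by group
  obtain ⟨s, hs, hsf⟩ := hto hx hwH hw2 (hwx x (mem_zpowers x))
  have hwx' : h * w * h⁻¹ * (h * x * h⁻¹) = h * x * h⁻¹ * (h * w * h⁻¹) := by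
    calc h * w * h⁻¹ * (h * x * h⁻¹) = h * (w * x) * h⁻¹ := by group
      _ = h * (x * w) * h⁻¹ := by rw [hwx x (mem_zpowers x)]
      _ = _ := by group
  obtain ⟨s', hs', hsf'⟩ := hto hx' (mul_mem (mul_mem hh hwH) (inv_mem hh))
    ((Invol.order_conj h w).trans hw2) hwx'
  have hTH : ∀ {v}, v ∈ T → v ∈ H := fun {v} hv => mem_of_pairStab (hT.le hv)
  have e1 : s' * h * s⁻¹ * (s * x * s⁻¹) * (s' * h * s⁻¹)⁻¹ = s' * (h * x * h⁻¹) * s'⁻¹ := by group
  obtain ⟨k', rfl⟩ := Nat.exists_eq_succ_of_ne_zero hk.ne'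
  have h1 := conj_field_eq hT ht₀H ht₀ hc hker hS hab hw hbig hsf
    (mul_mem (mul_mem (hTH hs') hh) (inv_mem (hTH hs))) (e1 ▸ hsf') hr.out
    (by rw [Invol.order_conj]; exact hxr)
  rw [e1] at h1
  have h2 : h * x * h⁻¹ * x⁻¹ = s'⁻¹ * s * (x * (s⁻¹ * s') * x⁻¹) := by
    calc h * x * h⁻¹ * x⁻¹ = s'⁻¹ * (s' * (h * x * h⁻¹) * s'⁻¹) * s' * x⁻¹ := by group
      _ = _ := by rw [h1]; group
  rw [h2]
  exact mul_mem (mul_mem (inv_mem hs') hs)
    (SEBrick.conj_mem_of (hT.norm hx) (mul_mem (inv_mem hs) hs'))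

/-- Fusion in `H` is trivial modulo the torus. -/
theorem conj_mem_torus {x h : G} (hx : x ∈ pairStab ((1 : G) : G ⧸ H) b) (hh : h ∈ H)
    (hx' : h * x * h⁻¹ ∈ pairStab ((1 : G) : G ⧸ H) b) : h * x * h⁻¹ * x⁻¹ ∈ T := by
  classical
  suffices H' : ∀ n : ℕ, 0 < n → ∀ x : G, x ∈ pairStab ((1 : G) : G ⧸ H) b → x ^ n = 1 →
      h * x * h⁻¹ ∈ pairStab ((1 : G) : G ⧸ H) b → h * x * h⁻¹ * x⁻¹ ∈ T from
    H' _ (orderOf_pos x) x hx (pow_orderOf_eq_one x) hx'
  intro n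
  induction n using Nat.recOnPrimeCoprime with
  | zero => intro h0; exact absurd h0 (lt_irrefl 0)
  | prime_pow p m hp =>
    intro _ x hx hxn hx'
    haveI := Fact.mk hp
    obtain ⟨i, -, hi⟩ := (Nat.dvd_prime_pow hp).1 (orderOf_dvd_of_pow_eq_one hxn)
    exact conj_mem_torus_pow hT ht₀H ht₀ hc hker hS hab hw hbig hx hh hx' hi
  | coprime m n hm hn hmn ihm ihn =>
    intro _ x hx hxn hx'
    have hbez := Nat.gcd_eq_gcd_ab m n
    rw [hmn.gcd_eq_one, Nat.cast_one] at hbez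
    have hconj : ∀ i : ℤ, h * x ^ i * h⁻¹ ∈ pairStab ((1 : G) : G ⧸ H) b := fun i => by
      rw [← conj_zpow]; exact zpow_mem hx' i
    have hpow : ∀ (p q : ℕ) (c : ℤ), p * q = m * n → (x ^ ((p : ℤ) * c)) ^ q = 1 := by
      intro p q c hpq
      rw [← zpow_natCast, ← zpow_mul,
        show (p : ℤ) * c * q = ((m * n : ℕ) : ℤ) * c by rw [← hpq, Nat.cast_mul]; ring,
        zpow_mul, zpow_natCast, hxn, one_zpow]
    have hu := ihn (by omega) (x ^ ((m : ℤ) * m.gcdA n)) (zpow_mem hx _) (hpow m n _ rfl) (hconj _)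
    have hv := ihm (by omega) (x ^ ((n : ℤ) * m.gcdB n)) (zpow_mem hx _)
      (hpow n m _ (mul_comm n m)) (hconj _)
    set u := x ^ ((m : ℤ) * m.gcdA n)
    set v := x ^ ((n : ℤ) * m.gcdB n)
    have hxe : x = u * v := by rw [← zpow_add, ← hbez, zpow_one]
    have huv : Commute u v := (Commute.refl x).zpow_zpow _ _
    have e : h * x * h⁻¹ * x⁻¹ = h * u * h⁻¹ * u⁻¹ * (u * (h * v * h⁻¹ * v⁻¹) * u⁻¹) := by
      rw [hxe]; group
    rw [e]
    exact mul_mem hu (SEBrick.conj_mem_of (hT.norm (zpow_mem hx _)) hv)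

/-- The order of the field part is prime to the index of the stabiliser of the pair in `H`. -/
theorem not_dvd_relIndex {r : ℕ} (hr : r.Prime) (hrF : r ∣ Nat.card (fieldPart b t₀)) :
    ¬ r ∣ (pairStab ((1 : G) : G ⧸ H) b).relIndex H := by
  classical
  haveI := Fact.mk hr
  intro hdvd
  have hH := hS.se
  set a := ((1 : G) : G ⧸ H) with ha
  set D := pairStab a b with hD
  have hDH : D ≤ H := fun x hx => mem_of_pairStab hx
  have hrD : r ∣ Nat.card D :=
    hrF.trans (card_dvd_of_le (fun x hx => (mem_fieldPart.1 hx).1))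
  have hr2 : r ≠ 2 := fun e => Nat.not_even_iff_odd.2 (pairStab_odd hH hab)
    (even_iff_two_dvd.2 (e ▸ hrD))
  obtain ⟨SR⟩ : Nonempty (Sylow r D) := inferInstance
  set R := (SR : Subgroup D).map D.subtype with hR
  have hRD : R ≤ D := map_subtype_le _
  have hRp : IsPGroup r R := SR.isPGroup'.map _
  have hRcard : Nat.card R = r ^ (Nat.card D).factorization r := CoprimeAct.card_map_sylow SR
  obtain ⟨P, hP⟩ := (hRp.comap_subtype (K := H) : IsPGroup r (R.subgroupOf H)).exists_le_sylow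
  set P' := (P : Subgroup H).map H.subtype with hP'
  have hRP : R ≤ P' := fun x hx => ⟨⟨x, hDH (hRD hx)⟩, hP hx, rfl⟩
  have hne : P' ≠ R := fun e => by
    have h1 : Nat.card P' = r ^ (Nat.card H).factorization r := CoprimeAct.card_map_sylow P
    have h2 : Nat.card D * D.relIndex H = Nat.card H := by
      rw [relIndex, ← Nat.card_congr (subgroupOfEquivOfLe hDH).toEquiv]
      exact card_mul_index _
    have h3 : D.relIndex H ≠ 0 := fun h0 => by rw [h0, mul_zero] at h2; exact Nat.card_pos.ne h2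
    rw [e, hRcard, ← h2, Nat.factorization_mul Nat.card_pos.ne' h3, Finsupp.add_apply] at h1
    have h4 := Nat.pow_right_injective hr.two_le h1
    have h5 := hr.factorization_pos_of_dvd h3 hdvd
    omega
  obtain ⟨g, hgP, hgN, hgR⟩ := exists_normalizer_gt (P.isPGroup'.map H.subtype) hRP hne
  have hgH : g ∈ H := map_subtype_le _ hgP
  have hga : g • a = a := SEBrick.fix_base_iff.2 hgH
  have hbig' : ∀ (Q : Subgroup G), IsPGroup r Q → Q ≤ D → Nat.card Q ≤ Nat.card R := by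
    intro Q hQ hQD
    obtain ⟨j, hj⟩ := IsPGroup.iff_card.1 hQ
    rw [hRcard, hj]
    exact Nat.pow_le_pow_right hr.pos
      ((hr.pow_dvd_iff_le_factorization Nat.card_pos.ne').1 (hj ▸ card_dvd_of_le hQD))
  have hlt : Nat.card R < Nat.card (R ⊔ zpowers g : Subgroup G) :=
    lt_of_le_of_ne (card_le_of_le le_sup_left) fun e =>
      hgR ((eq_of_le_of_card_ge le_sup_left e.ge) ▸ mem_sup_right (mem_zpowers g))
  have hQp : IsPGroup r (R ⊔ zpowers g : Subgroup G) :=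
    (P.isPGroup'.map H.subtype).to_le (sup_le hRP (zpowers_le.2 hgP))
  have hRa : R ≤ stabilizer G a := fun x hx => (mem_inf.1 (hRD hx)).1
  have hRb : R ≤ stabilizer G b := fun x hx => (mem_inf.1 (hRD hx)).2
  by_cases h3 : FixesThree H R
  swap
  · have hgb : g • b = b := by
      by_contra hgb
      refine h3 ⟨a, b, g • b, hab, Ne.symm hgb, fun e => hab ?_, hRa, hRb, le_stabilizer_smul hgN hRb⟩
      exact MulAction.injective g (hga.trans e)
    exact hlt.not_ge (hbig' _ hQp (sup_le hRD (zpowers_le.2 (mem_pairStab.2 ⟨hga, hgb⟩))))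
  obtain ⟨w, hw2, hwa, hwc⟩ := exists_invol_at_fixed hS hw hr2 hRp h3 (x := a) hRa
  obtain ⟨s, hs, hst⟩ := hT.trans w t₀ (SEBrick.fix_base_iff.1 hwa) ht₀H hw2 ht₀
  have hsH : s ∈ H := mem_of_pairStab (hT.le hs)
  have hR'F : ∀ x ∈ R, s * x * s⁻¹ ∈ fieldPart b t₀ := fun x hx => mem_fieldPart.2
    ⟨mul_mem (mul_mem (hT.le hs) (hRD hx)) (inv_mem (hT.le hs)), by
      rw [← hst]
      calc s * x * s⁻¹ * (s * w * s⁻¹) = s * (x * w) * s⁻¹ := by group
        _ = s * (w * x) * s⁻¹ := by rw [hwc x hx]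
        _ = _ := by group⟩
  have hR1 : r ∣ Nat.card R := by
    rw [hRcard]; exact dvd_pow_self r (hr.factorization_pos_of_dvd Nat.card_pos.ne' hrD).ne'
  obtain ⟨⟨z₁, hz₁⟩, hz₁r⟩ := exists_prime_orderOf_dvd_card' r hR1
  rw [Subgroup.orderOf_mk] at hz₁r
  set z := s * z₁ * s⁻¹ with hz
  have hzF : z ∈ fieldPart b t₀ := hR'F z₁ hz₁
  have hzr : orderOf z = r := (Invol.order_conj s z₁).trans hz₁r
  set g' := s * g * s⁻¹ with hg'
  have hgz : g' * z * g'⁻¹ ∈ fieldPart b t₀ := by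
    rw [show g' * z * g'⁻¹ = s * (g * z₁ * g⁻¹) * s⁻¹ by rw [hg', hz]; group]
    exact hR'F _ (SEBrick.conj_mem_of hgN hz₁)
  have hfix : g' * z * g'⁻¹ = z := eq_of_mem_field hT ht₀H ht₀ hzF hgz
    (conj_mem_torus hT ht₀H ht₀ hc hker hS hab hw hbig (mem_fieldPart.1 hzF).1
      (mul_mem (mul_mem hsH hgH) (inv_mem hsH)) (mem_fieldPart.1 hgz).1)
  set Q := (R ⊔ zpowers g : Subgroup G).map (MulAut.conj s).toMonoidHom with hQ
  have hQH : Q ≤ H := by
    rintro _ ⟨x, hx, rfl⟩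
    exact mul_mem (mul_mem hsH (sup_le (hRD.trans hDH) (zpowers_le.2 hgH) hx)) (inv_mem hsH)
  have hQc : ∀ x ∈ Q, x * z = z * x := by
    have hle : Q ≤ centralizer ({z} : Set G) := by
      rw [hQ, Subgroup.map_sup, MonoidHom.map_zpowers]
      refine sup_le ?_ (zpowers_le.2 (mem_centralizer_singleton_iff.2 (comm_of_conj_eq hfix)))
      rintro _ ⟨x, hx, rfl⟩
      exact mem_centralizer_singleton_iff.2 (fieldPart_comm hT ht₀H ht₀ hc hker (hR'F x hx) hzF)
    exact fun x hx => mem_centralizer_singleton_iff.1 (hle hx)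
  obtain ⟨hloc, hfixp⟩ := local_at hT ht₀H ht₀ hc hker hS hab hw hzF hzr (hbig z hzF (hzr ▸ hr))
  obtain ⟨y, hy, hzy, hQy⟩ := hfixp r Q hr hr2 (hQp.map _) hQH hQc
  obtain ⟨q, hqH, -, -, hqy, -⟩ := hloc y b hy hab.symm hzy (mem_pairStab.1 (mem_fieldPart.1 hzF).1).2
  have h1 := hbig' (Q.map (MulAut.conj q).toMonoidHom) ((hQp.map _).map _) (by
    rintro _ ⟨x, hx, rfl⟩
    refine mem_pairStab.2 ⟨SEBrick.fix_base_iff.2 (mul_mem (mul_mem hqH (hQH hx)) (inv_mem hqH)), ?_⟩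
    rw [← hqy]
    exact conj_smul_eq (hQy hx))
  rw [card_map_of_injective (f := (MulAut.conj q).toMonoidHom) (MulAut.conj q).injective, hQ,
    card_map_of_injective (f := (MulAut.conj s).toMonoidHom) (MulAut.conj s).injective] at h1
  exact hlt.not_ge h1

end Fusion

end Field

end Cfsg.Agent.SEMain
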