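import Cfsg.Agent.Lib.SEMain.OddEnd
import Cfsg.Agent.Lib.SEMain.ThreeCentral
import Cfsg.Agent.Lib.Extraspecial.ExpSq
import Mathlib.GroupTheory.PGroup

/-!
# The torus on a pair

Where no non-trivial element of a two-point stabiliser at the base point centralises all involutions of
`H`, the stabiliser has a normal abelian subgroup inverted by a swapper and regular on these involutions.
-/

set_option autoImplicit false
set_option linter.style.haveILetI false
set_option linter.unusedSectionVars false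

namespace Cfsg.Agent.SEMain

open Subgroup MulAction
open scoped commutatorElement

universe u

variable {G : Type u} [Group G] [Finite G] {H : Subgroup G}

/-- An abelian normal subgroup of the stabiliser of a pair, regular on the involutions of `H`. -/
structure TorusData (H : Subgroup G) (b : G ⧸ H) (T : Subgroup G) : Prop where
  le : T ≤ pairStab ((1 : G) : G ⧸ H) b
  norm : pairStab ((1 : G) : G ⧸ H) b ≤ normalizer (T : Set G)
  comm : ∀ x ∈ T, ∀ y ∈ T, x * y = y * x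
  semi : ∀ x ∈ T, x ≠ 1 → ∀ f : G ⧸ H, x • f = f → f = ((1 : G) : G ⧸ H) ∨ f = b
  free : ∀ x ∈ T, ∀ t ∈ H, orderOf t = 2 → x * t = t * x → x = 1
  trans : ∀ s t : G, s ∈ H → t ∈ H → orderOf s = 2 → orderOf t = 2 → ∃ x ∈ T, x * s * x⁻¹ = t

theorem mem_normalizer_centralizer' {A : Subgroup G} {g : G} (hg : g ∈ normalizer (A : Set G)) :
    g ∈ normalizer (centralizer (A : Set G) : Set G) :=
  SEBrick.mem_normalizer_of fun x hx => mem_centralizer_iff.2 fun y hy => by
    have h1 := mem_centralizer_iff.1 hx (g⁻¹ * y * g) (by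
      have := SEBrick.conj_mem_of (inv_mem hg) hy
      rwa [inv_inv] at this)
    calc y * (g * x * g⁻¹) = g * (g⁻¹ * y * g * x) * g⁻¹ := by group
      _ = g * (x * (g⁻¹ * y * g)) * g⁻¹ := by rw [h1]
      _ = g * x * g⁻¹ * y := by group

theorem mem_normalizer_inf' {A B : Subgroup G} {g : G} (hA : g ∈ normalizer (A : Set G))
    (hB : g ∈ normalizer (B : Set G)) : g ∈ normalizer ((A ⊓ B : Subgroup G) : Set G) :=
  SEBrick.mem_normalizer_of fun _ hx => mem_inf.2
    ⟨SEBrick.conj_mem_of hA (mem_inf.1 hx).1, SEBrick.conj_mem_of hB (mem_inf.1 hx).2⟩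

theorem map_conj_le_of_mem_normalizer {A : Subgroup G} {g : G} (hg : g ∈ normalizer (A : Set G)) :
    A.map (MulAut.conj g).toMonoidHom ≤ A := by
  rintro _ ⟨x, hx, rfl⟩
  exact SEBrick.conj_mem_of hg hx

theorem mem_normalizer_sup' {A B : Subgroup G} {g : G} (hA : g ∈ normalizer (A : Set G))
    (hB : g ∈ normalizer (B : Set G)) : g ∈ normalizer ((A ⊔ B : Subgroup G) : Set G) := by
  refine SEBrick.mem_normalizer_of fun x hx => ?_
  have h1 := mem_map_of_mem (MulAut.conj g).toMonoidHom hx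
  rw [Subgroup.map_sup] at h1
  exact sup_le_sup (map_conj_le_of_mem_normalizer hA) (map_conj_le_of_mem_normalizer hB) h1

/-- An `r`-group free on the involutions of `H` is cyclic. -/
theorem isCyclic_of_free (hH : Cfsg.IsStronglyEmbedded H) (hc : InvComm H) {r : ℕ} [Fact r.Prime]
    (hr : r ≠ 2) {P : Subgroup G} (hPH : P ≤ H) (hP : IsPGroup r P)
    (hfree : ∀ x ∈ P, ∀ t ∈ H, orderOf t = 2 → x * t = t * x → x = 1) : IsCyclic P := by
  obtain ⟨t, htH, ht⟩ := Invol.exists_invol hH.2.1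
  haveI : Nontrivial (invSub H hc) := ⟨⟨⟨⟨t, htH⟩, Subtype.ext (Invol.mul_self ht)⟩, 1,
    fun h => Invol.ne_one ht (congrArg (fun z : invSub H hc => ((z : H) : G)) h)⟩⟩
  refine CN.isCyclic_of_fpf hP hr ((invAct hc).comp (inclusion hPH)) fun x hx e he => ?_
  by_contra he1
  exact hx (Subtype.ext (hfree x x.2 _ (e : H).2 (order_of_mem_invSub he1) (invAct_eq_self.1 he)))

variable {b : G ⧸ H}

/-- An inverted element of the stabiliser of the pair is free on the involutions of `H`. -/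
theorem free_of_inverted (hH : Cfsg.IsStronglyEmbedded H) (hab : ((1 : G) : G ⧸ H) ≠ b) {u : G}
    (hu : orderOf u = 2) (hua : u • ((1 : G) : G ⧸ H) = b) {d : G}
    (hd : d ∈ pairStab ((1 : G) : G ⧸ H) b) (hinv : u * d * u⁻¹ = d⁻¹) {t : G} (htH : t ∈ H)
    (ht : orderOf t = 2) (hdt : d * t = t * d) : d = 1 := by
  by_contra hd1
  obtain ⟨c, hc⟩ := Invol.se_exists_fix hH hu
  exact (centre_ne hH hab hu hua hc).1 (klemma hH hu ht (odd_of_mem_pairStab hH hab hd) hd1 hinv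
    hdt.symm hc (SEBrick.fix_base_iff.2 htH))

/-- An element of prime order fixed by the swapper commutes with an involution of `H`. -/
theorem exists_comm_invol_of_fixed (hS : Setting H) (hw : SETrans.Weak G (G ⧸ H) ((1 : G) : G ⧸ H))
    (hab : ((1 : G) : G ⧸ H) ≠ b) {u : G} (hu : orderOf u = 2) (hua : u • ((1 : G) : G ⧸ H) = b) {d : G}
    (hd : d ∈ pairStab ((1 : G) : G ⧸ H) b) {p : ℕ} [hp : Fact p.Prime] (hdp : orderOf d = p)
    (hdu : d * u = u * d) : ∃ t ∈ H, orderOf t = 2 ∧ d * t = t * d := by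
  have hH := hS.se
  obtain ⟨c, hc⟩ := Invol.se_exists_fix hH hu
  have hp2 : p ≠ 2 := fun e => by
    have := odd_of_mem_pairStab hH hab hd
    rw [hdp, e] at this
    exact Nat.not_odd_iff_even.2 even_two this
  have hdc : d • c = c := mem_stabilizer_iff.1 (centralizer_le_centre hH hu hc
    (mem_inf.2 ⟨hd, mem_centralizer_singleton_iff.2 hdu⟩))
  obtain ⟨hda, hdb⟩ := mem_pairStab.1 hd
  have hP : IsPGroup p (zpowers d) := IsPGroup.of_card (n := 1) (by rw [Nat.card_zpowers, hdp, pow_one])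
  have h3 : FixesThree H (zpowers d) := ⟨((1 : G) : G ⧸ H), b, c, hab, (centre_ne hH hab hu hua hc).2,
    (centre_ne hH hab hu hua hc).1, zpowers_le.2 hda, zpowers_le.2 hdb, zpowers_le.2 hdc⟩
  obtain ⟨w, hw2, hwa, hwc⟩ := exists_invol_at_fixed hS hw hp2 hP h3
    (x := ((1 : G) : G ⧸ H)) (zpowers_le.2 hda)
  exact ⟨w, SEBrick.fix_base_iff.1 hwa, hw2, (hwc d (mem_zpowers d)).symm⟩

section Kernel

variable (hH : Cfsg.IsStronglyEmbedded H) (hc : InvComm H) (hab : ((1 : G) : G ⧸ H) ≠ b)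
  (hker : ∀ d ∈ pairStab ((1 : G) : G ⧸ H) b, d ∈ SERegular.invCent H → d = 1)
include hH hc hab hker

/-- An abelian normal subgroup of the stabiliser of the pair is free on the involutions of `H`. -/
theorem free_of_abelian {A : Subgroup G} (hA : A ≤ pairStab ((1 : G) : G ⧸ H) b)
    (hcA : ∀ x ∈ A, ∀ y ∈ A, x * y = y * x)
    (hAn : pairStab ((1 : G) : G ⧸ H) b ≤ normalizer (A : Set G)) {d t : G} (hd : d ∈ A) (htH : t ∈ H)
    (ht : orderOf t = 2) (hdt : d * t = t * d) : d = 1 := by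
  classical
  have hDH : ∀ {x}, x ∈ pairStab ((1 : G) : G ⧸ H) b → x ∈ H := fun {x} hx =>
    SEBrick.fix_base_iff.1 (mem_pairStab.1 hx).1
  let K : G → Subgroup G := fun e => A ⊓ centralizer ({e} : Set G)
  have hK : ∀ {k e : G}, k ∈ K e ↔ k ∈ A ∧ k * e = e * k := fun {k e} => by
    rw [mem_inf, mem_centralizer_singleton_iff]
  have hcard : ∀ {s e : G}, s ∈ H → e ∈ H → orderOf s = 2 → orderOf e = 2 →
      Nat.card (K s) ≤ Nat.card (K e) := by
    intro s e hsH heH hs he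
    obtain ⟨g, hg, hge⟩ := pairStab_trans hH hab hs (SEBrick.fix_base_iff.2 hsH) he
      (SEBrick.fix_base_iff.2 heH)
    rw [← card_map_of_injective (f := (MulAut.conj g).toMonoidHom) (K := K s) (MulAut.conj g).injective]
    refine card_le_of_le ?_
    rintro _ ⟨k, hk, rfl⟩
    obtain ⟨hkA, hks⟩ := hK.1 hk
    refine hK.2 ⟨SEBrick.conj_mem_of (hAn hg) hkA, ?_⟩
    show g * k * g⁻¹ * e = e * (g * k * g⁻¹)
    rw [← hge]
    calc g * k * g⁻¹ * (g * s * g⁻¹) = g * (k * s) * g⁻¹ := by group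
      _ = g * (s * k) * g⁻¹ := by rw [hks]
      _ = _ := by group
  have heq : ∀ {s e : G}, s ∈ H → e ∈ H → orderOf s = 2 → orderOf e = 2 → K s ≤ K e → K s = K e :=
    fun hsH heH hs he hle => eq_of_le_of_card_ge hle (hcard heH hsH he hs)
  refine hker d (hA hd) (mem_inf.2 ⟨hDH (hA hd), mem_centralizer_iff.2 fun t₃ ht₃ => ?_⟩)
  obtain ⟨ht₃2, ht₃H⟩ := ht₃
  by_contra hne
  set s' := d * t₃ * d⁻¹ with hs'
  have hs'H : s' ∈ H := mul_mem (mul_mem (hDH (hA hd)) ht₃H) (inv_mem (hDH (hA hd)))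
  have hs'2 : orderOf s' = 2 := (Invol.order_conj d t₃).trans ht₃2
  have hprod : ∀ {x y : G}, x ∈ H → y ∈ H → orderOf x = 2 → orderOf y = 2 → x ≠ y →
      orderOf (x * y) = 2 := by
    intro x y hxH hyH hx hy hxy
    refine Invol.order_two_of_sq ?_ fun h => hxy ?_
    · rw [show x * y * (x * y) = x * (y * x) * y by group, hc y x hyH hxH hy hx,
        show x * (x * y) * y = x * x * (y * y) by group, Invol.mul_self hx, Invol.mul_self hy, mul_one]
    · rw [mul_eq_one_iff_eq_inv, Invol.inv_self hy] at h; exact h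
  have hdne : s' ≠ t₃ := fun h => hne (mul_inv_eq_iff_eq_mul.1 h).symm
  set t₄ := t₃ * s' with ht₄
  have ht₄H : t₄ ∈ H := mul_mem ht₃H hs'H
  have ht₄2 : orderOf t₄ = 2 := hprod ht₃H hs'H ht₃2 hs'2 hdne.symm
  -- what centralises `e` centralises its product with its conjugate by `d`
  have hle : ∀ {e : G}, K e ≤ K (e * (d * e * d⁻¹)) := by
    intro e k hk
    obtain ⟨hkA, hke⟩ := hK.1 hk
    have hkd : k * d = d * k := hcA k hkA d hd
    have h1 : Commute k (e * (d * e * d⁻¹)) :=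
      Commute.mul_right hke ((Commute.mul_right hkd hke).mul_right (Commute.inv_right hkd))
    exact hK.2 ⟨hkA, h1.eq⟩
  have h34 : K t₃ = K t₄ := heq ht₃H ht₄H ht₃2 ht₄2 hle
  have htne : t ≠ t₃ := fun h => hne (h ▸ hdt).symm
  set s := t * t₃ with hs
  have hsH : s ∈ H := mul_mem htH ht₃H
  have hs2 : orderOf s = 2 := hprod htH ht₃H ht ht₃2 htne
  have hst : s * (d * s * d⁻¹) = t₄ := by
    have h1 : d * s * d⁻¹ = t * s' := by
      rw [hs, hs', ← mul_assoc, hdt]; group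
    rw [h1]
    calc s * (t * s') = t * (t₃ * t) * s' := by rw [hs]; group
      _ = t * (t * t₃) * s' := by rw [hc t₃ t ht₃H htH ht₃2 ht]
      _ = t * t * (t₃ * s') := by group
      _ = t₄ := by rw [Invol.mul_self ht, one_mul]
  have hs4 : K s = K t₄ := heq hsH ht₄H hs2 ht₄2 (hst ▸ hle)
  have h3t : K t₃ ≤ K t := by
    intro k hk
    obtain ⟨hkA, hk3⟩ := hK.1 hk
    have hks : k * s = s * k := (hK.1 (show k ∈ K s by rw [hs4, ← h34]; exact hk)).2
    refine hK.2 ⟨hkA, ?_⟩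
    have h1 : Commute k (s * t₃) := Commute.mul_right hks hk3
    rwa [hs, mul_assoc, Invol.mul_self ht₃2, mul_one] at h1
  have hmem : d ∈ K t₃ := by rw [heq ht₃H htH ht₃2 ht h3t]; exact hK.2 ⟨hd, hdt⟩
  exact hne (hK.1 hmem).2.symm

end Kernel

section Torus

variable (hS : Setting H) (hw : SETrans.Weak G (G ⧸ H) ((1 : G) : G ⧸ H)) (hc : InvComm H)
  (hab : ((1 : G) : G ⧸ H) ≠ b)
  (hker : ∀ d ∈ pairStab ((1 : G) : G ⧸ H) b, d ∈ SERegular.invCent H → d = 1)
include hS hw hc hab hker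

/-- An abelian subgroup normalised by the stabiliser of the pair and a swapper is inverted by it. -/
theorem inverted_of_abelian {u : G} (hu : orderOf u = 2) (hua : u • ((1 : G) : G ⧸ H) = b)
    {A : Subgroup G} (hA : A ≤ pairStab ((1 : G) : G ⧸ H) b) (hcA : ∀ x ∈ A, ∀ y ∈ A, x * y = y * x)
    (hAn : pairStab ((1 : G) : G ⧸ H) b ≤ normalizer (A : Set G)) (hAu : u ∈ normalizer (A : Set G))
    {d : G} (hd : d ∈ A) : u * d * u⁻¹ = d⁻¹ := by
  have hd' : u * d * u⁻¹ ∈ A := SEBrick.conj_mem_of hAu hd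
  by_contra hne
  set K := A ⊓ centralizer ({u} : Set G) with hK
  haveI : Nontrivial K := by
    refine ⟨⟨⟨d * (u * d * u⁻¹), mem_inf.2 ⟨mul_mem hd hd', mem_centralizer_singleton_iff.2 ?_⟩⟩, 1,
      fun e => hne ?_⟩⟩
    · refine (mul_inv_eq_iff_eq_mul.1 ?_).symm
      calc u * (d * (u * d * u⁻¹)) * u⁻¹ = u * d * u⁻¹ * (u * u * d * (u⁻¹ * u⁻¹)) := by group
        _ = u * d * u⁻¹ * d := by
          rw [Invol.mul_self hu, one_mul, ← mul_inv_rev, Invol.mul_self hu, inv_one, mul_one]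
        _ = _ := hcA _ hd' d hd
    · exact eq_inv_of_mul_eq_one_right (congrArg Subtype.val e)
  obtain ⟨p, hp, hpK⟩ := Nat.exists_prime_and_dvd (Finite.one_lt_card (α := K)).ne'
  haveI := Fact.mk hp
  obtain ⟨⟨k, hk⟩, hkp⟩ := exists_prime_orderOf_dvd_card' p hpK
  rw [Subgroup.orderOf_mk] at hkp
  obtain ⟨hkA, hku⟩ := mem_inf.1 hk
  obtain ⟨t, htH, ht, hkt⟩ := exists_comm_invol_of_fixed hS hw hab hu hua (hA hkA) hkp
    (mem_centralizer_singleton_iff.1 hku)
  have h1 := free_of_abelian hS.se hc hab hker hA hcA hAn hkA htH ht hkt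
  rw [h1, orderOf_one] at hkp
  exact hp.one_lt.ne hkp

/-- A subgroup of prime exponent, normalised, with commutators in the torus, is abelian. -/
theorem comm_of_exponent {u : G} (hu : orderOf u = 2) (hua : u • ((1 : G) : G ⧸ H) = b) {p : ℕ}
    [hp : Fact p.Prime] (hp2 : p ≠ 2) {U A : Subgroup G} (hU : U ≤ pairStab ((1 : G) : G ⧸ H) b)
    (hUn : pairStab ((1 : G) : G ⧸ H) b ≤ normalizer (U : Set G)) (hUu : u ∈ normalizer (U : Set G))
    (hexp : ∀ x ∈ U, x ^ p = 1) (hA : ∀ x ∈ A, u * x * u⁻¹ = x⁻¹)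
    (hUA : ∀ x ∈ U, ∀ y ∈ U, y * x * y⁻¹ * x⁻¹ ∈ A) : ∀ x ∈ U, ∀ y ∈ U, x * y = y * x := by
  classical
  have hH := hS.se
  by_contra hno
  set Z := U ⊓ centralizer (U : Set G) with hZ
  have hUp : IsPGroup p U := fun x => ⟨1, Subtype.ext (by
    rw [SubmonoidClass.coe_pow, pow_one]; exact hexp x x.2)⟩
  have hZc : ∀ {z}, z ∈ Z → ∀ y ∈ U, y * z = z * y := fun {z} hz y hy =>
    mem_centralizer_iff.1 (mem_inf.1 hz).2 y hy
  have hZinv : ∀ z ∈ Z, u * z * u⁻¹ = z⁻¹ := fun z hz =>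
    inverted_of_abelian hS hw hc hab hker hu hua (inf_le_left.trans hU)
      (fun x hx y hy => hZc hy x (mem_inf.1 hx).1)
      (fun g hg => mem_normalizer_inf' (hUn hg) (mem_normalizer_centralizer' (hUn hg)))
      (mem_normalizer_inf' hUu (mem_normalizer_centralizer' hUu)) hz
  have hcm : ∀ v w : G, u * (v * w) * u⁻¹ = u * v * u⁻¹ * (u * w * u⁻¹) := fun v w => by group
  haveI : Nontrivial U := by
    rw [nontrivial_iff_ne_bot]
    intro hbot
    refine hno fun x hx y hy => ?_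
    rw [hbot, mem_bot] at hx hy
    rw [hx, hy]
  haveI := hUp.center_nontrivial
  obtain ⟨⟨z, hz⟩, hz1⟩ := exists_ne (1 : center U)
  have hzZ : (z : G) ∈ Z := mem_inf.2 ⟨z.2, mem_centralizer_iff.2 fun y hy =>
    congrArg Subtype.val (mem_center_iff.1 hz ⟨y, hy⟩)⟩
  have hzne : (z : G) ≠ 1 := fun e => hz1 (Subtype.ext (Subtype.ext e))
  have hmod : ∀ x ∈ U, x⁻¹ * (u * x * u⁻¹) ∈ Z := by
    intro x hx
    set y := x⁻¹ * (u * x * u⁻¹) with hy
    have hyU : y ∈ U := mul_mem (inv_mem hx) (SEBrick.conj_mem_of hUu hx)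
    have hyinv : u * y * u⁻¹ = y⁻¹ := by
      rw [hy, mul_inv_rev, inv_inv, Invol.inv_self hu]
      calc u * (x⁻¹ * (u * x * u)) * u = u * x⁻¹ * u * x * (u * u) := by group
        _ = u * x⁻¹ * u * x := by rw [Invol.mul_self hu, mul_one]
        _ = _ := by rw [show (u * x * u)⁻¹ = u⁻¹ * x⁻¹ * u⁻¹ by group, Invol.inv_self hu]
    set W := zpowers y ⊔ zpowers (z : G) with hW
    have hyz : Commute y (z : G) := hZc hzZ y hyU
    have hsplit : ∀ w ∈ W, ∃ i j : ℤ, y ^ i * (z : G) ^ j = w := by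
      intro w hw'
      rw [← SetLike.mem_coe, hW, coe_mul_of_left_le_normalizer_right] at hw'
      · obtain ⟨_, ⟨i, rfl⟩, _, ⟨j, rfl⟩, rfl⟩ := hw'
        exact ⟨i, j, rfl⟩
      · refine zpowers_le.2 (SEBrick.mem_normalizer_of fun v hv => ?_)
        obtain ⟨j, rfl⟩ := mem_zpowers_iff.1 hv
        rw [(hyz.zpow_right j).eq, mul_inv_cancel_right]
        exact zpow_mem (mem_zpowers _) j
    have hWU : W ≤ U := sup_le (zpowers_le.2 hyU) (zpowers_le.2 z.2)
    have hWinv : ∀ w ∈ W, u * w * u⁻¹ = w⁻¹ := by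
      intro w hw'
      obtain ⟨i, j, rfl⟩ := hsplit w hw'
      rw [hcm, ← conj_zpow, ← conj_zpow, hyinv, hZinv _ hzZ, inv_zpow, inv_zpow, ← mul_inv_rev,
        ((hyz.zpow_zpow i j).eq)]
    have hcyc : IsCyclic W := isCyclic_of_free hH hc hp2
      (fun w hw' => SEBrick.fix_base_iff.1 (mem_pairStab.1 (hU (hWU hw'))).1) (hUp.to_le hWU)
      fun w hw' t htH ht hwt => free_of_inverted hH hab hu hua (hU (hWU hw')) (hWinv w hw') htH ht hwt
    obtain ⟨⟨g, hg⟩, hgen⟩ := hcyc.exists_generator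
    have hWp : Nat.card W ≤ p := by
      rw [← orderOf_eq_card_of_forall_mem_zpowers hgen, Subgroup.orderOf_mk]
      exact Nat.le_of_dvd hp.out.pos (orderOf_dvd_of_pow_eq_one (hexp g (hWU hg)))
    have hzW : zpowers (z : G) = W := eq_of_le_of_card_ge le_sup_right (by
      rw [Nat.card_zpowers, orderOf_eq_prime (hexp _ z.2) hzne]; exact hWp)
    have hyW : y ∈ zpowers (z : G) := hzW.symm ▸ mem_sup_left (mem_zpowers y)
    exact zpowers_le.2 hzZ hyW
  refine hno fun x hx y hy => ?_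
  set c := y * x * y⁻¹ * x⁻¹ with hcdef
  have hfix : u * c * u⁻¹ = c := by
    obtain ⟨zx, hzx, hzx'⟩ : ∃ v ∈ Z, u * x * u⁻¹ = x * v := ⟨_, hmod x hx, by group⟩
    obtain ⟨zy, hzy, hzy'⟩ : ∃ v ∈ Z, u * y * u⁻¹ = y * v := ⟨_, hmod y hy, by group⟩
    rw [hcdef, hcm, hcm, hcm, ← conj_inv, ← conj_inv, hzx', hzy', mul_inv_rev, mul_inv_rev]
    have h1 : zy * (x * zx) = x * zx * zy := (hZc hzy _ (mul_mem hx (mem_inf.1 hzx).1)).symm
    calc y * zy * (x * zx) * (zy⁻¹ * y⁻¹) * (zx⁻¹ * x⁻¹)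
        = y * (zy * (x * zx) * zy⁻¹) * y⁻¹ * (zx⁻¹ * x⁻¹) := by group
      _ = y * x * (zx * y⁻¹) * zx⁻¹ * x⁻¹ := by rw [h1]; group
      _ = y * x * (y⁻¹ * zx) * zx⁻¹ * x⁻¹ := by rw [hZc hzx _ (inv_mem hy)]
      _ = _ := by group
  have hcA' := hA c (hUA x hx y hy)
  rw [hfix] at hcA'
  have hc1 : c = 1 := Invol.eq_one_of_sq_of_odd
    (odd_of_mem_pairStab hH hab (mul_mem (mul_mem (mul_mem (hU hy) (hU hx)) (inv_mem (hU hy)))
      (inv_mem (hU hx)))) (by rw [pow_two]; nth_rw 1 [hcA']; exact inv_mul_cancel c)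
  rw [hcdef, mul_inv_eq_one, mul_inv_eq_iff_eq_mul] at hc1
  exact hc1.symm

/-- A normal abelian subgroup regular on the involutions of `H` exists. -/
theorem exists_torus : ∃ T : Subgroup G, TorusData H b T := by
  classical
  have hH := hS.se
  haveI : Nontrivial (G ⧸ H) := ⟨⟨_, _, hab⟩⟩
  set a := ((1 : G) : G ⧸ H) with ha
  set D := pairStab a b with hD
  obtain ⟨u, hu, hua⟩ := exists_swapper hH a b hab
  have huD := swapper_mem_normalizer hH hu hua
  obtain ⟨A, -, ⟨hAD, hcA, hAn, hAu⟩, hAmax⟩ := Finite.exists_le_maximal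
    (p := fun A : Subgroup G => A ≤ D ∧ (∀ x ∈ A, ∀ y ∈ A, x * y = y * x) ∧
      D ≤ normalizer (A : Set G) ∧ u ∈ normalizer (A : Set G)) (a := ⊥)
    ⟨bot_le, fun x hx y hy => by rw [mem_bot] at hx hy; rw [hx, hy],
      fun g _ => SEBrick.mem_normalizer_of fun x hx => by
        rw [mem_bot] at hx; rw [hx, mul_one, mul_inv_cancel]; exact one_mem _,
      SEBrick.mem_normalizer_of fun x hx => by
        rw [mem_bot] at hx; rw [hx, mul_one, mul_inv_cancel]; exact one_mem _⟩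
  have hinv : ∀ x ∈ A, u * x * u⁻¹ = x⁻¹ := fun x hx =>
    inverted_of_abelian hS hw hc hab hker hu hua hAD hcA hAn hAu hx
  have hfree : ∀ x ∈ A, ∀ t ∈ H, orderOf t = 2 → x * t = t * x → x = 1 := fun x hx t htH ht hxt =>
    free_of_abelian hH hc hab hker hAD hcA hAn hx htH ht hxt
  -- the subgroup is self-centralising
  set C := D ⊓ centralizer (A : Set G) with hC
  have hAC : A ≤ C := le_inf hAD fun x hx => mem_centralizer_iff.2 fun y hy => hcA y hy x hx
  have hCn : ∀ {g : G}, g ∈ normalizer (D : Set G) → g ∈ normalizer (A : Set G) →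
      g ∈ normalizer (C : Set G) := fun h1 h2 => mem_normalizer_inf' h1 (mem_normalizer_centralizer' h2)
  have hCA : C ≤ A := by
    by_contra hnle
    have hcenA : ∀ {x}, x ∈ A → ∀ {y}, y ∈ C → x * y = y * x := fun {x} hx {y} hy =>
      mem_centralizer_iff.1 (mem_inf.1 hy).2 x hx
    let S : ℕ → Subgroup G := fun i => (fun X : Subgroup G => ⁅X, X⁆)^[i] C
    have hSsucc : ∀ i, S (i + 1) = ⁅S i, S i⁆ := fun i => Function.iterate_succ_apply' _ i C
    have hSmap : ∀ i, S i = (derivedSeries C i).map C.subtype := by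
      intro i
      induction i with
      | zero => rw [derivedSeries_zero, ← MonoidHom.range_eq_map, range_subtype]; rfl
      | succ j ih => rw [hSsucc, ih, derivedSeries_succ, map_commutator]
    haveI : Group.IsSolvable C := OddChar.oddSolvable _
      ((pairStab_odd hH hab).of_dvd_nat (card_dvd_of_le inf_le_left))
    obtain ⟨k, hk⟩ := (inferInstance : Group.IsSolvable C).solvable
    have hex : ∃ i, S i ≤ A := ⟨k, by rw [hSmap, hk, Subgroup.map_bot]; exact bot_le⟩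
    obtain ⟨i, hi, hlast⟩ : ∃ i, S (i + 1) ≤ A ∧ ¬ S i ≤ A := by
      rcases Nat.exists_eq_succ_of_ne_zero (n := Nat.find hex) (fun e => hnle (by
        have := Nat.find_spec hex
        rw [e] at this
        exact this)) with ⟨j, hj⟩
      exact ⟨j, by have := Nat.find_spec hex; rwa [hj] at this, Nat.find_min hex (by omega)⟩
    have hSC : S i ≤ C := hSmap i ▸ map_subtype_le _
    have hSn : ∀ {g : G}, g ∈ normalizer (C : Set G) → ∀ j, g ∈ normalizer (S j : Set G) := by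
      intro g hg j
      induction j with
      | zero => exact hg
      | succ j ih =>
        refine SEBrick.mem_normalizer_of fun x hx => ?_
        rw [hSsucc] at hx ⊢
        have h1 := mem_map_of_mem (MulAut.conj g).toMonoidHom hx
        rw [map_commutator] at h1
        exact commutator_mono (map_conj_le_of_mem_normalizer ih) (map_conj_le_of_mem_normalizer ih) h1
    set N := S i ⊔ A with hN
    have hNC : N ≤ C := sup_le hSC hAC
    have hsplit : ∀ x ∈ N, ∃ s ∈ S i, ∃ w ∈ A, s * w = x := by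
      intro x hx
      rw [← SetLike.mem_coe, hN, coe_mul_of_left_le_normalizer_right] at hx
      · obtain ⟨s, hs, w, hw', rfl⟩ := hx
        exact ⟨s, hs, w, hw', rfl⟩
      · exact fun s hs => SEBrick.mem_normalizer_of fun w hw' => by
          rw [← hcenA hw' (hSC hs), mul_inv_cancel_right]; exact hw'
    have hNcomm : ∀ x ∈ N, ∀ y ∈ N, y * x * y⁻¹ * x⁻¹ ∈ A := by
      intro x hx y hy
      obtain ⟨s, hs, w, hw', rfl⟩ := hsplit x hx
      obtain ⟨s', hs', w', hw'', rfl⟩ := hsplit y hy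
      have h1 : w' * (s * w) = s * w * w' := hcenA hw'' (mul_mem (hSC hs) (hAC hw'))
      have h2 : w * s'⁻¹ = s'⁻¹ * w := hcenA hw' (inv_mem (hSC hs'))
      have e : s' * w' * (s * w) * (s' * w')⁻¹ * (s * w)⁻¹ = ⁅s', s⁆ := by
        rw [commutatorElement_def]
        calc s' * w' * (s * w) * (s' * w')⁻¹ * (s * w)⁻¹
            = s' * (w' * (s * w) * w'⁻¹) * s'⁻¹ * (w⁻¹ * s⁻¹) := by group
          _ = s' * s * (w * s'⁻¹) * (w⁻¹ * s⁻¹) := by rw [h1]; group
          _ = _ := by rw [h2]; group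
      rw [e]
      exact hi (hSsucc i ▸ commutator_mem_commutator hs' hs)
    obtain ⟨x₀, hx₀, hmin⟩ : ∃ x, (x ∈ N ∧ x ∉ A) ∧ ∀ y, y ∈ N ∧ y ∉ A → orderOf x ≤ orderOf y := by
      obtain ⟨s, hs, hsA⟩ := SetLike.not_le_iff_exists.1 hlast
      obtain ⟨x, hx, hmin⟩ := Set.exists_min_image {x : G | x ∈ N ∧ x ∉ A} orderOf (Set.toFinite _)
        ⟨s, mem_sup_left hs, hsA⟩
      exact ⟨x, hx, hmin⟩
    obtain ⟨p, hp, hpx⟩ := Nat.exists_prime_and_dvd (n := orderOf x₀) fun e =>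
      hx₀.2 (by rw [orderOf_eq_one_iff.1 e]; exact one_mem A)
    haveI := Fact.mk hp
    have hp2 : p ≠ 2 := fun e => Nat.not_even_iff_odd.2
      (odd_of_mem_pairStab hH hab (hNC hx₀.1).1) (even_iff_two_dvd.2 (e ▸ hpx))
    have hx₀p : x₀ ^ p ∈ A := by
      by_contra h
      have h1 := hmin _ ⟨pow_mem hx₀.1 p, h⟩
      rw [orderOf_pow_of_dvd hp.ne_zero hpx] at h1
      exact (Nat.div_lt_self (orderOf_pos x₀) hp.one_lt).not_ge h1
    have hpow : ∀ x ∈ N, ∀ y ∈ N, ∃ e ∈ A, (x * y) ^ p = e ^ p.choose 2 * (x ^ p * y ^ p) ∧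
        y ^ p * x = e ^ p * (x * y ^ p) := by
      intro x hx y hy
      have he := hNcomm x hx y hy
      have h1 : y * x = y * x * y⁻¹ * x⁻¹ * (x * y) := by group
      exact ⟨_, he, ExpSq.mul_pow_of_central h1 (hcenA he (hNC hx)) (hcenA he (hNC hy)) p,
        ExpSq.conj_pow_of_central h1 (hcenA he (hNC hy)) p⟩
    let B : Subgroup G :=
      { carrier := {x | x ∈ N ∧ x ^ p ∈ A}
        one_mem' := ⟨one_mem N, by rw [one_pow]; exact one_mem A⟩
        mul_mem' := fun {x y} hx hy => ⟨mul_mem hx.1 hy.1, by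
          obtain ⟨e, he, h1, -⟩ := hpow x hx.1 y hy.1
          rw [h1]
          exact mul_mem (pow_mem he _) (mul_mem hx.2 hy.2)⟩
        inv_mem' := fun {x} hx => ⟨inv_mem hx.1, by rw [inv_pow]; exact inv_mem hx.2⟩ }
    have hBC : B ≤ C := fun x hx => hNC hx.1
    have hAB : A ≤ B := fun x hx => ⟨mem_sup_right hx, pow_mem hx p⟩
    have hBn : ∀ {g : G}, g ∈ normalizer (C : Set G) → g ∈ normalizer (A : Set G) →
        g ∈ normalizer (B : Set G) := fun {g} hg hgA => SEBrick.mem_normalizer_of fun x hx =>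
      ⟨SEBrick.conj_mem_of (mem_normalizer_sup' (hSn hg i) hgA) hx.1,
        by rw [conj_pow]; exact SEBrick.conj_mem_of hgA hx.2⟩
    have hadd : ∀ x ∈ B, ∀ y ∈ B, (x * y) ^ p = x ^ p * y ^ p := by
      intro x hx y hy
      obtain ⟨e, he, h1, h2⟩ := hpow x hx.1 y hy.1
      have he1 : e ^ p = 1 := by
        rw [← hcenA hy.2 (hBC hx)] at h2
        exact mul_eq_right.1 h2.symm
      obtain ⟨k, hk⟩ := ExpSq.dvd_choose_two hp hp2
      rw [h1, hk, pow_mul, he1, one_pow, one_mul]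
    let φ : B →* A :=
      { toFun := fun x => ⟨(x : G) ^ p, x.2.2⟩
        map_one' := Subtype.ext (one_pow p)
        map_mul' := fun x y => Subtype.ext (hadd x x.2 y y.2) }
    set U := φ.ker.map B.subtype with hU
    have hUmem : ∀ {x : G}, x ∈ U ↔ x ∈ B ∧ x ^ p = 1 := fun {x} => by
      constructor
      · rintro ⟨y, hy, rfl⟩
        exact ⟨y.2, congrArg Subtype.val hy⟩
      · exact fun ⟨h1, h2⟩ => ⟨⟨x, h1⟩, Subtype.ext h2, rfl⟩
    have hUn : ∀ {g : G}, g ∈ normalizer (B : Set G) → g ∈ normalizer (U : Set G) := fun {g} hg =>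
      SEBrick.mem_normalizer_of fun x hx => hUmem.2
        ⟨SEBrick.conj_mem_of hg (hUmem.1 hx).1, by rw [conj_pow, (hUmem.1 hx).2, mul_one, mul_inv_cancel]⟩
    have hDn : D ≤ normalizer (B : Set G) := fun g hg => hBn (hCn (le_normalizer hg) (hAn hg)) (hAn hg)
    have huB : u ∈ normalizer (B : Set G) := hBn (hCn huD hAu) hAu
    have hUB : U ≤ B := map_subtype_le _
    have hUc : ∀ x ∈ U, ∀ y ∈ U, x * y = y * x :=
      comm_of_exponent hS hw hc hab hker hu hua hp2 ((hUB.trans hBC).trans inf_le_left)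
        (fun g hg => hUn (hDn hg)) (hUn huB) (fun x hx => (hUmem.1 hx).2) hinv
        fun x hx y hy => hNcomm x (hUB hx).1 y (hUB hy).1
    have hmaxA : ∀ {Y : Subgroup G}, A ≤ Y → Y ≤ C → (∀ x ∈ Y, ∀ y ∈ Y, x * y = y * x) →
        D ≤ normalizer (Y : Set G) → u ∈ normalizer (Y : Set G) → Y ≤ A := fun hle hYC h1 h2 h3 =>
      hAmax ⟨hYC.trans inf_le_left, h1, h2, h3⟩ hle
    have hUN : U ≤ normalizer (A : Set G) := fun z hz => SEBrick.mem_normalizer_of fun w hw' => by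
      rw [← hcenA hw' (hBC (hUB hz)), mul_inv_cancel_right]
      exact hw'
    have hYc : ∀ x ∈ U ⊔ A, ∀ y ∈ U ⊔ A, x * y = y * x := by
      intro x hx y hy
      rw [← SetLike.mem_coe, coe_mul_of_left_le_normalizer_right _ _ hUN] at hx hy
      obtain ⟨x₁, hx₁, x₂, hx₂, rfl⟩ := hx
      obtain ⟨y₁, hy₁, y₂, hy₂, rfl⟩ := hy
      have h1 : Commute x₁ (y₁ * y₂) :=
        Commute.mul_right (hUc x₁ hx₁ y₁ hy₁) (hcenA hy₂ (hBC (hUB hx₁))).symm
      have h2 : Commute x₂ (y₁ * y₂) :=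
        Commute.mul_right (hcenA hx₂ (hBC (hUB hy₁))) (hcA x₂ hx₂ y₂ hy₂)
      exact (h1.mul_left h2).eq
    have hUA : U ≤ A := le_sup_left.trans (hmaxA le_sup_right (sup_le (hUB.trans hBC) hAC) hYc
      (fun g hg => mem_normalizer_sup' (hUn (hDn hg)) (hAn hg)) (mem_normalizer_sup' (hUn huB) hAu))
    have hUcard : Nat.card U ≤ p := by
      have hcyc : IsCyclic U := isCyclic_of_free hH hc hp2
        (fun x hx => SEBrick.fix_base_iff.1 (mem_pairStab.1 (hAD (hUA hx))).1)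
        (fun x => ⟨1, Subtype.ext (by rw [SubmonoidClass.coe_pow, pow_one]; exact (hUmem.1 x.2).2)⟩)
        fun x hx => hfree x (hUA hx)
      obtain ⟨⟨g, hg⟩, hgen⟩ := hcyc.exists_generator
      rw [← orderOf_eq_card_of_forall_mem_zpowers hgen, Subgroup.orderOf_mk]
      exact Nat.le_of_dvd hp.pos (orderOf_dvd_of_pow_eq_one (hUmem.1 hg).2)
    set A' := A.subgroupOf B with hA'
    have hA'c : A' ≤ center B := fun x hx => mem_center_iff.2 fun y =>
      Subtype.ext (hcenA (mem_subgroupOf.1 hx) (hBC y.2)).symm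
    haveI : A'.Normal := ⟨fun x hx y => by
      rw [mem_center_iff.1 (hA'c hx) y, mul_inv_cancel_right]; exact hx⟩
    have hA'i : A'.index ≤ p := by
      have h1 : Nat.card B ≤ p * Nat.card A := by
        rw [← φ.ker.card_mul_index, index_ker, ← card_map_of_injective (f := B.subtype) (K := φ.ker) B.subtype_injective, ← hU]
        exact Nat.mul_le_mul hUcard (card_le_card_group _)
      rw [← A'.card_mul_index, hA', Nat.card_congr (subgroupOfEquivOfLe hAB).toEquiv, mul_comm p] at h1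
      exact Nat.le_of_mul_le_mul_left h1 Nat.card_pos
    have hQ : IsPGroup p (B ⧸ A') := fun q => QuotientGroup.induction_on q fun x => ⟨1, by
      rw [pow_one, ← QuotientGroup.mk_pow, QuotientGroup.eq_one_iff, hA', mem_subgroupOf,
        SubmonoidClass.coe_pow]
      exact x.2.2⟩
    haveI : IsCyclic (B ⧸ A') := by
      obtain ⟨j, hj⟩ := IsPGroup.iff_card.1 hQ
      rcases Nat.lt_or_ge j 2 with hlt | hge
      · interval_cases j
        · haveI : Subsingleton (B ⧸ A') := (Nat.card_eq_one_iff_unique.1 (by simpa using hj)).1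
          exact isCyclic_of_subsingleton
        · exact isCyclic_of_prime_card (p := p) (by simpa using hj)
      · exfalso
        have h1 : p ^ 2 ≤ p := le_trans (Nat.pow_le_pow_right hp.pos hge) (by rw [← hj]; exact hA'i)
        nlinarith [hp.two_le]
    have hBc : ∀ x ∈ B, ∀ y ∈ B, x * y = y * x := fun x hx y hy => congrArg Subtype.val
      (commutative_of_cyclic_center_quotient (QuotientGroup.mk' A')
        (by rw [QuotientGroup.ker_mk']; exact hA'c) ⟨x, hx⟩ ⟨y, hy⟩)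
    exact hx₀.2 (hmaxA hAB hBC hBc hDn huB ⟨hx₀.1, hx₀p⟩)
  -- it consists of the inverted elements
  have hall : ∀ d ∈ D, u * d * u⁻¹ = d⁻¹ → d ∈ A := by
    intro d hd hdinv
    obtain ⟨r, hr⟩ := Invol.exists_sqrt (odd_of_mem_pairStab hH hab hd)
    rw [← hr, ← pow_mul, mul_comm, pow_mul]
    refine pow_mem (hCA (mem_inf.2 ⟨pow_mem hd 2, mem_centralizer_iff.2 fun x hx => ?_⟩)) r
    have h1 := hinv _ (SEBrick.conj_mem_of (hAn hd) hx)
    rw [show u * (d * x * d⁻¹) * u⁻¹ = u * d * u⁻¹ * (u * x * u⁻¹) * (u * d * u⁻¹)⁻¹ by group, hdinv, inv_inv,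
      hinv x hx, mul_inv_rev, mul_inv_rev,
      inv_inv] at h1
    have h2 : x * (d * d) = d * d * x := by
      have e : x⁻¹ * d * d = d * d * x⁻¹ := by
        calc x⁻¹ * d * d = d * (d⁻¹ * x⁻¹ * d) * d := by group
          _ = d * (d * (x⁻¹ * d⁻¹)) * d := by rw [h1]
          _ = _ := by group
      exact (Commute.inv_left (show Commute x⁻¹ (d * d) by
        rw [Commute, SemiconjBy, ← mul_assoc, e])).eq |> fun h => by rwa [inv_inv] at h
    rwa [pow_two]
  refine ⟨A, hAD, hAn, hcA, fun x hx hx1 f hf => ?_, hfree, fun s t hsH htH hs ht => ?_⟩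
  · obtain ⟨hxa, hxb⟩ := mem_pairStab.1 (hAD hx)
    exact hw.fix_pair ⟨hx1, odd_of_mem_pairStab hH hab (hAD hx), u, a, hu, hinv x hx, hxa,
      by rw [hua]; exact hab.symm⟩ hxa hxb hf hab
  · obtain ⟨⟨d, hd, hdi⟩, he⟩ := (bijective_inverted hH hab hu hua hs (SEBrick.fix_base_iff.2 hsH)).2
      ⟨t, ht, SEBrick.fix_base_iff.2 htH⟩
    exact ⟨d, hall d hd hdi, congrArg Subtype.val he⟩

end Torus

end Cfsg.Agent.SEMain
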