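import Cfsg.Agent.Lib.Char.RelPeel

/-!
# The Frobenius-Wielandt peel at a two-point stabiliser

In a point stabiliser the two-point stabiliser meets its outside conjugates inside the subgroup
generated by its elements with a third fixed point, so the latter extends to a normal supplement.
-/

set_option autoImplicit false
set_option linter.style.haveILetI false

namespace Cfsg.Agent.SEMain.Peel

open MulAction

universe u v

variable {G : Type u} [Group G] {Ω : Type v} [MulAction G Ω]

/-- The elements fixing `a`, `b` and a third point. -/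
def threeSet (G : Type u) [Group G] [MulAction G Ω] (a b : Ω) : Set G :=
  {d | d • a = a ∧ d • b = b ∧ ∃ p, p ≠ a ∧ p ≠ b ∧ d • p = p}

/-- The subgroup generated by the elements fixing `a`, `b` and a third point. -/
def triple (G : Type u) [Group G] [MulAction G Ω] (a b : Ω) : Subgroup G :=
  Subgroup.closure (threeSet G a b)

theorem triple_le (a b : Ω) : triple G a b ≤ stabilizer G a ⊓ stabilizer G b := by
  refine (Subgroup.closure_le _).2 fun d hd => ?_
  exact Subgroup.mem_inf.2 ⟨mem_stabilizer_iff.2 hd.1, mem_stabilizer_iff.2 hd.2.1⟩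

theorem triple_comm (a b : Ω) : triple G a b = triple G b a := by
  unfold triple threeSet
  congr 1
  ext d
  exact ⟨fun ⟨x, y, p, hp, hq, h⟩ => ⟨y, x, p, hq, hp, h⟩, fun ⟨x, y, p, hp, hq, h⟩ => ⟨y, x, p, hq, hp, h⟩⟩

theorem conj_mem_triple (g : G) {a b : Ω} {d : G} (hd : d ∈ triple G a b) :
    g * d * g⁻¹ ∈ triple G (g • a) (g • b) := by
  induction hd using Subgroup.closure_induction with
  | mem x hx =>
    obtain ⟨ha, hb, p, hpa, hpb, hp⟩ := hx
    have key : ∀ q : Ω, x • q = q → (g * x * g⁻¹) • g • q = g • q := fun q hq => by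
      rw [smul_smul, inv_mul_cancel_right, mul_smul, hq]
    exact Subgroup.subset_closure ⟨key a ha, key b hb, g • p,
      fun e => hpa (smul_left_cancel g e), fun e => hpb (smul_left_cancel g e), key p hp⟩
  | one => simp
  | mul x y _ _ hx hy =>
    have e : g * (x * y) * g⁻¹ = g * x * g⁻¹ * (g * y * g⁻¹) := by group
    rw [e]
    exact mul_mem hx hy
  | inv x _ hx =>
    have e : g * x⁻¹ * g⁻¹ = (g * x * g⁻¹)⁻¹ := by group
    rw [e]
    exact inv_mem hx

/-- Elements normalising the pair normalise its triple subgroup. -/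
theorem conj_mem_of_swap {g : G} {a b : Ω} (ha : g • a = b) (hb : g • b = a) {d : G}
    (hd : d ∈ triple G a b) : g * d * g⁻¹ ∈ triple G a b := by
  have := conj_mem_triple g hd
  rwa [ha, hb, triple_comm] at this

/-- Elements of the two-point stabiliser normalise the triple subgroup. -/
theorem conj_mem_of_fix {g : G} {a b : Ω} (ha : g • a = a) (hb : g • b = b) {d : G}
    (hd : d ∈ triple G a b) : g * d * g⁻¹ ∈ triple G a b := by
  have := conj_mem_triple g hd
  rwa [ha, hb] at this

/-- **The peel.** The triple subgroup is the intersection of the two-point stabiliser with a normal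
supplement of it in the point stabiliser. -/
theorem exists_peel [Finite G] {a b : Ω} (hab : a ≠ b) :
    ∃ H₁ : Subgroup G, H₁ ≤ stabilizer G a ∧
      (∀ h ∈ stabilizer G a, ∀ n ∈ H₁, h * n * h⁻¹ ∈ H₁) ∧
      H₁ ⊓ (stabilizer G a ⊓ stabilizer G b) = triple G a b ∧
      H₁ ⊔ (stabilizer G a ⊓ stabilizer G b) = stabilizer G a := by
  set A := stabilizer G a with hA
  set D := A ⊓ stabilizer G b with hD
  have hTA : triple G a b ≤ A := (triple_le a b).trans inf_le_left
  let X : Subgroup A := D.subgroupOf A
  let X₀ : Subgroup A := (triple G a b).subgroupOf A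
  have hX : Char.RelFrob.RelMalnormal X X₀ := by
    intro g hg x hx hgx
    rw [Subgroup.mem_subgroupOf, hD, Subgroup.mem_inf] at hx hgx hg
    rw [Subgroup.mem_subgroupOf]
    have hxa : (x : G) • a = a := mem_stabilizer_iff.1 hx.1
    have hga : (g : G) • a = a := mem_stabilizer_iff.1 g.2
    have hgb : (g : G) • b ≠ b := fun e => hg ⟨g.2, mem_stabilizer_iff.2 e⟩
    have hconj : ((g : G) * x * (g : G)⁻¹) • b = b := by
      simpa using mem_stabilizer_iff.1 hgx.2
    refine Subgroup.subset_closure ⟨hxa, mem_stabilizer_iff.1 hx.2, (g : G)⁻¹ • b, ?_, ?_, ?_⟩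
    · intro e
      exact hab.symm (by rw [inv_smul_eq_iff, hga] at e; exact e)
    · intro e
      exact hgb ((inv_smul_eq_iff.1 e).symm)
    · rw [mul_smul, mul_smul] at hconj
      exact eq_inv_smul_iff.2 hconj
  have hX0X : X₀ ≤ X := fun x hx => by
    rw [Subgroup.mem_subgroupOf] at hx ⊢
    exact triple_le a b hx
  have hX0n : (X₀.subgroupOf X).Normal := by
    refine ⟨fun x hx g => ?_⟩
    rw [Subgroup.mem_subgroupOf, Subgroup.mem_subgroupOf] at hx ⊢
    have hg := g.2
    rw [Subgroup.mem_subgroupOf, hD, Subgroup.mem_inf] at hg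
    simpa using conj_mem_of_fix (mem_stabilizer_iff.1 hg.1) (mem_stabilizer_iff.1 hg.2) hx
  obtain ⟨N, hN, hinf, hsup⟩ := Char.RelFrob.exists_normal_supplement hX hX0X hX0n
  refine ⟨N.map A.subtype, Subgroup.map_subtype_le N, ?_, ?_, ?_⟩
  · rintro h hh n ⟨n', hn', rfl⟩
    exact ⟨⟨h, hh⟩ * n' * ⟨h, hh⟩⁻¹, hN.conj_mem n' hn' _, by simp⟩
  · have := congrArg (Subgroup.map A.subtype) hinf
    rwa [Subgroup.map_inf _ _ _ A.subtype_injective, Subgroup.map_subgroupOf_eq_of_le inf_le_left,
      Subgroup.map_subgroupOf_eq_of_le hTA] at this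
  · have := congrArg (Subgroup.map A.subtype) hsup
    rwa [Subgroup.map_sup, Subgroup.map_subgroupOf_eq_of_le inf_le_left, ← MonoidHom.range_eq_map,
      Subgroup.range_subtype] at this

end Cfsg.Agent.SEMain.Peel
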