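import Cfsg.Agent.Lib.SEMain.Kernel
import Cfsg.Agent.Lib.SEMain.LocalBender
import Cfsg.Agent.Lib.SEMain.LocalTools
import Cfsg.Agent.Lib.SEMain.GoodCore

/-!
# An `r`-group moved by a four-group in its normaliser

`Y` is an `r`-group, its normaliser has a four-group at `p`, moves `p`, and none of its involutions
centralises `Y`. Among these, one with the largest `r`-part of the stabiliser of `p` in the normaliser, and
then the largest order, is a Sylow subgroup of the kernel on the orbit of `p`.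
-/

set_option autoImplicit false
set_option linter.style.haveILetI false
set_option linter.unusedSectionVars false

namespace Cfsg.Agent.SEMain

open Subgroup MulAction

universe u

variable {G : Type u} [Group G] [Finite G] {H : Subgroup G}

/-- The configuration. -/
structure Pre (H : Subgroup G) (r : ℕ) (Y : Subgroup G) (p : G ⧸ H) : Prop where
  pgroup : IsPGroup r Y
  four : ∃ E : Subgroup G, SEBrick.IsFour E ∧ E ≤ normalizer (Y : Set G) ⊓ stabilizer G p
  move : ∃ g ∈ normalizer (Y : Set G), g • p ≠ p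
  moves : ∀ w ∈ normalizer (Y : Set G), orderOf w = 2 → ¬ Y ≤ centralizer ({w} : Set G)

/-- The exponent of `r` in the order of the stabiliser of `p` in the normaliser of `Y`. -/
noncomputable def preRank {H : Subgroup G} (r : ℕ) (Y : Subgroup G) (p : G ⧸ H) : ℕ :=
  (Nat.card (normalizer (Y : Set G) ⊓ stabilizer G p : Subgroup G)).factorization r

/-- A configuration of largest rank, and largest order among these. -/
structure MaxPre (H : Subgroup G) (r : ℕ) (Y : Subgroup G) (p : G ⧸ H) : Prop extends Pre H r Y p where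
  top : ∀ (Y' : Subgroup G) (p' : G ⧸ H), Pre H r Y' p' → preRank r Y' p' ≤ preRank r Y p
  big : ∀ (Y' : Subgroup G) (p' : G ⧸ H), Pre H r Y' p' → preRank r Y p ≤ preRank r Y' p' →
    Nat.card Y' ≤ Nat.card Y

theorem exists_maxPre {r : ℕ} {Y : Subgroup G} {p : G ⧸ H} (h : Pre H r Y p) :
    ∃ (Y' : Subgroup G) (p' : G ⧸ H), MaxPre H r Y' p' := by
  obtain ⟨⟨Y1, p1⟩, h1, hmax1⟩ := Set.exists_max_image {z : Subgroup G × (G ⧸ H) | Pre H r z.1 z.2}
    (fun z => preRank r z.1 z.2) (Set.toFinite _) ⟨(Y, p), h⟩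
  obtain ⟨⟨Y2, p2⟩, ⟨h2, h12⟩, hmax2⟩ := Set.exists_max_image
    {z : Subgroup G × (G ⧸ H) | Pre H r z.1 z.2 ∧ preRank r Y1 p1 ≤ preRank r z.1 z.2}
    (fun z => Nat.card z.1) (Set.toFinite _) ⟨(Y1, p1), h1, le_rfl⟩
  exact ⟨Y2, p2, h2, fun Y' p' h' => (hmax1 (Y', p') h').trans h12,
    fun Y' p' h' hle => hmax2 (Y', p') ⟨h', h12.trans hle⟩⟩

namespace Pre

variable {r : ℕ} [Fact r.Prime] {Y : Subgroup G} {p : G ⧸ H}

theorem fix (h : Pre H r Y p) (hH : Cfsg.IsStronglyEmbedded H) (hr2 : r ≠ 2) : Y ≤ stabilizer G p := by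
  obtain ⟨E, hE, hEN⟩ := h.four
  exact SESolv.odd_fix_of_four hH (odd_of_pGroup hr2 h.pgroup) hE (hEN.trans inf_le_right)
    (hEN.trans inf_le_left)

theorem ne_bot (h : Pre H r Y p) : Y ≠ ⊥ := by
  obtain ⟨E, hE, hEN⟩ := h.four
  obtain ⟨e, he, he1⟩ := SESolv.IsFour.exists_ne hE
  exact fun hY => h.moves e (hEN he).1 (hE.order he he1) (hY ▸ bot_le)

theorem exists_localData (h : Pre H r Y p) (hH : Cfsg.IsStronglyEmbedded H) (hcore : H.normalCore = ⊥)
    (ih : Below.{u} (Nat.card G)) (hr2 : r ≠ 2) :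
    ∃ K, LocalData (normalizer (Y : Set G)) p K := by
  obtain ⟨E, hE, hEN⟩ := h.four
  exact SEMain.exists_localData hH ih (card_normalizer_lt hcore h.ne_bot (h.fix hH hr2)) hE
    (hEN.trans inf_le_left) (hEN.trans inf_le_right) h.move

end Pre

/-- The kernel fixes `p`. -/
theorem LocalData.le_stab {X : Subgroup G} {p : G ⧸ H} {K : Subgroup G} (hD : LocalData X p K) :
    K ≤ X ⊓ stabilizer G p :=
  fun k hk => mem_inf.2 ⟨hD.le hk, by simpa using hD.fix k hk 1 (one_mem _)⟩

/-- The normaliser of a Sylow subgroup of the kernel takes over the configuration. -/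
theorem pre_of_kernel {r : ℕ} [Fact r.Prime] {L : Subgroup G} {p : G ⧸ H} {K : Subgroup G}
    (hD : LocalData L p K) {E : Subgroup G} (hE : SEBrick.IsFour E) (hEL : E ≤ L ⊓ stabilizer G p)
    (hmove : ∃ g ∈ L, g • p ≠ p) (P : Sylow r K)
    (hmoves : ∀ w ∈ normalizer ((P : Subgroup K).map K.subtype : Set G), orderOf w = 2 →
      (∃ n ∈ normalizer ((P : Subgroup K).map K.subtype : Set G), n • p ≠ p) →
      ¬ (P : Subgroup K).map K.subtype ≤ centralizer ({w} : Set G)) :
    Pre H r ((P : Subgroup K).map K.subtype) p ∧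
      (Nat.card (L ⊓ stabilizer G p : Subgroup G)).factorization r ≤
        preRank r ((P : Subgroup K).map K.subtype) p := by
  have hn : L ⊓ stabilizer G p ≤ normalizer (K : Set G) := inf_le_left.trans hD.norm
  have hKo : ¬ 2 ∣ Nat.card K := fun h => Nat.not_even_iff_odd.2 hD.odd (even_iff_two_dvd.2 h)
  obtain ⟨F, hFM, hF⟩ := exists_four_le inf_le_left hEL hE
    (frattini_part hD.le_stab hn P 2 (Or.inr hKo))
  have hmove' : ∃ n ∈ normalizer ((P : Subgroup K).map K.subtype : Set G), n • p ≠ p := by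
    obtain ⟨g, hg, hgp⟩ := hmove
    obtain ⟨k, hk, hkg⟩ := frattini_local hD.norm P hg
    refine ⟨_, hkg, fun h => hgp ?_⟩
    rw [mul_smul, inv_smul_eq_iff] at h
    exact h.trans (hD.le_stab hk).2
  refine ⟨⟨P.isPGroup'.map _, ⟨F, hF, le_inf (hFM.trans inf_le_right)
    (hFM.trans (inf_le_left.trans inf_le_right))⟩, hmove', fun w hw hw2 => hmoves w hw hw2 hmove'⟩, ?_⟩
  rw [← frattini_part hD.le_stab hn P r (Or.inl rfl)]
  exact factorization_le_of_dvd Nat.card_pos.ne'
    (card_dvd_of_le (le_inf inf_le_right (inf_le_left.trans inf_le_right))) r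

namespace MaxPre

variable {r : ℕ} [Fact r.Prime] {Y : Subgroup G} {p : G ⧸ H} {K : Subgroup G}

theorem le_kernel (h : MaxPre H r Y p) (hH : Cfsg.IsStronglyEmbedded H) (hr2 : r ≠ 2)
    (hD : LocalData (normalizer (Y : Set G)) p K) : Y ≤ K := fun y hy =>
  hD.mem y (le_normalizer hy) fun _ hx =>
    mem_stabilizer_iff.1 (le_stabilizer_smul hx (h.fix hH hr2) hy)

/-- `Y` is a Sylow subgroup of the kernel. -/
theorem eq_of_le_kernel (h : MaxPre H r Y p) (hD : LocalData (normalizer (Y : Set G)) p K)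
    {P : Subgroup G} (hP : IsPGroup r P) (hYP : Y ≤ P) (hPK : P ≤ K) : P = Y := by
  obtain ⟨S, hS⟩ := (hP.comap_subtype : IsPGroup r (P.subgroupOf K)).exists_le_sylow
  set P' := (S : Subgroup K).map K.subtype with hP'
  have hPP' : P ≤ P' := fun x hx => ⟨⟨x, hPK hx⟩, hS hx, rfl⟩
  obtain ⟨E, hE, hEN⟩ := h.four
  obtain ⟨h', hle⟩ := pre_of_kernel hD hE hEN h.move S fun w hw hw2 _ hc =>
    h.moves w (SEBrick.mem_normalizer_of fun y hy => by
      have := mem_centralizer_singleton_iff.1 (hc (hPP' (hYP hy)))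
      rwa [← this, mul_inv_cancel_right]) hw2 (hYP.trans (hPP'.trans hc))
  exact le_antisymm (hPP'.trans (eq_of_le_of_card_ge (hYP.trans hPP') (h.big P' p h' hle)).ge) hYP

/-- The `r`-elements centralising `Y` lie in `Y`. -/
theorem mem_of_centralizes (h : MaxPre H r Y p) (hH : Cfsg.IsStronglyEmbedded H) (hr2 : r ≠ 2)
    (hD : LocalData (normalizer (Y : Set G)) p K) {g : G} (hg : g ∈ centralizer (Y : Set G))
    (hgr : IsPGroup r (zpowers g)) : g ∈ Y := by
  have hCN : centralizer (Y : Set G) ≤ normalizer (Y : Set G) := fun x hx =>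
    SEBrick.mem_normalizer_of fun y hy => by
      rwa [← mem_centralizer_iff.1 hx y hy, mul_inv_cancel_right]
  have hnorm : normalizer (Y : Set G) ≤ normalizer (centralizer (Y : Set G) : Set G) := fun n hn =>
    SEBrick.mem_normalizer_of fun x hx => mem_centralizer_iff.2 fun y hy => by
      have hy' : n⁻¹ * y * n ∈ Y := (mem_normalizer_iff''.1 hn y).1 hy
      have := mem_centralizer_iff.1 hx _ hy'
      calc y * (n * x * n⁻¹) = n * (n⁻¹ * y * n * x) * n⁻¹ := by group
        _ = n * (x * (n⁻¹ * y * n)) * n⁻¹ := by rw [this]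
        _ = _ := by group
  have hodd : Odd (Nat.card (centralizer (Y : Set G))) := SEBrick.odd_card_of_orders fun w hw hw2 =>
    h.moves w (hCN hw) hw2 fun y hy => mem_centralizer_singleton_iff.2 (mem_centralizer_iff.1 hw y hy)
  obtain ⟨E, hE, hEN⟩ := h.four
  have hCp : centralizer (Y : Set G) ≤ stabilizer G p :=
    SESolv.odd_fix_of_four hH hodd hE (hEN.trans inf_le_right) ((hEN.trans inf_le_left).trans hnorm)
  have hgK : g ∈ K := hD.mem g (hCN hg) fun x hx =>
    mem_stabilizer_iff.1 (le_stabilizer_smul (hnorm hx) hCp hg)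
  have he := h.eq_of_le_kernel hD
    (h.pgroup.to_sup_of_normal_left' hgr (zpowers_le.2 (hCN hg))) le_sup_left
    (sup_le (h.le_kernel hH hr2 hD) (zpowers_le.2 hgK))
  exact he.le (mem_sup_right (mem_zpowers g))

end MaxPre

end Cfsg.Agent.SEMain
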