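import Cfsg.Agent.Lib.SEMain.LocalBender
import Cfsg.Agent.Lib.SEMain.MaxThree
import Cfsg.Agent.Lib.SEMain.Kernel
import Cfsg.Agent.Lib.SEMain.LocalTools
import Cfsg.Agent.Lib.SETrans.Main

/-!
# Elements of order prime to `m` with a centraliser of 2-rank two

For `r ∤ m` an `r`-subgroup of a two-point stabiliser is centralised by a swapper.  In the weak situation an
elementary group of order `r ^ 2` has an element with a centraliser of 2-rank two, and for such an element
`y` the 2-elements of `C(y)` at a point form a group regular on the other fixed points of `y`.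
-/

set_option autoImplicit false
set_option linter.style.haveILetI false
set_option linter.unusedSectionVars false

namespace Cfsg.Agent.SEMain

open Subgroup MulAction

universe u

variable {G : Type u} [Group G] [Finite G] {H : Subgroup G} {r : ℕ} [Fact r.Prime]

/-- For `r ∤ m` every `r`-subgroup of a two-point stabiliser is centralised by a swapper. -/
theorem exists_centralizing_swapper (hH : Cfsg.IsStronglyEmbedded H) (hrm : ¬ r ∣ numInv H)
    {p q : G ⧸ H} (hpq : p ≠ q) {R : Subgroup G} (hR : IsPGroup r R) (hRD : R ≤ pairStab p q) :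
    ∃ w : G, orderOf w = 2 ∧ w • p = q ∧ R ≤ centralizer ({w} : Set G) := by
  obtain ⟨u, hu, hup⟩ := exists_swapper hH p q hpq
  set D := pairStab p q with hD
  set C := D ⊓ centralizer ({u} : Set G) with hC
  obtain ⟨T⟩ : Nonempty (Sylow r C) := inferInstance
  have hcard : Nat.card ((T : Subgroup C).map C.subtype) = r ^ (Nat.card D).factorization r := by
    have hfac : (Nat.card D).factorization r = (Nat.card C).factorization r := by
      rw [hC, hD, card_pairStab_swapper hH hpq hu hup,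
        Nat.factorization_mul Nat.card_pos.ne' fun h => hrm (by rw [h]; exact dvd_zero r), Finsupp.add_apply,
        Nat.factorization_eq_zero_of_not_dvd hrm, add_zero]
    rw [hfac]
    exact CoprimeAct.card_map_sylow T
  obtain ⟨Q, hQ⟩ := CoprimeAct.exists_sylow_of_card
    (((map_subtype_le (T : Subgroup C)).trans inf_le_left : _ ≤ D)) hcard
  obtain ⟨P, hP⟩ := (hR.comap_subtype : IsPGroup r (R.subgroupOf D)).exists_le_sylow
  obtain ⟨d, hd⟩ := MulAction.exists_smul_eq D Q P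
  refine ⟨(d : G) * u * (d : G)⁻¹, (Invol.order_conj _ u).trans hu, ?_, fun x hx => ?_⟩
  · obtain ⟨h1, h2⟩ := mem_pairStab.1 d.2
    rw [mul_smul, mul_smul, inv_smul_eq_iff.2 h1.symm, hup, h2]
  · have hxP : (⟨x, hRD hx⟩ : D) ∈ (P : Subgroup D) := hP (mem_subgroupOf.2 hx)
    rw [← hd] at hxP
    replace hxP : (⟨x, hRD hx⟩ : D) ∈ ((MulAut.conj d • Q : Sylow r D) : Subgroup D) := hxP
    rw [Sylow.pointwise_smul_def] at hxP
    obtain ⟨z, hz, hze⟩ := hxP
    have hzu := mem_centralizer_singleton_iff.1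
      (((map_subtype_le (T : Subgroup C)).trans inf_le_right : _ ≤ centralizer ({u} : Set G))
        (hQ ▸ ⟨z, hz, rfl⟩ : (z : G) ∈ (T : Subgroup C).map C.subtype))
    have hxe : (d : G) * z * (d : G)⁻¹ = x := congrArg Subtype.val hze
    refine mem_centralizer_singleton_iff.2 ?_
    rw [← hxe]
    calc (d : G) * z * (d : G)⁻¹ * ((d : G) * u * (d : G)⁻¹) = d * ((z : G) * u) * (d : G)⁻¹ := by group
      _ = d * (u * z) * (d : G)⁻¹ := by rw [hzu]
      _ = _ := by group

/-- Two fixed points of an `r`-element, `r ∤ m`, are swapped in its centraliser. -/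
theorem exists_swap_centralizer (hH : Cfsg.IsStronglyEmbedded H) (hrm : ¬ r ∣ numInv H) {y : G}
    (hy : IsPGroup r (zpowers y)) {f g : G ⧸ H} (hfg : f ≠ g) (hf : y • f = f) (hg : y • g = g) :
    ∃ w ∈ centralizer ({y} : Set G), orderOf w = 2 ∧ w • f = g := by
  obtain ⟨w, hw, hwf, hle⟩ := exists_centralizing_swapper hH hrm hfg hy
    (zpowers_le.2 (mem_pairStab.2 ⟨hf, hg⟩))
  exact ⟨w, mem_centralizer_singleton_iff.2 (mem_centralizer_singleton_iff.1 (hle (mem_zpowers y))).symm,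
    hw, hwf⟩

/-- What centralises `y` permutes its fixed points. -/
theorem smul_fix_of_centralizer {y g : G} (hg : g ∈ centralizer ({y} : Set G)) {f : G ⧸ H}
    (hf : y • f = f) : y • g • f = g • f := by
  rw [← mul_smul, ← mem_centralizer_singleton_iff.1 hg, mul_smul, hf]

variable (hH : Cfsg.IsStronglyEmbedded H) (hw : SETrans.Weak G (G ⧸ H) ((1 : G) : G ⧸ H))
include hH hw

/-- An inverted `q`-element commuting with `y` forces rank two in `C(y)`. -/
theorem not_rankOne_centralizer (hr2 : r ≠ 2) (hrm : ¬ r ∣ numInv H) {a b : G ⧸ H} (hab : a ≠ b) {y : G}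
    (hy : IsPGroup r (zpowers y)) (hya : y • a = a) (hyb : y • b = b) {u k : G} (hu : orderOf u = 2)
    (hub : u • a = b) (huy : u ∈ centralizer ({y} : Set G)) (hky : k ∈ centralizer ({y} : Set G))
    (hinv : u * k * u⁻¹ = k⁻¹) {q : ℕ} [Fact q.Prime] (hq2 : q ≠ 2) (hkq : IsPGroup q (zpowers k))
    (hk1 : k ≠ 1) (hka : k • a = a) (hkb : k • b = b) :
    ¬ BrauerSuzuki.RankOne (centralizer ({y} : Set G)) := by
  intro hrk
  haveI : Nontrivial (G ⧸ H) := ⟨⟨_, _, hab⟩⟩
  set X := centralizer ({y} : Set G) with hX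
  haveI : (Cfsg.pPrimeCore 2 X).Normal := FittingCores.pPrimeCore_normal 2
  obtain ⟨c, huc⟩ := Invol.se_exists_fix hH hu
  have hyc : y • c = c := Invol.se_fix_unique hH hu
    (by rw [← mul_smul, mem_centralizer_singleton_iff.1 huy, mul_smul, huc]) huc
  have htoc : ∀ f : G ⧸ H, y • f = f → ∃ o ∈ Cfsg.pPrimeCore 2 X, (o : G) • f = c := by
    intro f hf
    by_cases hfc : f = c
    · exact ⟨1, one_mem _, by rw [OneMemClass.coe_one, one_smul, hfc]⟩
    obtain ⟨i, hiX, hi, hif⟩ := exists_swap_centralizer hH hrm hy hfc hf hyc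
    exact ⟨⟨u, huy⟩ * ⟨i, hiX⟩, SETrans.invol_mul_mem hrk (by rwa [Subgroup.orderOf_mk])
      (by rwa [Subgroup.orderOf_mk]), by rw [Subgroup.coe_mul, mul_smul, hif]; exact huc⟩
  let Φ := orbit X a
  have hΦ : ∀ f : Φ, y • (f : G ⧸ H) = f := by
    rintro ⟨f, g, rfl⟩
    exact smul_fix_of_centralizer g.2 hya
  obtain ⟨oa, -, hoa⟩ := htoc a hya
  obtain ⟨ob, -, hob⟩ := htoc b hyb
  have hbΦ : b ∈ Φ := ⟨ob⁻¹ * oa, by
    show ((ob⁻¹ * oa : X) : G) • a = b
    rw [Subgroup.coe_mul, Subgroup.coe_inv, mul_smul, hoa, ← hob, inv_smul_smul]⟩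
  have hkq' : IsPGroup q (zpowers (⟨k, hky⟩ : X)) := by
    obtain ⟨n, hn⟩ := IsPGroup.iff_card.1 hkq
    exact IsPGroup.of_card (n := n) (by rw [Nat.card_zpowers, Subgroup.orderOf_mk, ← Nat.card_zpowers, hn])
  obtain ⟨f, hfa, hfb, hf⟩ := exists_third_fixed (Φ := Φ) (Cfsg.pPrimeCore 2 X) SETrans.odd_core
    (fun f g => by
      obtain ⟨o, ho, hof⟩ := htoc f (hΦ f)
      obtain ⟨o', ho', hog⟩ := htoc g (hΦ g)
      refine ⟨o'⁻¹ * o, mul_mem (inv_mem ho') ho, Subtype.ext ?_⟩
      show ((o'⁻¹ * o : X) : G) • (f : G ⧸ H) = g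
      rw [Subgroup.coe_mul, Subgroup.coe_inv, mul_smul, hof, ← hog, inv_smul_smul])
    hq2 (Y := zpowers (⟨k, hky⟩ : X)) (p := ⟨a, mem_orbit_self a⟩) (q := ⟨b, hbΦ⟩) hkq'
    (fun e => hab (congrArg Subtype.val e))
    (fun z hz => Subtype.ext (mem_stabilizer_iff.1 (zpowers_le.2 (show k ∈ stabilizer G a from hka)
      (by obtain ⟨n, rfl⟩ := mem_zpowers_iff.1 hz; exact ⟨n, rfl⟩ : (z : G) ∈ zpowers k))))
    (fun z hz => Subtype.ext (mem_stabilizer_iff.1 (zpowers_le.2 (show k ∈ stabilizer G b from hkb)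
      (by obtain ⟨n, rfl⟩ := mem_zpowers_iff.1 hz; exact ⟨n, rfl⟩ : (z : G) ∈ zpowers k))))
  have hkf : k • (f : G ⧸ H) = f := congrArg Subtype.val (hf _ (mem_zpowers _))
  have hkodd : Odd (orderOf k) := by
    obtain ⟨n, hn⟩ := IsPGroup.iff_card.1 hkq
    rw [← Nat.card_zpowers, hn]
    exact ((Fact.out : q.Prime).odd_of_ne_two hq2).pow
  have hmov : SETrans.Mov G (G ⧸ H) k :=
    ⟨hk1, hkodd, u, a, hu, hinv, hka, fun e => hab (e.symm.trans hub)⟩
  rcases hw.fix_pair hmov hka hkb hkf hab with e | e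
  · exact hfa (Subtype.ext e)
  · exact hfb (Subtype.ext e)

/-- An elementary group of order `r ^ 2` in a two-point stabiliser has an element of rank two. -/
theorem exists_rankTwo_of_not_cyclic (hp : HasPair H) (hr2 : r ≠ 2) (hrm : ¬ r ∣ numInv H)
    {a b : G ⧸ H} (hab : a ≠ b) {E : Subgroup G} (hE : IsPGroup r E) [IsMulCommutative E]
    (hEc : ¬ IsCyclic E) (hED : E ≤ pairStab a b) :
    ∃ e ∈ E, e ≠ 1 ∧ ¬ BrauerSuzuki.RankOne (centralizer ({e} : Set G)) := by
  classical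
  obtain ⟨u, hu, hub, hEu⟩ := exists_centralizing_swapper hH hrm hab hE hED
  set D := pairStab a b with hD
  have hDodd := pairStab_odd hH hab
  haveI : Group.IsSolvable D := OddChar.oddSolvable _ hDodd
  -- some `O_q(D)` is not centralised by `u`
  obtain ⟨q, hq, hqu⟩ : ∃ q : ℕ, q.Prime ∧ ¬ SESolv.coreAt q D ≤ centralizer ({u} : Set G) := by
    by_contra hall
    push Not at hall
    have huF : ∀ f : D, f ∈ Cfsg.fittingSubgroup D → (f : G) * u = u * f := fun f hf => by
      have hle : Cfsg.fittingSubgroup D ≤ (centralizer ({u} : Set G)).subgroupOf D := by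
        rw [FittingCores.fitting_eq_iSup_pCore]
        exact iSup_le fun p x hx => hall p p.2 ⟨x, hx, rfl⟩
      exact mem_centralizer_singleton_iff.1 (mem_subgroupOf.1 (hle hf))
    obtain ⟨s, t, hsH, htH, hs, ht, hst, -⟩ := hp
    haveI : Nontrivial {d : G // d ∈ D ∧ u * d * u⁻¹ = d⁻¹} := by
      rw [← Finite.one_lt_card_iff_nontrivial, card_inverted hH hab hu hub]
      exact Finite.one_lt_card_iff_nontrivial.2
        ⟨⟨s, hs, hsH⟩, ⟨t, ht, htH⟩, fun e => hst (congrArg Subtype.val e)⟩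
    obtain ⟨⟨d, hdD, hdinv⟩, hd1⟩ :=
      exists_ne (⟨1, one_mem D, by simp⟩ : {d : G // d ∈ D ∧ u * d * u⁻¹ = d⁻¹})
    obtain ⟨n, hn⟩ := Invol.exists_sqrt (odd_of_mem_pairStab hH hab hdD)
    set e : G := d ^ n with he
    have heD : e ∈ D := pow_mem hdD n
    have heinv : u * e * u⁻¹ = e⁻¹ := Invol.conj_pow hdinv n
    have hde : d = e ^ 2 := by rw [he, hn]
    have hdC : (⟨d, hdD⟩ : D) ∈ centralizer (Cfsg.fittingSubgroup D : Set D) := by
      haveI := FittingCores.fitting_normal (G := D)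
      refine mem_centralizer_iff.2 fun f hf => Subtype.ext ?_
      show (f : G) * d = d * f
      have h1 := huF _ ((inferInstance : (Cfsg.fittingSubgroup D).Normal).conj_mem f hf ⟨e, heD⟩)
      have h2 := huF _ hf
      have h1' : e * f * e⁻¹ * u = u * (e * f * e⁻¹) := h1
      -- `u` fixes `e f e⁻¹` and `f`, and inverts `e`
      have h3 : e * f * e⁻¹ = e⁻¹ * f * e := by
        have huu := Invol.inv_self hu
        calc e * f * e⁻¹ = u * (e * f * e⁻¹) * u := by
              rw [← h1', mul_assoc _ u u, Invol.mul_self hu, mul_one]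
          _ = u * e * u⁻¹ * (u * f * u⁻¹) * (u * e * u⁻¹)⁻¹ := by
            rw [show u * (e * f * e⁻¹) * u = u * (e * f * e⁻¹) * u⁻¹ by rw [huu]]; group
          _ = e⁻¹ * f * e := by
            rw [heinv, ← h2, mul_inv_cancel_right, inv_inv]
      rw [hde, pow_two]
      calc (f : G) * (e * e) = e * (e⁻¹ * f * e) * e := by group
        _ = e * (e * f * e⁻¹) * e := by rw [h3]
        _ = e * e * f := by group
    have hdu := huF _ (FittingCores.centralizer_fitting_le hdC)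
    refine hd1 (Subtype.ext (Invol.eq_one_of_sq_of_odd (odd_of_mem_pairStab hH hab hdD) ?_))
    have hdu' : d * u = u * d := hdu
    rw [← hdu', mul_inv_cancel_right] at hdinv
    show d ^ 2 = 1
    have h2 : d * d = d⁻¹ * d := congrArg (· * d) hdinv
    rw [pow_two, h2, inv_mul_cancel]
  haveI := Fact.mk hq
  set Q := SESolv.coreAt q D with hQ
  have hQp : IsPGroup q Q := SESolv.coreAt_isPGroup q D
  have hQD : Q ≤ D := SESolv.coreAt_le q D
  have hQu : u ∈ normalizer (Q : Set G) := SEBrick.mem_normalizer_of fun x hx => by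
    have hle : Q.map (MulAut.conj u).toMonoidHom ≤ D := by
      rintro _ ⟨z, hz, rfl⟩
      exact SEBrick.conj_mem_of (swapper_mem_normalizer hH hu hub) (hQD hz)
    refine SESolv.le_coreAt hle (hQp.map _) (fun d hd => SEBrick.mem_normalizer_of ?_) ⟨x, hx, rfl⟩
    rintro _ ⟨z, hz, rfl⟩
    have hd' : u⁻¹ * d * u ∈ D := by
      have := SEBrick.conj_mem_of (inv_mem (swapper_mem_normalizer hH hu hub)) hd
      rwa [inv_inv] at this
    refine ⟨u⁻¹ * d * u * z * (u⁻¹ * d * u)⁻¹, SEBrick.conj_mem_of (SESolv.coreAt_normal q D hd') hz, ?_⟩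
    simp only [MulEquiv.coe_toMonoidHom, MulAut.conj_apply]
    group
  -- an inverted element centralised by some `e`
  have hkey : ∀ z ∈ Q, z * u ≠ u * z → u * (z⁻¹ * (u * z * u⁻¹)) * u⁻¹ = (z⁻¹ * (u * z * u⁻¹))⁻¹ ∧
      z⁻¹ * (u * z * u⁻¹) ≠ 1 := fun z _ hzu => by
    refine ⟨?_, fun h => hzu ?_⟩
    · rw [Invol.inv_self hu]
      calc u * (z⁻¹ * (u * z * u)) * u = u * z⁻¹ * u * z * (u * u) := by group
        _ = (z⁻¹ * (u * z * u))⁻¹ := by
          rw [Invol.mul_self hu, mul_one, mul_inv_rev, mul_inv_rev, mul_inv_rev, inv_inv,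
            Invol.inv_self hu]
          group
    · nth_rw 1 [inv_mul_eq_one.1 h]
      group
  have hq2 : q ≠ 2 := by
    rintro rfl
    refine hqu fun z hz => ?_
    obtain ⟨n, hn⟩ := IsPGroup.iff_orderOf.1 hQp ⟨z, hz⟩
    rw [Subgroup.orderOf_mk] at hn
    rw [orderOf_eq_one_iff.1 (Nat.eq_one_of_dvd_coprimes
      ((Nat.coprime_two_left.2 (odd_of_mem_pairStab hH hab (hQD hz))).pow_left n) (hn ▸ dvd_rfl) dvd_rfl)]
    exact one_mem _
  obtain ⟨z, hz, hzu⟩ := SetLike.not_le_iff_exists.1 hqu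
  have hzu' : z * u ≠ u * z := fun h => hzu (mem_centralizer_singleton_iff.2 h)
  have hqr : q ≠ r := by
    intro hqr
    subst hqr
    have hkQ : z⁻¹ * (u * z * u⁻¹) ∈ Q := mul_mem (inv_mem hz) (SEBrick.conj_mem_of hQu hz)
    exact hrm (dvd_numInv hH hab hu hub (hQD hkQ) (hkey z hz hzu').2 (hkey z hz hzu').1
      (hQp.to_le (zpowers_le.2 hkQ)))
  have hEQ : E ≤ normalizer (Q : Set G) := hED.trans (SESolv.coreAt_normal q D)
  have hcop : (Nat.card E).Coprime (Nat.card Q) := by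
    obtain ⟨i, hi⟩ := IsPGroup.iff_card.1 hE
    obtain ⟨j, hj⟩ := IsPGroup.iff_card.1 hQp
    rw [hi, hj]
    exact Nat.Coprime.pow _ _ ((Nat.coprime_primes Fact.out hq).2 hqr.symm)
  by_contra hno
  push Not at hno
  refine hqu ?_
  rw [← CoprimeAct.generated_by_centralizers hEc hEQ hcop]
  refine iSup₂_le fun e he => fun x hx => mem_centralizer_singleton_iff.2 ?_
  by_contra hxu
  obtain ⟨hkinv, hk1⟩ := hkey x hx.1 hxu
  have hue : u * e = e * u := (mem_centralizer_singleton_iff.1 (hEu he.1)).symm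
  have hxe : x * e = e * x := mem_centralizer_singleton_iff.1 hx.2
  have hkQ : x⁻¹ * (u * x * u⁻¹) ∈ Q := mul_mem (inv_mem hx.1) (SEBrick.conj_mem_of hQu hx.1)
  have hke : x⁻¹ * (u * x * u⁻¹) ∈ centralizer ({e} : Set G) :=
    mul_mem (inv_mem (mem_centralizer_singleton_iff.2 hxe))
      (mul_mem (mul_mem (mem_centralizer_singleton_iff.2 hue) (mem_centralizer_singleton_iff.2 hxe))
        (inv_mem (mem_centralizer_singleton_iff.2 hue)))
  exact not_rankOne_centralizer hH hw hr2 hrm hab (hE.to_le (zpowers_le.2 he.1))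
    (mem_pairStab.1 (hED he.1)).1 (mem_pairStab.1 (hED he.1)).2 hu hub
    (mem_centralizer_singleton_iff.2 hue) hke hkinv hq2 (hQp.to_le (zpowers_le.2 hkQ)) hk1
    (mem_pairStab.1 (hQD hkQ)).1 (mem_pairStab.1 (hQD hkQ)).2 (hno e he.1 he.2)

/-- The 2-elements of `C(y)` at `a`, for `y` of rank two, form a group regular on the other fixed points. -/
theorem exists_regular_two (hcore : H.normalCore = ⊥) (ih : Below.{u} (Nat.card G)) (hr2 : r ≠ 2)
    (hrm : ¬ r ∣ numInv H) {a b : G ⧸ H} (hab : a ≠ b) {y : G} (hy : IsPGroup r (zpowers y))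
    (hy1 : y ≠ 1) (hya : y • a = a) (hyb : y • b = b)
    (hrk : ¬ BrauerSuzuki.RankOne (centralizer ({y} : Set G))) :
    ∃ S : Subgroup G, IsPGroup 2 S ∧ S ≤ centralizer ({y} : Set G) ⊓ stabilizer G a ∧
      (∀ x ∈ centralizer ({y} : Set G), x • a = a → IsPGroup 2 (zpowers x) → x ∈ S) ∧
      (∀ f : G ⧸ H, y • f = f → f ≠ a → ∃ s ∈ S, s • b = f) ∧
      (∀ s ∈ S, s • b = b → s = 1) := by
  classical
  haveI : Fact (Nat.Prime 2) := ⟨Nat.prime_two⟩
  set X := centralizer ({y} : Set G) with hX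
  -- a four-group at `a`
  obtain ⟨u, huX, hu, hub⟩ := exists_swap_centralizer hH hrm hy hab hya hyb
  obtain ⟨w, hw', hwu, huw⟩ := exists_commuting hrk (u := (⟨u, huX⟩ : X))
    (by rw [Subgroup.orderOf_mk]; exact hu)
  rw [← Subgroup.orderOf_coe] at hw'
  obtain ⟨E₀, hE₀X, hE₀, huE₀⟩ := exists_four_pair hu hw' huX w.2
    (fun e => hwu (Subtype.ext e.symm)) (congrArg Subtype.val huw)
  obtain ⟨c, hE₀c⟩ := SESolv.exists_fix_four hH hE₀
  have hyc : y • c = c := Invol.se_fix_unique hH hu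
    (by rw [← mul_smul, mem_centralizer_singleton_iff.1 huX, mul_smul, hE₀c huE₀]) (hE₀c huE₀)
  obtain ⟨g, hgX, hga⟩ : ∃ g ∈ X, g • c = a := by
    by_cases hca : c = a
    · exact ⟨1, one_mem _, by rw [one_smul, hca]⟩
    · obtain ⟨g, hg, -, hgc⟩ := exists_swap_centralizer hH hrm hy hca hyc hya
      exact ⟨g, hg, hgc⟩
  set L0 := closure {w : G | orderOf w = 2 ∧ w ∈ X} with hL0
  have hL0X : L0 ≤ X := (closure_le _).2 fun w hw => hw.2
  set E := E₀.map (MulAut.conj g).toMonoidHom with hE'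
  have hE : SEBrick.IsFour E := hE₀.conj g
  have hEX : E ≤ X := by
    rintro _ ⟨e, he, rfl⟩
    exact mul_mem (mul_mem hgX (hE₀X he)) (inv_mem hgX)
  have hEa : E ≤ stabilizer G a := by
    rintro _ ⟨e, he, rfl⟩
    have := conj_smul_eq (g := g) (mem_stabilizer_iff.1 (hE₀c he))
    rwa [hga] at this
  have hEL : E ≤ L0 := fun e he => by
    by_cases he1 : e = 1
    · rw [he1]; exact one_mem _
    · exact subset_closure ⟨hE.order he he1, hEX he⟩
  have hXlt : Nat.card L0 < Nat.card G := by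
    refine lt_of_le_of_lt (card_le_of_le (hL0X.trans ?_))
      (card_normalizer_lt hcore (W := zpowers y) (fun h => hy1 (zpowers_eq_bot.1 h))
        (zpowers_le.2 (show y ∈ stabilizer G a from hya)))
    intro x hx
    refine SEBrick.mem_normalizer_of fun z hz => ?_
    obtain ⟨n, rfl⟩ := mem_zpowers_iff.1 hz
    have hc : Commute x y := mem_centralizer_singleton_iff.1 hx
    rw [(hc.zpow_right n).eq, mul_inv_cancel_right]
    exact zpow_mem (mem_zpowers y) n
  obtain ⟨K, hK⟩ := exists_localData hH ih hXlt hE hEL hEa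
    ⟨u, subset_closure ⟨hu, huX⟩, fun e => hab (e.symm.trans hub)⟩
  obtain ⟨Q, hKQ, hQa, hQK, hQ2, hQtr⟩ := hK.two
  -- the fixed points of `y` are the orbit of `a`
  have horb : ∀ f : G ⧸ H, y • f = f → ∃ x ∈ L0, x • a = f := fun f hf => by
    by_cases hfa : f = a
    · exact ⟨1, one_mem _, by rw [one_smul, hfa]⟩
    · obtain ⟨i, hiX, hi, hif⟩ := exists_swap_centralizer hH hrm hy (Ne.symm hfa) hya hf
      exact ⟨i, subset_closure ⟨hi, hiX⟩, hif⟩
  -- the kernel is centralised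
  have hKc : ∀ k ∈ K, L0 ≤ centralizer ({k} : Set G) := by
    intro k hk
    refine (closure_le _).2 fun w hw0 => mem_centralizer_singleton_iff.2 ?_
    obtain ⟨hw2, hwX⟩ := hw0
    have hwL : w ∈ L0 := subset_closure ⟨hw2, hwX⟩
    set k' := k⁻¹ * (w * k * w⁻¹) with hk'
    have hk'K : k' ∈ K := mul_mem (inv_mem hk) (SEBrick.conj_mem_of (hK.norm hwL) hk)
    obtain ⟨e, he⟩ := Invol.se_exists_fix hH hw2
    have hye : y • e = e := Invol.se_fix_unique hH hw2
      (by rw [← mul_smul, mem_centralizer_singleton_iff.1 hwX, mul_smul, he]) he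
    have hfix : ∀ f : G ⧸ H, y • f = f → k' • f = f := fun f hf => by
      obtain ⟨x, hx, rfl⟩ := horb f hf
      exact hK.fix k' hk'K x hx
    have hinv : w * k' * w⁻¹ = k'⁻¹ := by
      rw [hk', Invol.inv_self hw2]
      calc w * (k⁻¹ * (w * k * w)) * w = w * k⁻¹ * w * k * (w * w) := by group
        _ = (k⁻¹ * (w * k * w))⁻¹ := by
          rw [Invol.mul_self hw2, mul_one, mul_inv_rev, mul_inv_rev, mul_inv_rev, inv_inv,
            Invol.inv_self hw2]
          group
    have hk'1 : k' = 1 := by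
      by_contra h1
      have h2 := fun (x : G ⧸ H) (hx : y • x = x) =>
        hw.lonely w k' e x hw2 hinv (SEBrick.odd_order hK.odd hk'K) h1 he (hfix e hye) (hfix x hx)
      exact hab ((h2 a hya).trans (h2 b hyb).symm)
    have h1 : k = w * k * w⁻¹ := inv_mul_eq_one.1 hk'1
    nth_rw 2 [h1]
    group
  obtain ⟨T⟩ : Nonempty (Sylow 2 Q) := inferInstance
  set S := (T : Subgroup Q).map Q.subtype with hS
  have hSQ : S ≤ Q := map_subtype_le _
  have hS2 : IsPGroup 2 S := T.isPGroup'.map _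
  have hKS : K ≤ normalizer (S : Set G) := fun k hk => SEBrick.mem_normalizer_of fun s hs => by
    rwa [← mem_centralizer_singleton_iff.1 (hKc k hk (hQa (hSQ hs)).1), mul_inv_cancel_right]
  -- `Q = S K`
  have hQeq : Q = S ⊔ K := by
    refine (eq_of_le_of_card_ge (sup_le hSQ hKQ) ?_).symm
    haveI : (K.subgroupOf Q).Normal :=
      normal_subgroupOf_of_le_normalizer (hQa.trans (inf_le_left.trans hK.norm))
    have h2 : IsPGroup 2 (Q ⧸ K.subgroupOf Q) := fun z => by
      induction z using QuotientGroup.induction_on with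
      | _ z =>
        obtain ⟨k, hk⟩ := hQK z z.2
        refine ⟨k, ?_⟩
        rw [← QuotientGroup.mk_pow, QuotientGroup.eq_one_iff, mem_subgroupOf]
        exact hk
    obtain ⟨j, hj⟩ := IsPGroup.iff_card.1 h2
    have hQc : Nat.card Q = 2 ^ j * Nat.card K := by
      rw [card_eq_card_quotient_mul_card_subgroup (K.subgroupOf Q), hj,
        Nat.card_congr (subgroupOfEquivOfLe hKQ).toEquiv]
    have hK2 : ¬ 2 ∣ Nat.card K := fun h => Nat.not_even_iff_odd.2 hK.odd (even_iff_two_dvd.2 h)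
    have hSc : Nat.card S = 2 ^ j := by
      rw [hS, CoprimeAct.card_map_sylow, hQc, Nat.factorization_mul (pow_ne_zero _ two_ne_zero) Nat.card_pos.ne',
        Finsupp.add_apply, Nat.Prime.factorization_pow Nat.prime_two, Finsupp.single_eq_same,
        Nat.factorization_eq_zero_of_not_dvd hK2, add_zero]
    have hdisj : Nat.card (S ⊓ K : Subgroup G) = 1 := Nat.eq_one_of_dvd_coprimes
      ((Nat.coprime_two_left.2 hK.odd).pow_left j) (hSc ▸ card_dvd_of_le inf_le_left) (card_dvd_of_le inf_le_right)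
    have h := card_sup_mul_inf (A := K) (B := S) hKS
    rw [inf_comm, hdisj, mul_one, sup_comm, hSc] at h
    rw [h, hQc, mul_comm]
  have hQS : Q ≤ normalizer (S : Set G) := hQeq ▸ sup_le le_normalizer hKS
  have huniq : ∀ x ∈ L0, x • a = a → IsPGroup 2 (zpowers x) → x ∈ S := by
    intro x hx hxa hx2
    have hxQ := hQ2 x hx hxa hx2
    have hle : S ≤ S ⊔ zpowers x := le_sup_left
    obtain ⟨i, hi⟩ := IsPGroup.iff_card.1 (hS2.to_sup_of_normal_left' hx2 (zpowers_le.2 (hQS hxQ)))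
    refine (eq_of_le_of_card_ge hle ?_).ge (mem_sup_right (mem_zpowers x))
    have hd := card_dvd_of_le (sup_le hSQ (zpowers_le.2 hxQ) : S ⊔ zpowers x ≤ Q)
    rw [hi] at hd ⊢
    rw [hS, CoprimeAct.card_map_sylow]
    exact Nat.pow_le_pow_right two_pos ((Nat.prime_two.pow_dvd_iff_le_factorization Nat.card_pos.ne').1 hd)
  have hXS : X ⊓ stabilizer G a ≤ normalizer (S : Set G) := by
    intro g hg
    refine SEBrick.mem_normalizer_of fun s hs => huniq _ ?_ ?_ ?_
    · have hle : L0 ≤ L0.comap (MulAut.conj g).toMonoidHom := (closure_le _).2 fun w hw0 =>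
        subset_closure ⟨(Invol.order_conj g w).trans hw0.1, mul_mem (mul_mem hg.1 hw0.2) (inv_mem hg.1)⟩
      exact hle (hQa (hSQ hs)).1
    · exact mem_stabilizer_iff.1 (mul_mem (mul_mem hg.2 (hQa (hSQ hs)).2) (inv_mem hg.2))
    · have h := (hS2.to_le (zpowers_le.2 hs)).map (MulAut.conj g).toMonoidHom
      rwa [MonoidHom.map_zpowers] at h
  have hfree : ∀ x : G, IsPGroup 2 (zpowers x) → x • a = a → x • b = b → x = 1 := fun x hx hxa hxb => by
    obtain ⟨i, hi⟩ := IsPGroup.iff_card.1 hx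
    rw [Nat.card_zpowers] at hi
    exact orderOf_eq_one_iff.1 (Nat.eq_one_of_dvd_coprimes
      ((Nat.coprime_two_left.2 (odd_of_mem_pairStab hH hab (mem_pairStab.2 ⟨hxa, hxb⟩))).pow_left i)
      (hi ▸ dvd_rfl) dvd_rfl)
  have htrans : ∀ f : G ⧸ H, y • f = f → f ≠ a → ∃ s ∈ S, s • b = f := by
    intro f hf hfa
    obtain ⟨x, hx, hxb⟩ := horb b hyb
    obtain ⟨z, hz, hzf⟩ := horb f hf
    obtain ⟨q, hq, hqe⟩ := hQtr x z hx hz (by rw [hxb]; exact hab.symm) (by rw [hzf]; exact hfa)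
    rw [hxb, hzf] at hqe
    rw [hQeq, sup_eq_closure] at hq
    suffices hgen : ∀ f : G ⧸ H, y • f = f → ∃ s ∈ S, s • f = q • f by
      obtain ⟨s, hs, hse⟩ := hgen b hyb
      exact ⟨s, hs, hse.trans hqe⟩
    clear hqe
    induction hq using closure_induction with
    | mem q hq =>
      rcases hq with hq | hq
      · exact fun f _ => ⟨q, hq, rfl⟩
      · refine fun f hf => ⟨1, one_mem S, ?_⟩
        obtain ⟨x, hx, rfl⟩ := horb f hf
        rw [one_smul, hK.fix q hq x hx]
    | one => exact fun f _ => ⟨1, one_mem S, rfl⟩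
    | mul q₁ q₂ _ _ ih₁ ih₂ =>
      intro f hf
      obtain ⟨s₂, hs₂, h₂⟩ := ih₂ f hf
      obtain ⟨s₁, hs₁, h₁⟩ := ih₁ _ (smul_fix_of_centralizer (hL0X (hQa (hSQ hs₂)).1) hf)
      exact ⟨s₁ * s₂, mul_mem hs₁ hs₂, by rw [mul_smul, h₁, h₂, ← mul_smul]⟩
    | inv q hq ihq =>
      intro f hf
      have hqX : q ∈ X := hL0X (hQa (hQeq ▸ (sup_eq_closure S K).symm ▸ hq)).1
      obtain ⟨s, hs, hse⟩ := ihq _ (smul_fix_of_centralizer (inv_mem hqX) hf)
      refine ⟨s⁻¹, inv_mem hs, ?_⟩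
      rw [smul_inv_smul] at hse
      rw [inv_smul_eq_iff, hse]
  refine ⟨S, hS2, fun s hs => ⟨hL0X (hQa (hSQ hs)).1, (hQa (hSQ hs)).2⟩, fun x hxX hxa hx2 => ?_, htrans,
    fun s hs hsb => hfree s (hS2.to_le (zpowers_le.2 hs)) (hQa (hSQ hs)).2 hsb⟩
  obtain ⟨s, hs, hse⟩ := htrans (x • b) (smul_fix_of_centralizer hxX hyb)
    fun e => hab (MulAction.injective x (hxa.trans e.symm))
  have h2 := hS2.to_sup_of_normal_left' hx2 (zpowers_le.2 (hXS ⟨hxX, hxa⟩))
  have h := hfree (s⁻¹ * x)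
    (h2.to_le (zpowers_le.2 (mul_mem (inv_mem (mem_sup_left hs)) (mem_sup_right (mem_zpowers x)))))
    (by rw [mul_smul, hxa, inv_smul_eq_iff]; exact (hQa (hSQ hs)).2.symm)
    (by rw [mul_smul, ← hse, inv_smul_smul])
  exact inv_mul_eq_one.1 h ▸ hs

end Cfsg.Agent.SEMain
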