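import Cfsg.Agent.Lib.SEMain.Bender
import Cfsg.Agent.Lib.OddOrder.FittingOf
import Cfsg.Agent.Lib.OddChar.OddTheorem
import Cfsg.Prelude.Def_CaseTheorems

/-!
If all maximal 2-local subgroups of a simple group are conjugate, then one of them is strongly
embedded: two distinct ones meet in a subgroup of odd order.
-/

set_option autoImplicit false
set_option linter.style.haveILetI false
set_option linter.unusedSectionVars false

namespace Cfsg.Agent.SEMain

open Subgroup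

universe u

variable {G : Type u} [Group G] [Finite G]

theorem exists_maximalTwoLocal_ge {P : Subgroup G} (hP : IsPGroup 2 P) (hP1 : P ≠ ⊥) :
    ∃ M, Cfsg.IsMaximalTwoLocal M ∧ normalizer (P : Set G) ≤ M := by
  obtain ⟨M, ⟨hM, hle⟩, hmax⟩ := Set.Finite.exists_maximal
    (Set.toFinite {M : Subgroup G | Cfsg.IsTwoLocal M ∧ normalizer (P : Set G) ≤ M})
    ⟨_, ⟨P, hP, hP1, rfl⟩, le_rfl⟩
  exact ⟨M, ⟨hM, fun N hN hMN => le_antisymm (hmax ⟨hN, hle.trans hMN⟩ hMN) hMN⟩, hle⟩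

/-- A maximal 2-local is self-normalising. -/
theorem normalizer_maximalTwoLocal {M : Subgroup G} (hM : Cfsg.IsMaximalTwoLocal M) :
    normalizer (M : Set G) ≤ M := by
  obtain ⟨T, hT, hT1, hMT⟩ := hM.1
  have hTM : T ≤ M := hMT ▸ le_normalizer
  have hle : ∀ X : Subgroup G, X ≤ M → IsPGroup 2 X → M ≤ normalizer (X : Set G) →
      X ≤ Cfsg.pCoreOf 2 M := fun X hX hp hn x hx =>
    ⟨⟨x, hX hx⟩, AxB.le_pCore ((normal_subgroupOf_iff_le_normalizer hX).2 hn)
      hp.comap_subtype hx, rfl⟩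
  have hQ1 : Cfsg.pCoreOf 2 M ≠ ⊥ := fun h => hT1 (le_bot_iff.1 (h ▸ hle T hTM hT hMT.le))
  have hMQ := OddOrder.FitOf.le_normalizer_pCoreOf 2 M
  have hQp := OddOrder.FitOf.isPGroup_pCoreOf 2 M
  have hEq := hM.2 _ ⟨_, hQp, hQ1, rfl⟩ hMQ
  intro g hg
  rw [← hEq]
  refine SEBrick.mem_normalizer_of fun x hx => ?_
  refine hle ((Cfsg.pCoreOf 2 M).map (MulAut.conj g).toMonoidHom) ?_ (hQp.map _) ?_ ⟨x, hx, rfl⟩
  · rintro _ ⟨y, hy, rfl⟩
    exact (mem_normalizer_iff.1 hg y).1 (map_subtype_le _ hy)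
  · refine SEBrick.le_normalizer_of fun m hm y hy => ?_
    obtain ⟨z, hz, rfl⟩ := hy
    refine ⟨(g⁻¹ * m * g) * z * (g⁻¹ * m * g)⁻¹, (mem_normalizer_iff.1 (hMQ ?_) z).1 hz, ?_⟩
    · simpa using (mem_normalizer_iff.1 (inv_mem hg) m).1 hm
    · show g * (g⁻¹ * m * g * z * (g⁻¹ * m * g)⁻¹) * g⁻¹ = m * (g * z * g⁻¹) * m⁻¹
      group

section Conjugate

variable (h1 : ∀ M M' : Subgroup G, Cfsg.IsMaximalTwoLocal M → Cfsg.IsMaximalTwoLocal M' →
  ∃ g : G, M' = M.map (MulAut.conj g).toMonoidHom)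
include h1

/-- Every maximal 2-local contains a Sylow 2-subgroup. -/
theorem exists_sylow_le_maximalTwoLocal {A : Subgroup G} (hA : Cfsg.IsMaximalTwoLocal A) :
    ∃ S : Sylow 2 G, (S : Subgroup G) ≤ A := by
  haveI : Fact (Nat.Prime 2) := ⟨Nat.prime_two⟩
  obtain ⟨T, hT, hT1, -⟩ := hA.1
  obtain ⟨S, hS⟩ := hT.exists_le_sylow
  obtain ⟨C, hC, hSC⟩ := exists_maximalTwoLocal_ge S.2 fun h => hT1 (le_bot_iff.1 (h ▸ hS))
  obtain ⟨g, rfl⟩ := h1 C A hC hA
  refine ⟨g • S, fun x hx => ?_⟩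
  rw [Sylow.smul_def] at hx
  obtain ⟨y, hy, rfl⟩ := hx
  exact ⟨y, hSC (le_normalizer hy), rfl⟩

/-- A 2-subgroup inside two maximal 2-locals forces them to be equal. -/
theorem eq_of_two_subgroup_le {A B P : Subgroup G} (hA : Cfsg.IsMaximalTwoLocal A)
    (hB : Cfsg.IsMaximalTwoLocal B) (hP : IsPGroup 2 P) (hP1 : P ≠ ⊥) (hPA : P ≤ A) (hPB : P ≤ B) :
    A = B := by
  classical
  haveI : Fact (Nat.Prime 2) := ⟨Nat.prime_two⟩
  by_contra hAB
  obtain ⟨P, ⟨hP, hP1, A, B, hA, hB, hAB, hPA, hPB⟩, hmax⟩ := Set.Finite.exists_maximal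
    (Set.toFinite {P : Subgroup G | IsPGroup 2 P ∧ P ≠ ⊥ ∧ ∃ A B : Subgroup G,
      Cfsg.IsMaximalTwoLocal A ∧ Cfsg.IsMaximalTwoLocal B ∧ A ≠ B ∧ P ≤ A ∧ P ≤ B})
    ⟨P, hP, hP1, A, B, hA, hB, hAB, hPA, hPB⟩
  obtain ⟨C, hC, hNC⟩ := exists_maximalTwoLocal_ge hP hP1
  suffices h : ∀ D, Cfsg.IsMaximalTwoLocal D → P ≤ D → D = C from
    hAB ((h A hA hPA).trans (h B hB hPB).symm)
  intro D hD hPD
  by_contra hDC
  obtain ⟨T, hT⟩ := (hP.comap_subtype (K := D)).exists_le_sylow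
  set S := (T : Subgroup D).map D.subtype with hSdef
  have hSp : IsPGroup 2 S := T.2.map _
  have hPS : P ≤ S := fun x hx => ⟨⟨x, hPD hx⟩, hT hx, rfl⟩
  rcases lt_or_eq_of_le hPS with hlt | heq
  · haveI := hSp.isNilpotent
    have hlt' : P.subgroupOf S < ⊤ := by
      rw [lt_top_iff_ne_top, Ne, subgroupOf_eq_top]
      exact fun hle => hlt.not_ge hle
    obtain ⟨r, hr, hrP⟩ := SetLike.exists_of_lt (Group.normalizerCondition_of_isNilpotent _ hlt')
    have hrN : (r : G) ∈ normalizer (P : Set G) := by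
      refine SEBrick.mem_normalizer_of fun x hx => ?_
      exact (mem_normalizer_iff.1 hr ⟨x, hPS hx⟩).1 hx
    have hle : P ⊔ zpowers (r : G) ≤ S := sup_le hPS (zpowers_le.2 r.2)
    refine hrP (mem_subgroupOf.2 (hmax ⟨hSp.to_le hle, fun h => hP1 (le_bot_iff.1 (h ▸ le_sup_left)),
      D, C, hD, hC, hDC, hle.trans (map_subtype_le _), ?_⟩ le_sup_left (mem_sup_right (mem_zpowers _))))
    exact sup_le (le_normalizer.trans hNC) (zpowers_le.2 (hNC hrN))
  · -- `P` is a Sylow subgroup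
    obtain ⟨S₀, hS₀⟩ := exists_sylow_le_maximalTwoLocal h1 hD
    have hcard : Nat.card P = Nat.card (S₀ : Subgroup G) := by
      rw [heq, hSdef, card_map_of_injective D.subtype_injective,
        Nat.card_congr (Sylow.equiv T (S₀.subtype hS₀)).toEquiv, Sylow.coe_subtype,
        Nat.card_congr (subgroupOfEquivOfLe hS₀).toEquiv]
    let Q : Sylow 2 G := Sylow.ofCard P (hcard.trans (Sylow.card_eq_multiplicity S₀))
    have hQC : (Q : Subgroup G) ≤ C := le_normalizer.trans hNC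
    obtain ⟨g, hg⟩ := h1 C D hC hD
    have hQgC : (g⁻¹ • Q : Sylow 2 G) ≤ (C : Subgroup G) := fun x hx => by
      obtain ⟨y, hy, rfl⟩ := hx
      obtain ⟨c, hc, e⟩ := (hg ▸ hPD hy : y ∈ C.map (MulAut.conj g).toMonoidHom)
      rw [← e]
      simpa [mul_assoc] using hc
    obtain ⟨c, hc⟩ := MulAction.exists_smul_eq C (Q.subtype hQC) ((g⁻¹ • Q).subtype hQgC)
    have hfix : (g * c) • Q = Q := by
      rw [mul_smul]
      have h2 : (c : G) • Q = g⁻¹ • Q := by
        apply Sylow.subtype_injective (P := (c : G) • Q) (Q := g⁻¹ • Q)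
          (hP := fun x hx => by
            obtain ⟨y, hy, rfl⟩ := hx
            exact mul_mem (mul_mem c.2 (hQC hy)) (inv_mem c.2)) (hQ := hQgC)
        rw [← hc]
        exact (Sylow.smul_subtype (hP := hQC) c).symm
      rw [h2, smul_inv_smul]
    have hgc : g * c ∈ C := hNC (by
      have := Sylow.smul_eq_iff_mem_normalizer.1 hfix
      exact this)
    refine hDC (hg.trans (mem_normalizer_iff_map_conj_eq.1 (le_normalizer ?_)))
    simpa using mul_mem hgc (inv_mem c.2)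

/-- One maximal 2-local is strongly embedded. -/
theorem exists_se_of_conj [IsSimpleGroup G] (hG : ¬ IsMulCommutative G) :
    ∃ M : Subgroup G, Cfsg.IsStronglyEmbedded M := by
  haveI : Fact (Nat.Prime 2) := ⟨Nat.prime_two⟩
  have heven : Even (Nat.card G) := by
    by_contra hodd
    haveI := OddChar.oddSolvable G (Nat.not_even_iff_odd.1 hodd)
    exact hG ⟨⟨fun a b => IsSimpleGroup.comm_iff_isSolvable.2 inferInstance a b⟩⟩
  obtain ⟨t, -, ht⟩ := Invol.exists_invol (K := (⊤ : Subgroup G)) (by rwa [card_top])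
  have hp : IsPGroup 2 (zpowers t) :=
    IsPGroup.of_card (n := 1) (by rw [Nat.card_zpowers, ht, pow_one])
  obtain ⟨M, hM, -⟩ := exists_maximalTwoLocal_ge hp fun h => by
    rw [zpowers_eq_bot] at h; rw [h, orderOf_one] at ht; simp at ht
  obtain ⟨T, hT, hT1, hMT⟩ := hM.1
  refine ⟨M, fun htop => ?_, ?_, fun g hg => ?_⟩
  · rcases (normalizer_eq_top_iff.1 (hMT.symm.trans htop)).eq_bot_or_eq_top with hb | ht'
    · exact hT1 hb
    · haveI := (hT.of_equiv ((MulEquiv.subgroupCongr ht').trans topEquiv)).isNilpotent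
      exact hG ⟨⟨fun a b => IsSimpleGroup.comm_iff_isSolvable.2 inferInstance a b⟩⟩
  · have hTM : T ≤ M := hMT ▸ le_normalizer
    obtain ⟨n, hn⟩ := hT.exists_card_eq
    rcases Nat.eq_zero_or_pos n with rfl | hn0
    · exact absurd (card_eq_one.1 (by rw [hn, pow_zero])) hT1
    · exact (even_iff_two_dvd.2 ((dvd_pow_self 2 hn0.ne').trans (hn ▸ card_dvd_of_le hTM)))
  · rw [← Nat.not_even_iff_odd]
    intro hev
    obtain ⟨s, hs, hs2⟩ := Invol.exists_invol hev
    have hsp : IsPGroup 2 (zpowers s) :=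
      IsPGroup.of_card (n := 1) (by rw [Nat.card_zpowers, hs2, pow_one])
    have hMg : Cfsg.IsMaximalTwoLocal (M.map (MulAut.conj g).toMonoidHom) := by
      have e : ∀ (X : Subgroup G) (a : G), (normalizer (X : Set G)).map (MulAut.conj a).toMonoidHom =
          normalizer ((X.map (MulAut.conj a).toMonoidHom : Subgroup G) : Set G) := fun X a =>
        map_normalizer_eq_of_bijective _ (MulAut.conj a).bijective
      refine ⟨⟨T.map (MulAut.conj g).toMonoidHom, hT.map _, fun h => hT1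
        ((map_eq_bot_iff_of_injective _ (MulAut.conj g).injective).1 h), by rw [hMT]; exact e T g⟩,
        fun N hN hle => ?_⟩
      obtain ⟨R, hR, hR1, rfl⟩ := hN
      have h2 := hM.2 ((normalizer (R : Set G)).map (MulAut.conj g⁻¹).toMonoidHom)
        ⟨R.map (MulAut.conj g⁻¹).toMonoidHom, hR.map _, fun h => hR1
          ((map_eq_bot_iff_of_injective _ (MulAut.conj g⁻¹).injective).1 h), e R g⁻¹⟩
        fun x hx => ⟨g * x * g⁻¹, hle ⟨x, hx, rfl⟩, by simp [mul_assoc]⟩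
      rw [← h2, conj_conj_map, mul_inv_cancel]
      ext x; rw [Invol.mem_conj_map]; simp
    have heq := eq_of_two_subgroup_le h1 hM hMg hsp
      (fun h => by rw [zpowers_eq_bot] at h; rw [h, orderOf_one] at hs2; simp at hs2)
      (zpowers_le.2 hs.1) (zpowers_le.2 hs.2)
    refine hg (normalizer_maximalTwoLocal hM ((mem_normalizer_iff_map_conj_eq).2 heq.symm))

omit h1 in
theorem S3245_of [IsSimpleGroup G] (h : Stmt.{u}) (hG : ¬ IsMulCommutative G)
    (h1 : ∀ M M' : Subgroup G, Cfsg.IsMaximalTwoLocal M → Cfsg.IsMaximalTwoLocal M' →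
      ∃ g : G, M' = M.map (MulAut.conj g).toMonoidHom) :
    (∃ (F : Type) (_ : Field F) (_ : Fintype F) (n : ℕ), 2 ≤ n ∧ Fintype.card F = 2 ^ n ∧
        Nonempty (G ≃* Matrix.ProjectiveSpecialLinearGroup (Fin 2) F)) ∨
      Cfsg.Lie.IsoSuzuki G ∨
      (∃ (F : Type) (_ : Field F) (_ : Fintype F) (n : ℕ), 2 ≤ n ∧ Fintype.card F = (2 ^ n) ^ 2 ∧
        Nonempty (G ≃* Cfsg.PSU 3 F (2 ^ n))) := by
  obtain ⟨M, hM⟩ := exists_se_of_conj h1 hG
  rcases bender_of_simple h hM with ⟨F, i1, i2, ⟨n, hn, hF⟩, e⟩ | h' | h'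
  · exact Or.inl ⟨F, i1, i2, n, hn, hF, e⟩
  · exact Or.inr (Or.inl h')
  · exact Or.inr (Or.inr h')

end Conjugate

end Cfsg.Agent.SEMain
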